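import Mathlib.Data.ZMod.Basic
import Mathlib.Data.Matrix.Mul
import Mathlib.Data.Matrix.Reflection
import Mathlib.LinearAlgebra.Matrix.Notation
import Mathlib.Tactic.Ring
import Mathlib.Tactic.LinearCombination
import Mathlib.Tactic.FinCases
import Mathlib.GroupTheory.PGroup
import Mathlib.GroupTheory.OrderOfElement
import Mathlib.Algebra.Group.MinimalAxioms
import Mathlib.GroupTheory.Subgroup.Centralizer
import Mathlib
import Mathlib.Algebra.Module.Equiv.Basic
import Mathlib.GroupTheory.Sylow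
import Cfsg.Agent.MFive.JData
import Cfsg.Agent.CoOneType.QFold
import Cfsg.Agent.MFive.KPair
import Cfsg.Agent.MFive.JTwo
import Cfsg.Agent.CoOneType.CoAp
import Cfsg.Agent.CoOneType.CoQ
import Cfsg.Agent.CoOneType.CoW
import Cfsg.Agent.LThreeMB.SpanQ
import Mathlib.GroupTheory.Nilpotent
import Mathlib.LinearAlgebra.BilinearForm.Orthogonal
import Mathlib.Algebra.Module.ZMod
import Mathlib.Algebra.Field.ZMod
import Mathlib.FieldTheory.Finiteness
import Cfsg.Agent.FastGrp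
import Cfsg.Agent.Prune
set_option linter.all false

section
prune_inst 0x7ff2a9ffcbfcbbdfffff7e7ff7dccffdffb83fffe6dff9cb7fe06bff1bff5ba549c56bad8fec90fedef6e21490f87b53fb7eeeffea6fd87ffffd1ff41ffbffcffdf7b508519488340ffc0ffe83f0778e7f3fffffffffffffffffffffffffffffffbfffffffff

-- part: H777/M5/PGDef
section
set_option linter.all false
open scoped Cfsg.Agent.FastGrp

/-!
# The group `PG` of order `5 ^ 9` (helper777)

`PG = 5^{1+6} : <a, b>`: the vectors `V6` over `F_5` with the form `om`, the matrices `aM`, `bM` (commuting, of order 5,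
isometries of `om`). It is isomorphic to a Sylow 5-subgroup of the Monster. `PData G`: elements of a group `G` satisfying
the relations of `PG`.
-/

set_option autoImplicit false

namespace Cfsg.Agent.H777.M5

open Matrix

/-- vectors -/
abbrev V6 := Fin 6 → ZMod 5

/-- the symplectic form -/
def om (u v : V6) : ZMod 5 := u 0 * v 5 - u 1 * v 4 + u 2 * v 3 - u 3 * v 2 + u 4 * v 1 - u 5 * v 0

/-- the matrix of `a` -/
def aM : Matrix (Fin 6) (Fin 6) (ZMod 5) :=
  !![1, 0, 4, 4, 0, 2;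
     0, 1, 0, 0, 4, 0;
     0, 0, 1, 0, 0, 4;
     0, 0, 2, 1, 0, 4;
     0, 0, 0, 0, 1, 0;
     0, 0, 0, 0, 0, 1]

/-- the matrix of `b` -/
def bM : Matrix (Fin 6) (Fin 6) (ZMod 5) :=
  !![1, 1, 3, 0, 0, 0;
     0, 1, 1, 0, 0, 0;
     0, 0, 1, 0, 0, 0;
     0, 0, 0, 1, 1, 3;
     0, 0, 0, 0, 1, 1;
     0, 0, 0, 0, 0, 1]

theorem aM_bM : aM * bM = bM * aM := by decide +kernel
theorem aM_five : aM ^ 5 = 1 := by decide +kernel
theorem bM_five : bM ^ 5 = 1 := by decide +kernel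

theorem om_add_left (u u' v : V6) : om (u + u') v = om u v + om u' v := by simp only [om, Pi.add_apply]; ring
theorem om_add_right (u v v' : V6) : om u (v + v') = om u v + om u v' := by simp only [om, Pi.add_apply]; ring
theorem om_swap (u v : V6) : om v u = -om u v := by simp only [om]; ring
theorem om_self (u : V6) : om u u = 0 := by simp only [om]; ring
theorem om_zero_left (v : V6) : om 0 v = 0 := by simp [om]
theorem om_zero_right (v : V6) : om v 0 = 0 := by simp [om]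
theorem om_neg_left (u v : V6) : om (-u) v = -om u v := by simp only [om, Pi.neg_apply]; ring
theorem om_neg_right (u v : V6) : om u (-v) = -om u v := by simp only [om, Pi.neg_apply]; ring
theorem om_smul_left (c : ZMod 5) (u v : V6) : om (c • u) v = c * om u v := by
  simp only [om, Pi.smul_apply, smul_eq_mul]; ring
theorem om_smul_right (c : ZMod 5) (u v : V6) : om u (c • v) = c * om u v := by
  simp only [om, Pi.smul_apply, smul_eq_mul]; ring

theorem om_aM (u v : V6) : om (aM *ᵥ u) (aM *ᵥ v) = om u v := by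
  simp only [om, aM, mulVec, dotProduct, Fin.sum_univ_six, of_apply, cons_val', cons_val_zero, cons_val_one, cons_val,
    empty_val', cons_val_fin_one]
  ring

theorem om_bM (u v : V6) : om (bM *ᵥ u) (bM *ᵥ v) = om u v := by
  have h5 : (5 : ZMod 5) = 0 := by decide
  simp only [om, bM, mulVec, dotProduct, Fin.sum_univ_six, of_apply, cons_val', cons_val_zero, cons_val_one, cons_val,
    empty_val', cons_val_fin_one]
  linear_combination (u 2 * v 5 - u 5 * v 2) * h5

theorem om_aM_pow (n : ℕ) (u v : V6) : om ((aM ^ n) *ᵥ u) ((aM ^ n) *ᵥ v) = om u v := by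
  induction n with
  | zero => simp
  | succ n ih => rw [pow_succ', ← mulVec_mulVec, ← mulVec_mulVec, om_aM, ih]

theorem om_bM_pow (n : ℕ) (u v : V6) : om ((bM ^ n) *ᵥ u) ((bM ^ n) *ᵥ v) = om u v := by
  induction n with
  | zero => simp
  | succ n ih => rw [pow_succ', ← mulVec_mulVec, ← mulVec_mulVec, om_bM, ih]

/-- the matrix of `a ^ i * b ^ j` -/
def mat (i j : ZMod 5) : Matrix (Fin 6) (Fin 6) (ZMod 5) := aM ^ i.val * bM ^ j.val

theorem pow_val_add {M : Matrix (Fin 6) (Fin 6) (ZMod 5)} (h : M ^ 5 = 1) (i j : ZMod 5) :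
    M ^ (i + j).val = M ^ i.val * M ^ j.val := by
  rw [ZMod.val_add, ← pow_add]
  conv_rhs => rw [← Nat.div_add_mod (i.val + j.val) 5, pow_add, pow_mul, h, one_pow, one_mul]

theorem comm_pow (m n : ℕ) : aM ^ m * bM ^ n = bM ^ n * aM ^ m := (show Commute aM bM from aM_bM).pow_pow m n

theorem mat_zero : mat 0 0 = 1 := by rw [mat, ZMod.val_zero, pow_zero, pow_zero, one_mul]

theorem mat_add (i j i' j' : ZMod 5) : mat (i + i') (j + j') = mat i j * mat i' j' := by
  unfold mat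
  rw [pow_val_add aM_five, pow_val_add bM_five, mul_assoc, mul_assoc, ← mul_assoc (aM ^ i'.val), comm_pow, mul_assoc]

/-- the action of `a ^ i * b ^ j` -/
def act (i j : ZMod 5) (v : V6) : V6 := mat i j *ᵥ v

theorem act_add (i j : ZMod 5) (u v : V6) : act i j (u + v) = act i j u + act i j v := mulVec_add _ _ _
theorem act_zero (i j : ZMod 5) : act i j 0 = 0 := mulVec_zero _
theorem act_neg (i j : ZMod 5) (v : V6) : act i j (-v) = -act i j v := mulVec_neg _ _
theorem act_one (v : V6) : act 0 0 v = v := by rw [act, mat_zero, one_mulVec]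
theorem act_act (i j i' j' : ZMod 5) (v : V6) : act i j (act i' j' v) = act (i + i') (j + j') v := by
  rw [act, act, act, mat_add, mulVec_mulVec]
theorem om_act (i j : ZMod 5) (u v : V6) : om (act i j u) (act i j v) = om u v := by
  rw [act, act, mat, ← mulVec_mulVec, ← mulVec_mulVec, om_aM_pow, om_bM_pow]

/-- the group `PG` of order `5 ^ 9`: `(v, c, i, j)` stands for `w(v) x ^ c a ^ i b ^ j` -/
@[ext] structure PG where
  v : V6
  c : ZMod 5
  i : ZMod 5
  j : ZMod 5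
  deriving DecidableEq

namespace PG

instance onePG : One PG := ⟨⟨0, 0, 0, 0⟩⟩
instance mulPG : Mul PG := ⟨fun x y =>
  ⟨x.v + act x.i x.j y.v, x.c + y.c + 3 * om x.v (act x.i x.j y.v), x.i + y.i, x.j + y.j⟩⟩
instance invPG : Inv PG := ⟨fun x => ⟨-act (-x.i) (-x.j) x.v, -x.c, -x.i, -x.j⟩⟩

@[simp] theorem one_v : (1 : PG).v = 0 := rfl
@[simp] theorem one_c : (1 : PG).c = 0 := rfl
@[simp] theorem one_i : (1 : PG).i = 0 := rfl
@[simp] theorem one_j : (1 : PG).j = 0 := rfl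
@[simp] theorem mul_v (x y : PG) : (x * y).v = x.v + act x.i x.j y.v := rfl
@[simp] theorem mul_c (x y : PG) : (x * y).c = x.c + y.c + 3 * om x.v (act x.i x.j y.v) := rfl
@[simp] theorem mul_i (x y : PG) : (x * y).i = x.i + y.i := rfl
@[simp] theorem mul_j (x y : PG) : (x * y).j = x.j + y.j := rfl
@[simp] theorem inv_v (x : PG) : (x⁻¹).v = -act (-x.i) (-x.j) x.v := rfl
@[simp] theorem inv_c (x : PG) : (x⁻¹).c = -x.c := rfl
@[simp] theorem inv_i (x : PG) : (x⁻¹).i = -x.i := rfl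
@[simp] theorem inv_j (x : PG) : (x⁻¹).j = -x.j := rfl

instance groupPG : Group PG := Group.ofLeftAxioms
  (by
    intro x y z
    ext1
    · simp only [mul_v, mul_i, mul_j, act_add, act_act, add_assoc]
    · simp only [mul_c, mul_v, mul_i, mul_j, act_add, act_act, om_add_left, om_add_right]
      rw [← act_act, om_act]
      ring
    · simp only [mul_i, add_assoc]
    · simp only [mul_j, add_assoc])
  (by intro x; ext1 <;> simp [act_one, om_zero_left])
  (by
    intro x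
    ext1
    · simp
    · simp [om_neg_left, om_self]
    · simp
    · simp)

/-- tuples -/
def equivProd : PG ≃ V6 × ZMod 5 × ZMod 5 × ZMod 5 where
  toFun x := (x.v, x.c, x.i, x.j)
  invFun p := ⟨p.1, p.2.1, p.2.2.1, p.2.2.2⟩
  left_inv _ := rfl
  right_inv _ := rfl

instance fintypePG : Fintype PG := Fintype.ofEquiv _ equivProd.symm

theorem card_PG : Nat.card PG = 5 ^ 9 := by
  rw [Nat.card_congr equivProd, Nat.card_prod, Nat.card_prod, Nat.card_prod, Nat.card_pi]
  simp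

end PG

/-- Elements of a group `G` satisfying the relations of `PG`. -/
structure PData (G : Type*) [Group G] where
  w : V6 → G
  x : G
  a : G
  b : G
  x_ne : x ≠ 1
  x_five : x ^ 5 = 1
  a_five : a ^ 5 = 1
  b_five : b ^ 5 = 1
  a_b : a * b = b * a
  x_w : ∀ v, x * w v = w v * x
  x_a : x * a = a * x
  x_b : x * b = b * x
  w_mul : ∀ u v, w u * w v = w (u + v) * x ^ (3 * om u v).val
  a_w : ∀ v, a * w v * a⁻¹ = w (aM *ᵥ v)
  b_w : ∀ v, b * w v * b⁻¹ = w (bM *ᵥ v)

end Cfsg.Agent.H777.M5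

private theorem dce_d07fe8c45fea : _root_.True := by
  try have : _root_.True := by simp only [_root_.Cfsg.Agent.H777.M5.bM.eq_1]
  try have : _root_.True := by simp only [_root_.Cfsg.Agent.H777.M5.act.eq_1]
  try have : _root_.True := by simp only [_root_.Cfsg.Agent.H777.M5.mat.eq_1]
  try have : _root_.True := by simp only [_root_.Cfsg.Agent.H777.M5.aM.eq_1]
  try have : _root_.True := by simp only [_root_.Cfsg.Agent.H777.M5.om.eq_1]
  exact _root_.True.intro
end

-- part: H777/M5/MXDef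
section
set_option linter.all false

/-!
# The data for S5230 (helper777)

Matrices (in the basis of `PData`) of elements `i`, `j`, `b'`, `t` of `C(x) ∩ C(z)`, and of `r`, a product of them which
normalizes the Sylow 5-subgroup. `MX G`: the data extracted from the Monster.
-/

set_option autoImplicit false

namespace Cfsg.Agent.H777.M5

open Matrix

/-- the matrix of `i` -/
def iM : Matrix (Fin 6) (Fin 6) (ZMod 5) :=
  !![2, 0, 0, 0, 0, 0;
     0, 2, 0, 0, 0, 0;
     0, 0, 2, 0, 0, 0;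
     0, 0, 0, 3, 0, 0;
     0, 0, 0, 0, 3, 0;
     0, 0, 0, 0, 0, 3]

/-- the matrix of `j` -/
def jM : Matrix (Fin 6) (Fin 6) (ZMod 5) :=
  !![0, 0, 0, 4, 0, 0;
     0, 0, 0, 0, 4, 0;
     0, 0, 0, 0, 0, 4;
     1, 0, 0, 0, 0, 0;
     0, 1, 0, 0, 0, 0;
     0, 0, 1, 0, 0, 0]

/-- the matrix of `b'` -/
def bpM : Matrix (Fin 6) (Fin 6) (ZMod 5) :=
  !![1, 0, 0, 0, 0, 0;
     3, 1, 0, 0, 0, 0;
     2, 3, 1, 0, 0, 0;
     0, 0, 0, 1, 0, 0;
     0, 0, 0, 3, 1, 0;
     0, 0, 0, 2, 3, 1]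

/-- the matrix of `t = b * b' ^ 3 * b ^ 3 * b'` -/
def tM : Matrix (Fin 6) (Fin 6) (ZMod 5) :=
  !![4, 0, 0, 0, 0, 0;
     0, 1, 0, 0, 0, 0;
     0, 0, 4, 0, 0, 0;
     0, 0, 0, 4, 0, 0;
     0, 0, 0, 0, 1, 0;
     0, 0, 0, 0, 0, 4]

theorem tM_eq : tM = bM * bpM ^ 3 * bM ^ 3 * bpM := by decide +kernel

/-- the matrix of `r = j * b' * a * b' * b * a * b' * b * a * b'` -/
def rM : Matrix (Fin 6) (Fin 6) (ZMod 5) := jM * bpM * aM * bpM * bM * aM * bpM * bM * aM * bpM

theorem rM_aM : rM * aM = aM ^ 3 * bM ^ 3 * rM := by decide +kernel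
theorem rM_bM : rM * bM = aM * bM ^ 3 * rM := by decide +kernel

/-- The data extracted from the Monster. -/
structure MX (G : Type) [Group G] extends PData G where
  z : G
  i : G
  j : G
  b' : G
  t : G
  zx : z * x = x * z
  ix : i * x = x * i
  jx : j * x = x * j
  b'x : b' * x = x * b'
  tx : t * x = x * t
  za : z * a = a * z
  zb : z * b = b * z
  zi : z * i = i * z
  zj : z * j = j * z
  zb' : z * b' = b' * z
  tz : t * z = z * t
  ta : t * a = a * t
  tb : t * b * t⁻¹ = b⁻¹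
  z_w : ∀ v, z * w v * z⁻¹ = w (-v)
  i_w : ∀ v, i * w v * i⁻¹ = w (iM *ᵥ v)
  j_w : ∀ v, j * w v * j⁻¹ = w (jM *ᵥ v)
  b'_w : ∀ v, b' * w v * b'⁻¹ = w (bpM *ᵥ v)
  t_w : ∀ v, t * w v * t⁻¹ = w (tM *ᵥ v)
  /-- an element of `C(x) ∩ C(z)` centralizing `W` is a power of `x` -/
  ker : ∀ h, h * x = x * h → h * z = z * h → (∀ v, h * w v * h⁻¹ = w v) → h ∈ Subgroup.zpowers x
  /-- `W` is normal in `C(x)` -/
  normal : ∀ g, g * x = x * g → ∀ v, ∃ (v' : V6) (c : ℕ), g * w v * g⁻¹ = w v' * x ^ c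
  /-- `a` is conjugate to a power of `x` -/
  a_conj : ∃ (g : G) (n : ℕ), g * a * g⁻¹ = x ^ n
  /-- the centralizers of the elements of order 5 commuting with `t` -/
  big : ∀ y : G, orderOf y = 5 → y * t = t * y → 5 ^ 7 ∣ Nat.card ↥(Subgroup.centralizer ({y} : Set G))
  not_dvd : ¬ 5 ^ 10 ∣ Nat.card G

end Cfsg.Agent.H777.M5
end

-- part: H255/M5D/Coord
section
prune_inst 0xd0000300344200000000000022000000300000020000000020400200024108408044000122300010808014000800004811100100020000000a00000000020000000040049208a3002e0000000002000000000000000000000000000000000000000000000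
set_option linter.all false
open scoped Cfsg.Agent.FastGrp

-- part: H255/M5D/Mat
section
/-!
# Finite checks for the coordinates of the Sylow 5-subgroup of the Monster (helper255)
-/

set_option autoImplicit false

namespace Cfsg.Agent.H255.M5D

open Cfsg.Agent.H777.M5 Matrix

abbrev F := ZMod 5
abbrev M2 := Matrix (Fin 2) (Fin 2) (ZMod 5)
abbrev M6 := Matrix (Fin 6) (Fin 6) (ZMod 5)

def D2 : M2 := !![2, 0; 0, 3]
def J2 : M2 := !![0, 4; 1, 0]
def X0 : M2 := !![1, 4; 0, 1]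

/-- multiplication of pairs `X + Y e`, `e ^ 2 = 0` -/
def pm (P Q : M2 × M2) : M2 × M2 := (P.1 * Q.1, P.1 * Q.2 + P.2 * Q.1)
def pw3 (P : M2 × M2) : M2 × M2 := pm (pm P P) P
def pw5 (P : M2 × M2) : M2 × M2 := pm (pm (pm P P) (pm P P)) P

theorem fin1 : ∀ p q r s : ZMod 5, !![p, q; r, s] * D2 * !![p, q; r, s] = D2 →
    (J2 * !![p, q; r, s]) * (J2 * !![p, q; r, s]) * (J2 * !![p, q; r, s]) = 1 →
    (D2 * J2 * !![p, q; r, s]) * (D2 * J2 * !![p, q; r, s]) * ((D2 * J2 * !![p, q; r, s]) * (D2 * J2 * !![p, q; r, s])) *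
      (D2 * J2 * !![p, q; r, s]) = 1 →
    (!![p, q; r, s] : M2) * !![p, q; r, s] * (!![p, q; r, s] * !![p, q; r, s]) * !![p, q; r, s] = 1 →
    !![p, q; r, s] = X0 := by
  intro p q r s h
  have h' : !![p, q; r, s] * !![2, 0; 0, 3] * !![p, q; r, s] = D2 := h
  rw [Matrix.mul_fin_two, Matrix.mul_fin_two] at h'
  have e0 : (p * 2 + q * 0) * p + (p * 0 + q * 3) * r = 2 := congrFun (congrFun h' 0) 0
  have e1 : (p * 2 + q * 0) * q + (p * 0 + q * 3) * s = 0 := congrFun (congrFun h' 0) 1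
  have e2 : (r * 2 + s * 0) * p + (r * 0 + s * 3) * r = 0 := congrFun (congrFun h' 1) 0
  have e3 : (r * 2 + s * 0) * q + (r * 0 + s * 3) * s = 3 := congrFun (congrFun h' 1) 1
  clear h h'
  revert p q r s
  decide +kernel

theorem fin2 : ∀ p q r s : ZMod 5, pm (pm (X0, !![p, q; r, s]) (D2, 0)) (X0, !![p, q; r, s]) = (D2, 0) →
    pw3 (pm (J2, 0) (X0, !![p, q; r, s])) = (1, 0) →
    pw5 (pm (pm (D2, 0) (J2, 0)) (X0, !![p, q; r, s])) = (1, 0) → q = 3 * p ∧ r = 3 * p ∧ s = p := by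
  intro p q r s h
  have h' : !![1, 4; 0, 1] * !![2, 0; 0, 3] * !![p, q; r, s] +
    (X0 * 0 + !![p, q; r, s] * !![2, 0; 0, 3]) * !![1, 4; 0, 1] = 0 := congrArg Prod.snd h
  rw [mul_zero, zero_add, Matrix.mul_fin_two, Matrix.mul_fin_two, Matrix.mul_fin_two, Matrix.mul_fin_two] at h'
  have e0 : (1 * 2 + 4 * 0) * p + (1 * 0 + 4 * 3) * r + ((p * 2 + q * 0) * 1 + (p * 0 + q * 3) * 0) = 0 :=
    congrFun (congrFun h' 0) 0
  have e1 : (1 * 2 + 4 * 0) * q + (1 * 0 + 4 * 3) * s + ((p * 2 + q * 0) * 4 + (p * 0 + q * 3) * 1) = 0 :=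
    congrFun (congrFun h' 0) 1
  obtain rfl := (by decide +kernel : ∀ p q r : ZMod 5,
    (1 * 2 + 4 * 0) * p + (1 * 0 + 4 * 3) * r + ((p * 2 + q * 0) * 1 + (p * 0 + q * 3) * 0) = 0 → r = 3 * p) _ _ _ e0
  obtain rfl := (by decide +kernel : ∀ p q s : ZMod 5,
    (1 * 2 + 4 * 0) * q + (1 * 0 + 4 * 3) * s + ((p * 2 + q * 0) * 4 + (p * 0 + q * 3) * 1) = 0 → p = s) _ _ _ e1
  clear h h' e0 e1
  revert p q
  decide +kernel

/-- `X ⊗ 1 + Y ⊗ N ^ 2` -/
def K (P : M2 × M2) : M6 :=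
  !![P.1 0 0, 0, P.2 0 0, P.1 0 1, 0, P.2 0 1;
     0, P.1 0 0, 0, 0, P.1 0 1, 0;
     0, 0, P.1 0 0, 0, 0, P.1 0 1;
     P.1 1 0, 0, P.2 1 0, P.1 1 1, 0, P.2 1 1;
     0, P.1 1 0, 0, 0, P.1 1 1, 0;
     0, 0, P.1 1 0, 0, 0, P.1 1 1]

/-- the literal form -/
def Kl (a b c d a' b' c' d' : F) : M6 :=
  !![a, 0, a', b, 0, b'; 0, a, 0, 0, b, 0; 0, 0, a, 0, 0, b; c, 0, c', d, 0, d'; 0, c, 0, 0, d, 0; 0, 0, c, 0, 0, d]

theorem K_eq (P : M2 × M2) : K P = Kl (P.1 0 0) (P.1 0 1) (P.1 1 0) (P.1 1 1) (P.2 0 0) (P.2 0 1) (P.2 1 0) (P.2 1 1) :=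
  rfl

set_option maxHeartbeats 4000000 in
theorem Kl_mul (a b c d a' b' c' d' e f g h e' f' g' h' : F) :
    Kl a b c d a' b' c' d' * Kl e f g h e' f' g' h' =
      Kl (a * e + b * g) (a * f + b * h) (c * e + d * g) (c * f + d * h) (a * e' + b * g' + (a' * e + b' * g))
        (a * f' + b * h' + (a' * f + b' * h)) (c * e' + d * g' + (c' * e + d' * g))
        (c * f' + d * h' + (c' * f + d' * h)) := by
  ext i j
  rw [Matrix.mul_apply, Fin.sum_univ_six]
  fin_cases i <;> fin_cases j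
  · show a * e + 0 * 0 + a' * 0 + b * g + 0 * 0 + b' * 0 = a * e + b * g
    ring
  · show a * 0 + 0 * e + a' * 0 + b * 0 + 0 * g + b' * 0 = 0
    ring
  · show a * e' + 0 * 0 + a' * e + b * g' + 0 * 0 + b' * g = a * e' + b * g' + (a' * e + b' * g)
    ring
  · show a * f + 0 * 0 + a' * 0 + b * h + 0 * 0 + b' * 0 = a * f + b * h
    ring
  · show a * 0 + 0 * f + a' * 0 + b * 0 + 0 * h + b' * 0 = 0
    ring
  · show a * f' + 0 * 0 + a' * f + b * h' + 0 * 0 + b' * h = a * f' + b * h' + (a' * f + b' * h)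
    ring
  · show 0 * e + a * 0 + 0 * 0 + 0 * g + b * 0 + 0 * 0 = 0
    ring
  · show 0 * 0 + a * e + 0 * 0 + 0 * 0 + b * g + 0 * 0 = a * e + b * g
    ring
  · show 0 * e' + a * 0 + 0 * e + 0 * g' + b * 0 + 0 * g = 0
    ring
  · show 0 * f + a * 0 + 0 * 0 + 0 * h + b * 0 + 0 * 0 = 0
    ring
  · show 0 * 0 + a * f + 0 * 0 + 0 * 0 + b * h + 0 * 0 = a * f + b * h
    ring
  · show 0 * f' + a * 0 + 0 * f + 0 * h' + b * 0 + 0 * h = 0
    ring
  · show 0 * e + 0 * 0 + a * 0 + 0 * g + 0 * 0 + b * 0 = 0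
    ring
  · show 0 * 0 + 0 * e + a * 0 + 0 * 0 + 0 * g + b * 0 = 0
    ring
  · show 0 * e' + 0 * 0 + a * e + 0 * g' + 0 * 0 + b * g = a * e + b * g
    ring
  · show 0 * f + 0 * 0 + a * 0 + 0 * h + 0 * 0 + b * 0 = 0
    ring
  · show 0 * 0 + 0 * f + a * 0 + 0 * 0 + 0 * h + b * 0 = 0
    ring
  · show 0 * f' + 0 * 0 + a * f + 0 * h' + 0 * 0 + b * h = a * f + b * h
    ring
  · show c * e + 0 * 0 + c' * 0 + d * g + 0 * 0 + d' * 0 = c * e + d * g
    ring
  · show c * 0 + 0 * e + c' * 0 + d * 0 + 0 * g + d' * 0 = 0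
    ring
  · show c * e' + 0 * 0 + c' * e + d * g' + 0 * 0 + d' * g = c * e' + d * g' + (c' * e + d' * g)
    ring
  · show c * f + 0 * 0 + c' * 0 + d * h + 0 * 0 + d' * 0 = c * f + d * h
    ring
  · show c * 0 + 0 * f + c' * 0 + d * 0 + 0 * h + d' * 0 = 0
    ring
  · show c * f' + 0 * 0 + c' * f + d * h' + 0 * 0 + d' * h = c * f' + d * h' + (c' * f + d' * h)
    ring
  · show 0 * e + c * 0 + 0 * 0 + 0 * g + d * 0 + 0 * 0 = 0
    ring
  · show 0 * 0 + c * e + 0 * 0 + 0 * 0 + d * g + 0 * 0 = c * e + d * g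
    ring
  · show 0 * e' + c * 0 + 0 * e + 0 * g' + d * 0 + 0 * g = 0
    ring
  · show 0 * f + c * 0 + 0 * 0 + 0 * h + d * 0 + 0 * 0 = 0
    ring
  · show 0 * 0 + c * f + 0 * 0 + 0 * 0 + d * h + 0 * 0 = c * f + d * h
    ring
  · show 0 * f' + c * 0 + 0 * f + 0 * h' + d * 0 + 0 * h = 0
    ring
  · show 0 * e + 0 * 0 + c * 0 + 0 * g + 0 * 0 + d * 0 = 0
    ring
  · show 0 * 0 + 0 * e + c * 0 + 0 * 0 + 0 * g + d * 0 = 0
    ring
  · show 0 * e' + 0 * 0 + c * e + 0 * g' + 0 * 0 + d * g = c * e + d * g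
    ring
  · show 0 * f + 0 * 0 + c * 0 + 0 * h + 0 * 0 + d * 0 = 0
    ring
  · show 0 * 0 + 0 * f + c * 0 + 0 * 0 + 0 * h + d * 0 = 0
    ring
  · show 0 * f' + 0 * 0 + c * f + 0 * h' + 0 * 0 + d * h = c * f + d * h
    ring

theorem K_mul (P Q : M2 × M2) : K P * K Q = K (pm P Q) := by
  have h1 : ∀ i j, (P.1 * Q.1) i j = P.1 i 0 * Q.1 0 j + P.1 i 1 * Q.1 1 j := fun i j => by
    rw [Matrix.mul_apply, Fin.sum_univ_two]
  have h2 : ∀ i j, (P.1 * Q.2 + P.2 * Q.1) i j = P.1 i 0 * Q.2 0 j + P.1 i 1 * Q.2 1 j +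
      (P.2 i 0 * Q.1 0 j + P.2 i 1 * Q.1 1 j) := fun i j => by
    rw [Matrix.add_apply, Matrix.mul_apply, Matrix.mul_apply, Fin.sum_univ_two, Fin.sum_univ_two]
  rw [K_eq, K_eq, Kl_mul, K_eq, pm]
  simp only [h1, h2]

theorem K_inj {P Q : M2 × M2} (h : K P = K Q) : P = Q := by
  have h' : ∀ i j, K P i j = K Q i j := fun i j => by rw [h]
  refine Prod.ext ?_ ?_
  · ext i j
    fin_cases i <;> fin_cases j
    · exact h' 0 0
    · exact h' 0 3
    · exact h' 3 0
    · exact h' 3 3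
  · ext i j
    fin_cases i <;> fin_cases j
    · exact h' 0 2
    · exact h' 0 5
    · exact h' 3 2
    · exact h' 3 5

theorem K_one : K (1, 0) = 1 := by
  ext i j
  (revert i j; simp only [K, _root_.Fin.forall_fin_succ, _root_.Matrix.one_apply_eq, _root_.Matrix.zero_apply, Fin.isValue, _root_.ne_eq, _root_.zero_ne_one, _root_.not_false_eq_true, _root_.Matrix.one_apply_ne, _root_.one_ne_zero, _root_.Matrix.of_apply, _root_.Matrix.cons_val', _root_.Matrix.cons_val_fin_one, _root_.Matrix.cons_val_zero, _root_.Matrix.cons_val_succ, _root_.IsEmpty.forall_iff, _root_.and_true, Nat.reduceAdd, _root_.Fin.succ_zero_eq_one, _root_.Fin.succ_one_eq_two, Fin.reduceEq, Fin.reduceSucc, _root_.and_self, _root_.Fin.succ_ne_zero, _root_.true_and])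

def D6 : M6 := K (D2, 0)
def J6 : M6 := K (J2, 0)

/-- the matrix of `N = log b` -/
def n6 : M6 :=
  !![0, 1, 0, 0, 0, 0;
     0, 0, 1, 0, 0, 0;
     0, 0, 0, 0, 0, 0;
     0, 0, 0, 0, 1, 0;
     0, 0, 0, 0, 0, 1;
     0, 0, 0, 0, 0, 0]

/-- the matrix of `t`, up to sign -/
def t6 : M6 := Matrix.diagonal ![1, -1, 1, 1, -1, 1]

/-- the matrices commuting with `n6` and `t6` -/
theorem exists_K {a : M6} (h1 : a * n6 = n6 * a) (h2 : a * t6 = t6 * a) : ∃ P : M2 × M2, a = K P := by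
  have e2 : ∀ i j, a i j * (![1, -1, 1, 1, -1, 1] j : F) = (![1, -1, 1, 1, -1, 1] i : F) * a i j := by
    intro i j
    have := congrFun (congrFun h2 i) j
    rwa [t6, Matrix.mul_diagonal, Matrix.diagonal_mul] at this
  have z : ∀ x : F, x * -1 = 1 * x → x = 0 := by decide
  have z' : ∀ x : F, x * 1 = -1 * x → x = 0 := by decide
  have e1 : ∀ i j, (a * n6) i j = (n6 * a) i j := fun i j => by rw [h1]
  simp only [Matrix.mul_apply, Fin.sum_univ_six] at e1
  have p01 : a 0 1 = 0 := z _ (e2 0 1)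
  have p04 : a 0 4 = 0 := z _ (e2 0 4)
  have p10 : a 1 0 = 0 := z' _ (e2 1 0)
  have p12 : a 1 2 = 0 := z' _ (e2 1 2)
  have p13 : a 1 3 = 0 := z' _ (e2 1 3)
  have p15 : a 1 5 = 0 := z' _ (e2 1 5)
  have p21 : a 2 1 = 0 := z _ (e2 2 1)
  have p24 : a 2 4 = 0 := z _ (e2 2 4)
  have p31 : a 3 1 = 0 := z _ (e2 3 1)
  have p34 : a 3 4 = 0 := z _ (e2 3 4)
  have p40 : a 4 0 = 0 := z' _ (e2 4 0)
  have p42 : a 4 2 = 0 := z' _ (e2 4 2)
  have p43 : a 4 3 = 0 := z' _ (e2 4 3)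
  have p45 : a 4 5 = 0 := z' _ (e2 4 5)
  have p51 : a 5 1 = 0 := z _ (e2 5 1)
  have p54 : a 5 4 = 0 := z _ (e2 5 4)
  have q01 : a 0 0 = a 1 1 := by simpa [n6] using e1 0 1
  have q04 : a 0 3 = a 1 4 := by simpa [n6] using e1 0 4
  have q10 : 0 = a 2 0 := by simpa [n6] using e1 1 0
  have q12 : a 1 1 = a 2 2 := by simpa [n6] using e1 1 2
  have q13 : 0 = a 2 3 := by simpa [n6] using e1 1 3
  have q15 : a 1 4 = a 2 5 := by simpa [n6] using e1 1 5
  have q21 : a 2 0 = 0 := by simpa [n6] using e1 2 1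
  have q24 : a 2 3 = 0 := by simpa [n6] using e1 2 4
  have q31 : a 3 0 = a 4 1 := by simpa [n6] using e1 3 1
  have q34 : a 3 3 = a 4 4 := by simpa [n6] using e1 3 4
  have q40 : 0 = a 5 0 := by simpa [n6] using e1 4 0
  have q42 : a 4 1 = a 5 2 := by simpa [n6] using e1 4 2
  have q43 : 0 = a 5 3 := by simpa [n6] using e1 4 3
  have q45 : a 4 4 = a 5 5 := by simpa [n6] using e1 4 5
  have q51 : a 5 0 = 0 := by simpa [n6] using e1 5 1
  have q54 : a 5 3 = 0 := by simpa [n6] using e1 5 4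
  refine ⟨(!![a 0 0, a 0 3; a 3 0, a 3 3], !![a 0 2, a 0 5; a 3 2, a 3 5]), ?_⟩
  ext i j
  fin_cases i <;> fin_cases j
  · exact rfl
  · exact p01
  · exact rfl
  · exact rfl
  · exact p04
  · exact rfl
  · exact p10
  · exact q01.symm
  · exact p12
  · exact p13
  · exact q04.symm
  · exact p15
  · exact q21
  · exact p21
  · exact (q01.trans q12).symm
  · exact q24
  · exact p24
  · exact (q04.trans q15).symm
  · exact rfl
  · exact p31
  · exact rfl
  · exact rfl
  · exact p34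
  · exact rfl
  · exact p40
  · exact q31.symm
  · exact p42
  · exact p43
  · exact q34.symm
  · exact p45
  · exact q51
  · exact p51
  · exact (q31.trans q42).symm
  · exact q54
  · exact p54
  · exact (q34.trans q45).symm

/-- the first finite check, in `K` form -/
theorem eq_X0 {P : M2 × M2} (h1 : K P * D6 * K P = D6) (h2 : (J6 * K P) * (J6 * K P) * (J6 * K P) = 1)
    (h3 : (D6 * J6 * K P) * (D6 * J6 * K P) * ((D6 * J6 * K P) * (D6 * J6 * K P)) * (D6 * J6 * K P) = 1)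
    (h4 : K P * K P * (K P * K P) * K P = 1) : ∃ d : F, P = (X0, !![d, 3 * d; 3 * d, d]) := by
  rw [← K_one] at h2 h3 h4
  unfold D6 at h1 h3
  unfold J6 at h2 h3
  simp only [K_mul] at h1 h2 h3 h4
  have k1 := K_inj h1
  have k2 := K_inj h2
  have k3 := K_inj h3
  have k4 := K_inj h4
  have e : P.1 = !![P.1 0 0, P.1 0 1; P.1 1 0, P.1 1 1] := Matrix.eta_fin_two _
  have e' : P.2 = !![P.2 0 0, P.2 0 1; P.2 1 0, P.2 1 1] := Matrix.eta_fin_two _
  have c1 : P.1 = X0 := by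
    have l1 : P.1 * D2 * P.1 = D2 := congrArg Prod.fst k1
    have l2 : (J2 * P.1) * (J2 * P.1) * (J2 * P.1) = 1 := congrArg Prod.fst k2
    have l3 : (D2 * J2 * P.1) * (D2 * J2 * P.1) * ((D2 * J2 * P.1) * (D2 * J2 * P.1)) * (D2 * J2 * P.1) = 1 :=
      congrArg Prod.fst k3
    have l4 : P.1 * P.1 * (P.1 * P.1) * P.1 = 1 := congrArg Prod.fst k4
    rw [e] at l1 l2 l3 l4 ⊢
    exact fin1 _ _ _ _ l1 l2 l3 l4
  have c2 : P = (X0, !![P.2 0 0, P.2 0 1; P.2 1 0, P.2 1 1]) := Prod.ext c1 e'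
  rw [c2] at k1 k2 k3
  obtain ⟨r1, r2, r3⟩ := fin2 _ _ _ _ k1 k2 k3
  exact ⟨P.2 0 0, by rw [r1, r2, r3] at c2; exact c2⟩

/-- the matrix of `b'` -/
def B6 : M6 :=
  !![1, 0, 0, 0, 0, 0;
     3, 1, 0, 0, 0, 0;
     2, 3, 1, 0, 0, 0;
     0, 0, 0, 1, 0, 0;
     0, 0, 0, 3, 1, 0;
     0, 0, 0, 2, 3, 1]

private def dec (a : ℕ → ℕ → ℕ) : M6 := Matrix.of fun i j => ((a i j : ℕ) : ZMod 5)

private def cv (A : M6) (i j : ℕ) : ℕ := (A (Fin.ofNat 6 i) (Fin.ofNat 6 j)).val

private def mu (a b : ℕ → ℕ → ℕ) (i j : ℕ) : ℕ :=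
  Nat.mod (Nat.add (Nat.add (Nat.add (Nat.add (Nat.add (Nat.mul (a i 0) (b 0 j)) (Nat.mul (a i 1) (b 1 j)))
    (Nat.mul (a i 2) (b 2 j))) (Nat.mul (a i 3) (b 3 j))) (Nat.mul (a i 4) (b 4 j))) (Nat.mul (a i 5) (b 5 j))) 5

private theorem dec_cv (A : M6) : dec (cv A) = A := by
  ext i j
  show (((A (Fin.ofNat 6 i) (Fin.ofNat 6 j)).val : ℕ) : ZMod 5) = A i j
  rw [ZMod.natCast_zmod_val, Fin.ofNat_val_eq_self, Fin.ofNat_val_eq_self]

private theorem dec_mul (a b : ℕ → ℕ → ℕ) : dec a * dec b = dec (mu a b) := by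
  ext i j
  rw [Matrix.mul_apply, Fin.sum_univ_six]
  show _ = (((a i 0 * b 0 j + a i 1 * b 1 j + a i 2 * b 2 j + a i 3 * b 3 j + a i 4 * b 4 j + a i 5 * b 5 j) % 5 : ℕ) : ZMod 5)
  rw [ZMod.natCast_mod]
  push_cast
  rfl

/-- the last finite check -/
theorem fin3 : ∀ d : F, let m := K (X0, !![d, 3 * d; 3 * d, d]) * B6
    (let m3 := m * m * m; let m5 := m3 * m * m; m5 * m5 * m5 = 1 ∨ m5 * m5 * m5 = -1) →
    (K (X0, !![d, 3 * d; 3 * d, d]) * B6 ≠ B6 * K (X0, !![d, 3 * d; 3 * d, d])) → K (X0, !![d, 3 * d; 3 * d, d]) = aM := by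
  intro d m h _
  have h' : ∀ m : M6, (let m3 := m * m * m; let m5 := m3 * m * m; m5 * m5 * m5 = 1 ∨ m5 * m5 * m5 = -1) →
      let a := cv m; let b := mu (mu (mu (mu a a) a) a) a; dec (mu (mu b b) b) = 1 ∨ dec (mu (mu b b) b) = -1 := by
    intro m h
    simp only [← dec_mul, dec_cv]
    exact h
  have h1 := h' m h
  clear h h'
  revert d
  decide +kernel

/-- the skew matrices anticommuting with `t6` and commuting with `D6`, `J6` -/
def Zm (l n : F) : M6 :=
  !![0, l, 0, 0, 0, 0;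
     n, 0, l, 0, 0, 0;
     0, n, 0, 0, 0, 0;
     0, 0, 0, 0, l, 0;
     0, 0, 0, n, 0, l;
     0, 0, 0, 0, n, 0]

theorem D6_eq : D6 = Matrix.diagonal ![2, 2, 2, 3, 3, 3] := by decide +kernel

theorem exists_Zm {z : M6} (h1 : z * t6 = -(t6 * z)) (h2 : z * D6 = D6 * z) (h3 : z * J6 = J6 * z)
    (h4 : ∀ u v, om (z *ᵥ u) v = -om u (z *ᵥ v)) : ∃ l n : F, z = Zm l n := by
  have e1 : ∀ i j, z i j * (![1, -1, 1, 1, -1, 1] j : F) = -((![1, -1, 1, 1, -1, 1] i : F) * z i j) := by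
    intro i j
    have := congrFun (congrFun h1 i) j
    rwa [t6, Matrix.mul_diagonal, Matrix.neg_apply, Matrix.diagonal_mul] at this
  have e2 : ∀ i j, z i j * (![2, 2, 2, 3, 3, 3] j : F) = (![2, 2, 2, 3, 3, 3] i : F) * z i j := by
    intro i j
    have := congrFun (congrFun h2 i) j
    rwa [D6_eq, Matrix.mul_diagonal, Matrix.diagonal_mul] at this
  have e3 : ∀ i j, (z * J6) i j = (J6 * z) i j := fun i j => by rw [h3]
  have a1 : ∀ x : F, x * 1 = -(1 * x) → x = 0 := by decide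
  have a2 : ∀ x : F, x * -1 = -(-1 * x) → x = 0 := by decide
  have b1 : ∀ x : F, x * 3 = 2 * x → x = 0 := by decide
  have b2 : ∀ x : F, x * 2 = 3 * x → x = 0 := by decide
  simp only [Matrix.mul_apply, Fin.sum_univ_six] at e3
  have c4 : ∀ x y : F, x * 4 = 4 * y → x = y := by decide
  have p00 : z 0 0 = 0 := a1 _ (e1 0 0)
  have p02 : z 0 2 = 0 := a1 _ (e1 0 2)
  have p03 : z 0 3 = 0 := a1 _ (e1 0 3)
  have p04 : z 0 4 = 0 := b1 _ (e2 0 4)
  have p05 : z 0 5 = 0 := a1 _ (e1 0 5)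
  have p11 : z 1 1 = 0 := a2 _ (e1 1 1)
  have p13 : z 1 3 = 0 := b1 _ (e2 1 3)
  have p14 : z 1 4 = 0 := a2 _ (e1 1 4)
  have p15 : z 1 5 = 0 := b1 _ (e2 1 5)
  have p20 : z 2 0 = 0 := a1 _ (e1 2 0)
  have p22 : z 2 2 = 0 := a1 _ (e1 2 2)
  have p23 : z 2 3 = 0 := a1 _ (e1 2 3)
  have p24 : z 2 4 = 0 := b1 _ (e2 2 4)
  have p25 : z 2 5 = 0 := a1 _ (e1 2 5)
  have p30 : z 3 0 = 0 := a1 _ (e1 3 0)
  have p31 : z 3 1 = 0 := b2 _ (e2 3 1)
  have p32 : z 3 2 = 0 := a1 _ (e1 3 2)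
  have p33 : z 3 3 = 0 := a1 _ (e1 3 3)
  have p35 : z 3 5 = 0 := a1 _ (e1 3 5)
  have p40 : z 4 0 = 0 := b2 _ (e2 4 0)
  have p41 : z 4 1 = 0 := a2 _ (e1 4 1)
  have p42 : z 4 2 = 0 := b2 _ (e2 4 2)
  have p44 : z 4 4 = 0 := a2 _ (e1 4 4)
  have p50 : z 5 0 = 0 := a1 _ (e1 5 0)
  have p51 : z 5 1 = 0 := b2 _ (e2 5 1)
  have p52 : z 5 2 = 0 := a1 _ (e1 5 2)
  have p53 : z 5 3 = 0 := a1 _ (e1 5 3)
  have p55 : z 5 5 = 0 := a1 _ (e1 5 5)
  have q04 : z 0 1 = z 3 4 := by
    have := e3 0 4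
    simp [J6, K, J2] at this
    exact c4 _ _ this
  have q13 : z 1 0 = z 4 3 := by
    have := e3 1 3
    simp [J6, K, J2] at this
    exact c4 _ _ this
  have q15 : z 1 2 = z 4 5 := by
    have := e3 1 5
    simp [J6, K, J2] at this
    exact c4 _ _ this
  have q24 : z 2 1 = z 5 4 := by
    have := e3 2 4
    simp [J6, K, J2] at this
    exact c4 _ _ this
  have s1 : z 0 1 = z 4 5 := by
    have := h4 (Pi.single 1 1) (Pi.single 5 1)
    simpa [om] using this
  have s2 : z 2 1 = z 4 3 := by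
    have := h4 (Pi.single 1 1) (Pi.single 3 1)
    simpa [om] using this
  refine ⟨z 0 1, z 1 0, ?_⟩
  ext i j
  fin_cases i <;> fin_cases j
  · exact p00
  · exact rfl
  · exact p02
  · exact p03
  · exact p04
  · exact p05
  · exact rfl
  · exact p11
  · exact (s1.trans q15.symm).symm
  · exact p13
  · exact p14
  · exact p15
  · exact p20
  · exact s2.trans q13.symm
  · exact p22
  · exact p23
  · exact p24
  · exact p25
  · exact p30
  · exact p31
  · exact p32
  · exact p33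
  · exact q04.symm
  · exact p35
  · exact p40
  · exact p41
  · exact p42
  · exact q13.symm
  · exact p44
  · exact s1.symm
  · exact p50
  · exact p51
  · exact p52
  · exact p53
  · exact (q24.symm.trans (s2.trans q13.symm))
  · exact p55

theorem fin4 : ∀ l n : F, let b := 1 + Zm l n + 3 • (Zm l n * Zm l n)
    (let m := bM * b; m * m * m = 1 ∨ m * m * m = -1) → (let m := bM * (b * b); m * m = 1 ∨ m * m = -1) →
    b = B6 := by
  intro l n b h1 h2
  have h' : ∀ z : M6, (let m := bM * (1 + z + 3 • (z * z)); m * m * m = 1 ∨ m * m * m = -1) →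
      (let m := bM * ((1 + z + 3 • (z * z)) * (1 + z + 3 • (z * z))); m * m = 1 ∨ m * m = -1) →
      let b := fun i j => Nat.add (Nat.add (cv 1 i j) (cv z i j)) (Nat.mul 3 (mu (cv z) (cv z) i j))
      (let m := mu (cv bM) b; dec (mu (mu m m) m) = 1 ∨ dec (mu (mu m m) m) = -1) ∧
      (let m := mu (cv bM) (mu b b); dec (mu m m) = 1 ∨ dec (mu m m) = -1) := by
    intro z h1 h2 b
    have hb : dec b = dec (cv 1) + dec (cv z) + 3 • dec (mu (cv z) (cv z)) := by
      ext i j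
      show ((cv 1 i j + cv z i j + 3 * mu (cv z) (cv z) i j : ℕ) : ZMod 5) =
        (cv 1 i j : ℕ) + (cv z i j : ℕ) + 3 • ((mu (cv z) (cv z) i j : ℕ) : ZMod 5)
      rw [nsmul_eq_mul]
      push_cast
      rfl
    simp only [← dec_mul, dec_cv, hb]
    exact ⟨h1, h2⟩
  have h3 := h' (Zm l n) h1 h2
  clear h1 h2 h'
  revert l n
  decide +kernel

theorem bM_eq : bM = 1 + n6 + 3 • (n6 * n6) := by decide +kernel

end Cfsg.Agent.H255.M5D
end

-- part: H255/M5D/Lin
section
/-!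
# Linear algebra over `F_5` in dimension 6: the normal form (helper255)
-/

set_option autoImplicit false

namespace Cfsg.Agent.H255.M5D

open Cfsg.Agent.H777.M5 Matrix

attribute [-instance] AddSubgroupClass.instZModModule

instance fact5 : Fact (Nat.Prime 5) := ⟨by norm_num⟩

abbrev E6 := Module.End F V6

theorem five_smul (v : V6) : (5 : F) • v = 0 := by
  have h : (5 : F) = 0 := by decide
  rw [h, zero_smul]

theorem five_eq_zero : (5 : E6) = 0 := by
  refine LinearMap.ext fun v => ?_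
  show (5 : ℕ) • v = 0
  rw [← five_smul v]
  module

/-! ### logarithms in a ring of characteristic 5 -/

section Ring

variable {R : Type*} [Ring R]

/-- the logarithm of a unipotent element -/
def lg (X : R) : R := (X - 1) - 3 • ((X - 1) * (X - 1))

theorem sub_one_pow_five (h5 : (5 : R) = 0) {X : R} (h : X ^ 5 = 1) : (X - 1) ^ 5 = 0 := by
  have e : (X - 1) ^ 5 = (X ^ 5 - 1) - (5 : ℕ) • (X ^ 4 - 2 • X ^ 3 + 2 • X ^ 2 - X) := by noncomm_ring
  have e5 : ∀ Y : R, (5 : ℕ) • Y = 0 := fun Y => by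
    rw [nsmul_eq_mul]
    push_cast
    rw [h5, zero_mul]
  rw [e, h, e5, sub_self, sub_zero]

theorem comm_lg {Y X : R} (h : Y * X = X * Y) : Y * lg X = lg X * Y := by
  have h1 : Commute Y (X - 1) := (show Commute Y X from h).sub_right (Commute.one_right _)
  exact h1.sub_right ((h1.mul_right h1).smul_right 3)

variable {X T : R} (h3 : (X - 1) * (X - 1) * (X - 1) = 0)

include h3

theorem lg_sq : lg X * lg X = (X - 1) * (X - 1) := by
  unfold lg
  generalize X - 1 = n at h3 ⊢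
  have : (n - 3 • (n * n)) * (n - 3 • (n * n)) = n * n - 6 • (n * n * n) + 9 • (n * n * n * n) := by noncomm_ring
  rw [this, h3]
  simp

theorem lg_cube : lg X * lg X * lg X = 0 := by
  rw [lg_sq h3]
  unfold lg
  generalize X - 1 = n at h3 ⊢
  have : n * n * (n - 3 • (n * n)) = n * n * n - 3 • (n * n * n * n) := by noncomm_ring
  rw [this, h3]
  simp

theorem eq_exp : X = 1 + lg X + 3 • (lg X * lg X) := by
  rw [lg_sq h3]
  unfold lg
  abel

variable (hT : T * T = 1) (hX : X * T * X = T)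

include hT hX

theorem conj_inv : T * X * T = 1 - (X - 1) + (X - 1) * (X - 1) := by
  have e1 : X * (T * X * T) = 1 := by
    have : X * (T * X * T) = X * T * X * T := by noncomm_ring
    rw [this, hX, hT]
  have e2 : (1 - (X - 1) + (X - 1) * (X - 1)) * X = 1 := by
    have : (1 - (X - 1) + (X - 1) * (X - 1)) * X = 1 + (X - 1) * (X - 1) * (X - 1) := by noncomm_ring
    rw [this, h3, add_zero]
  calc T * X * T = (1 - (X - 1) + (X - 1) * (X - 1)) * X * (T * X * T) := by rw [e2, one_mul]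
    _ = (1 - (X - 1) + (X - 1) * (X - 1)) * (X * (T * X * T)) := by rw [mul_assoc]
    _ = _ := by rw [e1, mul_one]

/-- `n ↦ T n T` for `n = X - 1` -/
theorem conj_sub : T * (X - 1) * T = -(X - 1) + (X - 1) * (X - 1) := by
  have e : T * (X - 1) * T = T * X * T - T * T := by noncomm_ring
  rw [e, conj_inv h3 hT hX, hT]
  abel

theorem conj_lg (h5 : (5 : R) = 0) : T * lg X * T = -lg X := by
  have h1 := conj_sub h3 hT hX
  have e5 : ∀ Y : R, (5 : ℕ) • Y = 0 := fun Y => by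
    rw [nsmul_eq_mul]
    push_cast
    rw [h5, zero_mul]
  unfold lg
  generalize X - 1 = n at h3 h1 ⊢
  have e1 : T * (n - 3 • (n * n)) * T = T * n * T - 3 • ((T * n) * 1 * (n * T)) := by noncomm_ring
  rw [e1, ← hT]
  have e2 : T * n * (T * T) * (n * T) = (T * n * T) * (T * n * T) := by noncomm_ring
  rw [e2, h1]
  have e3 : -n + n * n - 3 • ((-n + n * n) * (-n + n * n)) =
      -(n - 3 • (n * n)) - 5 • (n * n) + 6 • (n * n * n) - 3 • (n * n * n * n) := by noncomm_ring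
  rw [e3, h3, e5]
  simp

theorem T_lg (h5 : (5 : R) = 0) : T * lg X = -(lg X * T) := by
  have h1 := conj_lg h3 hT hX h5
  calc T * lg X = T * lg X * (T * T) := by rw [hT, mul_one]
    _ = (T * lg X * T) * T := by noncomm_ring
    _ = _ := by rw [h1, neg_mul]

end Ring

/-- a symplectic form and operators `I`, `J`, `T` -/
structure Base where
  om' : V6 →ₗ[F] V6 →ₗ[F] F
  alt : ∀ v, om' v v = 0
  nd : ∀ u, (∀ v, om' u v = 0) → u = 0
  I : E6
  J : E6
  T : E6
  iI : ∀ u v, om' (I u) (I v) = om' u v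
  iJ : ∀ u v, om' (J u) (J v) = om' u v
  iT : ∀ u v, om' (T u) (T v) = om' u v
  II : I * I = -1
  JJ : J * J = -1
  IJ : I * J = -(J * I)
  TI : T * I = I * T
  TJ : T * J = J * T
  TT : T * T = 1

namespace Base

variable (S : Base)

theorem skew (u v : V6) : S.om' u v = -S.om' v u := by
  have h := S.alt (u + v)
  simp only [map_add, LinearMap.add_apply, S.alt] at h
  linear_combination h

theorem II' (v : V6) : S.I (S.I v) = -v := by
  have := congrArg (fun X : E6 => X v) S.II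
  exact this

theorem JJ' (v : V6) : S.J (S.J v) = -v := by
  have := congrArg (fun X : E6 => X v) S.JJ
  exact this

theorem IJ' (v : V6) : S.I (S.J v) = -S.J (S.I v) := by
  have := congrArg (fun X : E6 => X v) S.IJ
  exact this

theorem TT' (v : V6) : S.T (S.T v) = v := by
  have := congrArg (fun X : E6 => X v) S.TT
  exact this

theorem TJ' (v : V6) : S.T (S.J v) = S.J (S.T v) := by
  have := congrArg (fun X : E6 => X v) S.TJ
  exact this

/-- the eigenspace of `I` for 2 -/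
def M : Submodule F V6 := LinearMap.ker (S.I - (2 : F) • (1 : E6))

theorem mem_M {v : V6} : v ∈ S.M ↔ S.I v = (2 : F) • v := by
  rw [M, LinearMap.mem_ker]
  show S.I v - (2 : F) • v = 0 ↔ _
  rw [sub_eq_zero]

theorem exists_decomp (u : V6) : ∃ u₁ ∈ S.M, ∃ u₂ ∈ S.M, u = u₁ + S.J u₂ := by
  have h5 := five_smul u
  have hJ : S.J (S.J (-(S.I u + (3 : F) • u))) = S.I u + (3 : F) • u := by
    rw [S.JJ', neg_neg]
  refine ⟨-(S.I u + (2 : F) • u), ?_, S.J (-(S.I u + (3 : F) • u)), ?_, ?_⟩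
  · rw [mem_M, map_neg, map_add, map_smul, S.II']
    have : -(-u + (2 : F) • S.I u) - (2 : F) • -(S.I u + (2 : F) • u) = (5 : F) • u := by module
    rw [← sub_eq_zero, this, h5]
  · rw [mem_M, S.IJ', map_neg, map_add, map_smul, S.II', map_neg, map_add, map_neg, map_smul, map_neg, map_add,
      map_smul]
    have : -(-(-S.J u + (3 : F) • S.J (S.I u))) - (2 : F) • -(S.J (S.I u) + (3 : F) • S.J u) =
        (5 : F) • (S.J (S.I u) + S.J u) := by module
    rw [← sub_eq_zero, this, five_smul]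
  · rw [hJ]
    module

theorem J_inj {v : V6} (h : S.J v = 0) : v = 0 := by
  have h1 := S.JJ' v
  rw [h, map_zero] at h1
  exact (neg_eq_zero.1 h1.symm)

theorem finrank_M : Module.finrank F S.M ≤ 3 := by
  let f : (S.M × S.M) →ₗ[F] V6 :=
    { toFun := fun p => (p.1 : V6) + S.J p.2
      map_add' := fun p q => by
        show ((p.1 : V6) + q.1) + S.J ((p.2 : V6) + q.2) = _
        rw [map_add]
        abel
      map_smul' := fun c p => by
        show c • (p.1 : V6) + S.J (c • (p.2 : V6)) = c • ((p.1 : V6) + S.J p.2)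
        rw [map_smul, smul_add] }
  have hinj : Function.Injective f := by
    rw [injective_iff_map_eq_zero]
    rintro ⟨⟨u, hu⟩, ⟨v, hv⟩⟩ h
    have h' : u + S.J v = 0 := h
    have hu' := S.mem_M.1 hu
    have hv' := S.mem_M.1 hv
    have h2 : S.I (u + S.J v) = 0 := by rw [h', map_zero]
    rw [map_add, hu', S.IJ', hv', map_smul] at h2
    have h3 : u = 0 := by
      have : (4 : F) • u = (2 : F) • u + -((2 : F) • S.J v) + (2 : F) • (u + S.J v) := by module
      rw [h2, h', smul_zero, add_zero] at this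
      exact (smul_eq_zero.1 this).resolve_left (by decide)
    have h4 : v = 0 := by
      rw [h3, zero_add] at h'
      exact S.J_inj h'
    subst h3 h4
    rfl
  have h1 := LinearMap.finrank_le_finrank_of_injective hinj
  rw [Module.finrank_prod, Module.finrank_fin_fun] at h1
  omega

/-- an operator commuting with `J` and vanishing on `M` is zero -/
theorem eq_zero_of_M {X : E6} (hJ : X * S.J = S.J * X) (h : ∀ v ∈ S.M, X v = 0) : X = 0 := by
  refine LinearMap.ext fun u => ?_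
  obtain ⟨u₁, h1, u₂, h2, rfl⟩ := S.exists_decomp u
  have e : X (S.J u₂) = S.J (X u₂) := congrArg (fun X : E6 => X u₂) hJ
  rw [map_add, h _ h1, e, h _ h2, map_zero, add_zero]
  rfl

theorem map_M {X : E6} (hI : X * S.I = S.I * X) {v : V6} (hv : v ∈ S.M) : X v ∈ S.M := by
  rw [mem_M] at hv ⊢
  have e : X (S.I v) = S.I (X v) := congrArg (fun X : E6 => X v) hI
  rw [← e, hv, map_smul]

/-- nilpotent operators commuting with `I` and `J` have cube zero -/
theorem cube_eq_zero {X : E6} (hI : X * S.I = S.I * X) (hJ : X * S.J = S.J * X) (h5 : X ^ 5 = 0) : X ^ 3 = 0 := by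
  let f : S.M →ₗ[F] S.M := X.restrict (fun v hv => S.map_M hI hv)
  have hf : ∀ (n : ℕ) (v : S.M), ((f ^ n) v : V6) = (X ^ n) v := by
    intro n
    induction n with
    | zero => intro v; rfl
    | succ n ih =>
      intro v
      rw [pow_succ', pow_succ']
      show (f ((f ^ n) v) : V6) = X ((X ^ n) v)
      rw [← ih]
      rfl
  have h3 := Module.End.ker_pow_eq_ker_pow_finrank_of_le (f := f) (m := 3) S.finrank_M
  have h5' := Module.End.ker_pow_eq_ker_pow_finrank_of_le (f := f) (m := 5) (S.finrank_M.trans (by norm_num))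
  have h6 : f ^ 5 = 0 := by
    refine LinearMap.ext fun v => ?_
    apply Subtype.ext
    rw [hf, h5]
    rfl
  apply S.eq_zero_of_M
  · exact (Commute.pow_left (show Commute X S.J from hJ) 3)
  · intro v hv
    have h7 : (⟨v, hv⟩ : S.M) ∈ LinearMap.ker (f ^ 3) := by
      rw [h3, ← h5', h6]
      exact LinearMap.mem_ker.2 rfl
    rw [← hf 3 ⟨v, hv⟩, LinearMap.mem_ker.1 h7]
    rfl

end Base

/-- the properties of `b` and `b'` -/
structure Uni (S : Base) (X : E6) : Prop where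
  iX : ∀ u v, S.om' (X u) (X v) = S.om' u v
  XI : X * S.I = S.I * X
  XJ : X * S.J = S.J * X
  XT : X * S.T * X = S.T
  X5 : X ^ 5 = 1

namespace Uni

variable {S : Base} {X : E6} (h : Uni S X)

include h

theorem cube : (X - 1) * (X - 1) * (X - 1) = 0 := by
  have h1 := S.cube_eq_zero (X := X - 1) (by rw [sub_mul, mul_sub, h.XI, one_mul, mul_one])
    (by rw [sub_mul, mul_sub, h.XJ, one_mul, mul_one]) (sub_one_pow_five five_eq_zero h.X5)
  rw [pow_succ, pow_two] at h1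
  exact h1

theorem T_lg : S.T * lg X = -(lg X * S.T) := M5D.T_lg h.cube S.TT h.XT five_eq_zero

theorem T_lg' (v : V6) : S.T (lg X v) = -lg X (S.T v) := congrArg (fun Y : E6 => Y v) h.T_lg

theorem I_lg : S.I * lg X = lg X * S.I := comm_lg h.XI.symm
theorem J_lg : S.J * lg X = lg X * S.J := comm_lg h.XJ.symm

theorem J_lg' (v : V6) : S.J (lg X v) = lg X (S.J v) := congrArg (fun Y : E6 => Y v) h.J_lg

theorem lg_cube' (v : V6) : lg X (lg X (lg X v)) = 0 := congrArg (fun Y : E6 => Y v) (lg_cube h.cube)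

theorem adj_sub (u v : V6) : S.om' ((X - 1) u) v = S.om' u ((S.T * (X - 1) * S.T) v) := by
  have e1 : X * (S.T * X * S.T) = 1 := by
    have : X * (S.T * X * S.T) = X * S.T * X * S.T := by noncomm_ring
    rw [this, h.XT, S.TT]
  have e2 : X ((S.T * X * S.T) v) = v := congrArg (fun Y : E6 => Y v) e1
  have e3 : S.om' (X u) v = S.om' u ((S.T * X * S.T) v) := by
    conv_lhs => rw [← e2]
    exact h.iX _ _
  have e4 : S.T * (X - 1) * S.T = S.T * X * S.T - 1 := by
    rw [mul_sub, sub_mul, mul_one, S.TT]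
  rw [e4]
  show S.om' (X u - u) v = S.om' u ((S.T * X * S.T) v - v)
  rw [map_sub, LinearMap.sub_apply, map_sub, e3]

theorem lg_skew (u v : V6) : S.om' (lg X u) v = -S.om' u (lg X v) := by
  have e1 : lg X u = (X - 1) u - (3 : F) • (X - 1) ((X - 1) u) := by
    show (X - 1) u - (3 : ℕ) • _ = _
    module
  have e2 : S.om' u ((S.T * lg X * S.T) v) = S.om' (lg X u) v := by
    have e4 : (S.T * (X - 1) * S.T) * (S.T * (X - 1) * S.T) = S.T * ((X - 1) * (X - 1)) * S.T := by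
      have : (S.T * (X - 1) * S.T) * (S.T * (X - 1) * S.T) = S.T * ((X - 1) * (S.T * S.T) * (X - 1)) * S.T := by
        simp only [mul_assoc]
      rw [this, S.TT, mul_one]
    have e5 : S.T (lg X (S.T v)) = (S.T * (X - 1) * S.T) v -
        (3 : F) • (S.T * (X - 1) * S.T) ((S.T * (X - 1) * S.T) v) := by
      have e6 : (S.T * (X - 1) * S.T) ((S.T * (X - 1) * S.T) v) = S.T ((X - 1) ((X - 1) (S.T v))) :=
        congrArg (fun Y : E6 => Y v) e4
      rw [e6]
      show S.T ((X - 1) (S.T v) - (3 : ℕ) • (X - 1) ((X - 1) (S.T v))) = S.T ((X - 1) (S.T v)) - _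
      rw [map_sub, map_nsmul]
      module
    show S.om' u (S.T (lg X (S.T v))) = _
    rw [e5, e1, map_sub, map_sub, LinearMap.sub_apply, map_smul, map_smul, LinearMap.smul_apply, h.adj_sub,
      h.adj_sub, h.adj_sub]
  have e7 : (S.T * lg X * S.T) v = -(lg X v) := congrArg (fun Y : E6 => Y v) (conj_lg h.cube S.TT h.XT five_eq_zero)
  rw [← e2, e7, map_neg]

end Uni

/-! ### the form `q v w = om' v (J w)` on `M` -/

namespace Base

variable (S : Base)

theorem q_symm (v w : V6) : S.om' v (S.J w) = S.om' w (S.J v) := by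
  rw [← S.iJ v, S.JJ', map_neg, S.skew (S.J v) w, neg_neg]

theorem om_M {u v : V6} (hu : u ∈ S.M) (hv : v ∈ S.M) : S.om' u v = 0 := by
  have h := S.iI u v
  rw [S.mem_M.1 hu, S.mem_M.1 hv, map_smul, map_smul, LinearMap.smul_apply] at h
  have : ∀ x : F, (2 : F) • (2 : F) • x = x → x = 0 := by decide
  exact this _ h

theorem q_nd {v : V6} (hv : v ∈ S.M) (h : ∀ w ∈ S.M, S.om' v (S.J w) = 0) : v = 0 := by
  apply S.nd
  intro u
  obtain ⟨u₁, h1, u₂, h2, rfl⟩ := S.exists_decomp u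
  rw [map_add, S.om_M hv h1, h _ h2, add_zero]

theorem exists_q {v : V6} (hv : v ∈ S.M) (h0 : v ≠ 0) : ∃ w ∈ S.M, S.om' v (S.J w) ≠ 0 := by
  by_contra h
  push Not at h
  exact h0 (S.q_nd hv h)

end Base

namespace Uni

variable {S : Base} {X : E6} (h : Uni S X)

include h

theorem q_skew (v w : V6) : S.om' (lg X v) (S.J w) = -S.om' v (S.J (lg X w)) := by
  rw [h.lg_skew, h.J_lg']

theorem lg_M {v : V6} (hv : v ∈ S.M) : lg X v ∈ S.M := S.map_M h.I_lg.symm hv

theorem q_self (v : V6) : S.om' (lg X v) (S.J v) = 0 := by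
  have h1 := h.q_skew v v
  rw [S.q_symm v (lg X v)] at h1
  have : ∀ x : F, x = -x → x = 0 := by decide
  exact this _ h1

/-- the square of the logarithm is not zero on `M` -/
theorem exists_sq_ne (hX : X ≠ 1) : ∃ v ∈ S.M, lg X (lg X v) ≠ 0 := by
  by_contra hc
  push Not at hc
  obtain ⟨v, hv, hv0⟩ : ∃ v ∈ S.M, lg X v ≠ 0 := by
    by_contra hc'
    push Not at hc'
    have h1 : lg X = 0 := S.eq_zero_of_M h.J_lg.symm hc'
    apply hX
    have h2 := eq_exp h.cube
    rw [h1] at h2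
    rw [h2]
    simp
  obtain ⟨w, hw, hw0⟩ := S.exists_q (h.lg_M hv) hv0
  have hw0' : S.om' (lg X w) (S.J v) ≠ 0 := by
    rw [h.q_skew, S.q_symm]
    exact neg_ne_zero.2 hw0
  have hli : LinearIndependent F (![⟨v, hv⟩, ⟨w, hw⟩, ⟨lg X v, h.lg_M hv⟩, ⟨lg X w, h.lg_M hw⟩] : Fin 4 → S.M) := by
    rw [Fintype.linearIndependent_iff]
    intro g hg
    rw [Fin.sum_univ_four] at hg
    have hg' : g 0 • v + g 1 • w + g 2 • lg X v + g 3 • lg X w = 0 := congrArg Subtype.val hg
    have h1 : g 0 • lg X v + g 1 • lg X w = 0 := by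
      have : (lg X) (g 0 • v + g 1 • w + g 2 • lg X v + g 3 • lg X w) = lg X 0 := congrArg (lg X : V6 →ₗ[F] V6) hg'
      rw [map_add, map_add, map_add, map_smul, map_smul, map_smul, map_smul, hc v hv, hc w hw, smul_zero, smul_zero,
        add_zero, add_zero, map_zero] at this
      exact this
    have e : ∀ a b : F, a • lg X v + b • lg X w = 0 → a = 0 ∧ b = 0 := by
      intro a b hab
      have k1 : a * S.om' (lg X v) (S.J w) = 0 := by
        have := congrArg (fun x => S.om' x (S.J w)) hab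
        simp only [map_add, LinearMap.add_apply, map_smul, LinearMap.smul_apply, h.q_self, smul_eq_mul, mul_zero,
          add_zero, map_zero, LinearMap.zero_apply] at this
        exact this
      have k2 : b * S.om' (lg X w) (S.J v) = 0 := by
        have := congrArg (fun x => S.om' x (S.J v)) hab
        simp only [map_add, LinearMap.add_apply, map_smul, LinearMap.smul_apply, h.q_self, smul_eq_mul, mul_zero,
          zero_add, map_zero, LinearMap.zero_apply] at this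
        exact this
      exact ⟨(mul_eq_zero.1 k1).resolve_right hw0, (mul_eq_zero.1 k2).resolve_right hw0'⟩
    obtain ⟨g0, g1⟩ := e _ _ h1
    rw [g0, g1, zero_smul, zero_smul, zero_add, zero_add] at hg'
    obtain ⟨g2, g3⟩ := e _ _ hg'
    intro i
    fin_cases i
    · exact g0
    · exact g1
    · exact g2
    · exact g3
  have h1 := hli.fintype_card_le_finrank
  have h2 := S.finrank_M
  rw [Fintype.card_fin] at h1
  omega

/-- the form `q(v, N² w)` is symmetric -/
theorem s_symm (v w : V6) : S.om' v (S.J (lg X (lg X w))) = S.om' w (S.J (lg X (lg X v))) := by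
  have h1 := h.q_skew v (lg X w)
  have h2 := h.q_skew (lg X v) w
  rw [S.q_symm w (lg X (lg X v)), h2]
  linear_combination h1

theorem exists_vec (hX : X ≠ 1) : ∃ (m : V6) (ε κ : F), (ε = 1 ∨ ε = -1) ∧ κ ≠ 0 ∧ m ∈ S.M ∧ S.T m = ε • m ∧
    S.om' m (S.J (lg X (lg X m))) = κ ∧ S.om' m (S.J m) = 0 := by
  obtain ⟨v, hv, hv0⟩ := h.exists_sq_ne hX
  obtain ⟨w, hw, hw0⟩ := S.exists_q (h.lg_M (h.lg_M hv)) hv0
  rw [S.q_symm] at hw0
  -- a vector with `s(y,y) ≠ 0`
  obtain ⟨y, hy, hy0⟩ : ∃ y ∈ S.M, S.om' y (S.J (lg X (lg X y))) ≠ 0 := by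
    by_contra hc
    push Not at hc
    have h1 := hc _ (S.M.add_mem hv hw)
    simp only [map_add, LinearMap.add_apply, hc v hv, hc w hw] at h1
    rw [h.s_symm v w] at h1
    apply hw0
    have : ∀ x : F, 0 + x + (x + 0) = 0 → x = 0 := by decide
    apply this
    linear_combination h1
  -- an eigenvector of `T`
  have hTM : S.T y ∈ S.M := S.map_M S.TI hy
  obtain ⟨y', ε, hε, hy', hT, hs⟩ : ∃ (y' : V6) (ε : F), (ε = 1 ∨ ε = -1) ∧ y' ∈ S.M ∧ S.T y' = ε • y' ∧
      S.om' y' (S.J (lg X (lg X y'))) ≠ 0 := by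
    by_contra hc
    push Not at hc
    have hp : S.T (y + S.T y) = (1 : F) • (y + S.T y) := by
      rw [map_add, S.TT', one_smul, add_comm]
    have hm : S.T (y - S.T y) = (-1 : F) • (y - S.T y) := by
      rw [map_sub, S.TT']
      module
    have h1 := hc _ 1 (Or.inl rfl) (S.M.add_mem hy hTM) hp
    have h2 := hc _ (-1) (Or.inr rfl) (S.M.sub_mem hy hTM) hm
    have h3 : S.om' (S.T y) (S.J (lg X (lg X (S.T y)))) = S.om' y (S.J (lg X (lg X y))) := by
      have e := S.iT y (S.J (lg X (lg X y)))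
      rw [S.TJ', h.T_lg', h.T_lg'] at e
      simp only [map_neg, neg_neg] at e
      exact e
    simp only [map_add, map_sub, LinearMap.add_apply, LinearMap.sub_apply, h3] at h1 h2
    apply hy0
    have : ∀ x : F, 4 * x = 0 → x = 0 := by decide
    apply this
    linear_combination h1 + h2
  set κ := S.om' y' (S.J (lg X (lg X y'))) with hκ
  set β : F := 2 * (S.om' y' (S.J y')) * κ⁻¹ with hβ
  have hN4 : lg X (lg X (lg X (lg X y'))) = 0 := h.lg_cube' _
  have hN3 : lg X (lg X (lg X y')) = 0 := h.lg_cube' _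
  refine ⟨y' + β • lg X (lg X y'), ε, κ, hε, hs, S.M.add_mem hy' (S.M.smul_mem _ (h.lg_M (h.lg_M hy'))), ?_, ?_, ?_⟩
  · rw [map_add, map_smul, hT, h.T_lg', h.T_lg', map_neg, neg_neg, hT, map_smul, map_smul]
    module
  · have e1 : lg X (lg X (y' + β • lg X (lg X y'))) = lg X (lg X y') := by
      simp only [map_add, map_smul, hN3, map_zero, smul_zero, add_zero]
    rw [e1, map_add, LinearMap.add_apply, ← hκ, map_smul, LinearMap.smul_apply, h.q_skew, hN3]
    simp
  · have e1 : S.om' (lg X (lg X y')) (S.J (lg X (lg X y'))) = 0 := by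
      rw [h.q_skew, hN3]
      simp only [_root_.map_zero, _root_.neg_zero]
    have e2 : S.om' (lg X (lg X y')) (S.J y') = κ := by rw [S.q_symm]
    simp only [map_add, map_smul, LinearMap.add_apply, LinearMap.smul_apply, e1, e2, ← hκ, smul_eq_mul]
    have h5 : (5 : F) = 0 := by decide
    have hk : κ⁻¹ * κ = 1 := inv_mul_cancel₀ hs
    rw [hβ]
    linear_combination 4 * (S.om' y' (S.J y')) * hk + (S.om' y' (S.J y')) * h5

end Uni

end Cfsg.Agent.H255.M5D
end

-- part: H255/M5D/Coord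
section
/-!
# Coordinates (helper255)
-/

set_option autoImplicit false

namespace Cfsg.Agent.H255.M5D

open Cfsg.Agent.H777.M5 Matrix

attribute [-instance] AddSubgroupClass.instZModModule

/-- the linear map with the six given images of the basis vectors -/
def six (m0 m1 m2 m3 m4 m5 : V6) : V6 →ₗ[F] V6 where
  toFun a := a 0 • m0 + a 1 • m1 + a 2 • m2 + a 3 • m3 + a 4 • m4 + a 5 • m5
  map_add' a b := by
    simp only [Pi.add_apply]
    module
  map_smul' c a := by
    simp only [Pi.smul_apply, smul_eq_mul, RingHom.id_apply]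
    module

theorem eq_zero_of_om {u : V6} (h : ∀ v, om u v = 0) : u = 0 := by
  funext i
  have e0 := h (Pi.single 5 1)
  have e1 := h (Pi.single 4 1)
  have e2 := h (Pi.single 3 1)
  have e3 := h (Pi.single 2 1)
  have e4 := h (Pi.single 1 1)
  have e5 := h (Pi.single 0 1)
  simp [om] at e0 e1 e2 e3 e4 e5
  fin_cases i
  · exact e0
  · exact e1
  · exact e2
  · exact e3
  · exact e4
  · exact e5

theorem D6_mulVec (u : V6) : D6 *ᵥ u = ![2 * u 0, 2 * u 1, 2 * u 2, 3 * u 3, 3 * u 4, 3 * u 5] := by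
  rw [D6_eq]
  funext i
  rw [Matrix.mulVec_diagonal]
  fin_cases i <;> rfl

theorem t6_mulVec (ε : F) (u : V6) : (ε • t6) *ᵥ u = ![ε * u 0, -(ε * u 1), ε * u 2, ε * u 3, -(ε * u 4), ε * u 5] := by
  rw [t6, Matrix.smul_mulVec]
  funext i
  rw [Pi.smul_apply, Matrix.mulVec_diagonal]
  (revert i; simp only [_root_.Fin.forall_fin_succ, _root_.smul_eq_mul, _root_.Nat.succ_eq_add_one, Nat.reduceAdd, Fin.isValue, _root_.Matrix.cons_val_zero, _root_.one_mul, _root_.Matrix.cons_val_succ, _root_.Fin.succ_zero_eq_one, _root_.neg_mul, _root_.mul_neg, _root_.Fin.succ_one_eq_two, Fin.reduceSucc, _root_.Matrix.cons_val_fin_one, _root_.mul_eq_mul_left_iff, _root_.true_or, _root_.IsEmpty.forall_iff, _root_.and_self])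

theorem J6_mulVec (u : V6) : J6 *ᵥ u = ![4 * u 3, 4 * u 4, 4 * u 5, u 0, u 1, u 2] := by
  funext i
  (revert i; simp only [J6, K, J2, Matrix.mulVec, dotProduct, Fin.sum_univ_six, _root_.Fin.forall_fin_succ, Fin.isValue, _root_.Matrix.of_apply, _root_.Matrix.cons_val', _root_.Matrix.cons_val_zero, _root_.Matrix.cons_val_fin_one, _root_.Matrix.zero_apply, _root_.Matrix.cons_val_one, _root_.Matrix.cons_val, _root_.Nat.succ_eq_add_one, Nat.reduceAdd, _root_.MulZeroClass.zero_mul, _root_.add_zero, _root_.zero_add, _root_.Matrix.cons_val_succ, _root_.one_mul, _root_.implies_true, _root_.and_self])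

theorem n6_mulVec (u : V6) : n6 *ᵥ u = ![u 1, u 2, 0, u 4, u 5, 0] := by
  funext i
  (revert i; simp only [n6, Matrix.mulVec, dotProduct, Fin.sum_univ_six, _root_.Fin.forall_fin_succ, _root_.Matrix.of_apply, _root_.Matrix.cons_val', _root_.Matrix.cons_val_fin_one, Fin.isValue, _root_.Matrix.cons_val_zero, _root_.Matrix.cons_val_one, _root_.Matrix.cons_val, _root_.Nat.succ_eq_add_one, Nat.reduceAdd, _root_.MulZeroClass.zero_mul, _root_.one_mul, _root_.zero_add, _root_.add_zero, _root_.Matrix.cons_val_succ, _root_.implies_true, _root_.and_self])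

/-- **the coordinates** -/
theorem exists_L {S : Base} {X : E6} (h : Uni S X) (hX : X ≠ 1) : ∃ (L : V6 ≃ₗ[F] V6) (ε κ : F),
    (ε = 1 ∨ ε = -1) ∧ κ ≠ 0 ∧ (∀ u v, S.om' (L u) (L v) = κ * om u v) ∧ (∀ u, S.I (L u) = L (D6 *ᵥ u)) ∧
    (∀ u, S.J (L u) = L (J6 *ᵥ u)) ∧ (∀ u, lg X (L u) = L (n6 *ᵥ u)) ∧ (∀ u, S.T (L u) = L ((ε • t6) *ᵥ u)) := by
  obtain ⟨m, ε, κ, hε, hκ, hm, hT, hq, hq0⟩ := h.exists_vec hX
  have hN3 : lg X (lg X (lg X m)) = 0 := h.lg_cube' _
  have hm1 : lg X m ∈ S.M := h.lg_M hm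
  have hm0 : lg X (lg X m) ∈ S.M := h.lg_M hm1
  have G00 : S.om' (lg X (lg X m)) (S.J (lg X (lg X m))) = 0 := by rw [h.q_skew, hN3]; simp
  have G01 : S.om' (lg X (lg X m)) (S.J (lg X m)) = 0 := h.q_self _
  have G02 : S.om' (lg X (lg X m)) (S.J m) = κ := by rw [S.q_symm, hq]
  have G10 : S.om' (lg X m) (S.J (lg X (lg X m))) = 0 := by rw [S.q_symm, G01]
  have G11 : S.om' (lg X m) (S.J (lg X m)) = -κ := by rw [h.q_skew, hq]
  have G12 : S.om' (lg X m) (S.J m) = 0 := h.q_self _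
  have G21 : S.om' m (S.J (lg X m)) = 0 := by rw [S.q_symm, G12]
  have O : ∀ u v, u ∈ S.M → v ∈ S.M → S.om' u v = 0 := fun u v hu hv => S.om_M hu hv
  have N : ∀ u v, S.om' (S.J u) v = -S.om' v (S.J u) := fun u v => S.skew _ _
  let L0 := six (lg X (lg X m)) (lg X m) m (S.J (lg X (lg X m))) (S.J (lg X m)) (S.J m)
  have hL0 : ∀ a : V6, L0 a = a 0 • lg X (lg X m) + a 1 • lg X m + a 2 • m + a 3 • S.J (lg X (lg X m)) +
      a 4 • S.J (lg X m) + a 5 • S.J m := fun a => rfl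
  have hom : ∀ u v, S.om' (L0 u) (L0 v) = κ * om u v := by
    intro u v
    rw [hL0, hL0]
    simp only [map_add, map_smul, LinearMap.add_apply, LinearMap.smul_apply, S.iJ, O _ _ hm hm, O _ _ hm hm1,
      O _ _ hm hm0, O _ _ hm1 hm, O _ _ hm1 hm1, O _ _ hm1 hm0, O _ _ hm0 hm, O _ _ hm0 hm1, O _ _ hm0 hm0,
      N _ m, N _ (lg X m), N _ (lg X (lg X m)), G00, G01, G02, G10, G11, G12, G21, hq, hq0, smul_eq_mul, om]
    ring
  have hinj : Function.Injective L0 := by
    rw [injective_iff_map_eq_zero]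
    intro u hu
    apply eq_zero_of_om
    intro v
    have := hom u v
    rw [hu, map_zero, LinearMap.zero_apply] at this
    exact (mul_eq_zero.1 this.symm).resolve_left hκ
  have hI : ∀ v ∈ S.M, S.I v = (2 : F) • v := fun v hv => S.mem_M.1 hv
  have hTN : S.T (lg X m) = -(ε • lg X m) := by rw [h.T_lg', hT, map_smul]
  have hTN2 : S.T (lg X (lg X m)) = ε • lg X (lg X m) := by rw [h.T_lg', hTN, map_neg, neg_neg, map_smul]
  have h5 : ∀ v : V6, (5 : F) • v = 0 := five_smul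
  refine ⟨LinearEquiv.ofInjectiveEndo L0 hinj, ε, κ, hε, hκ, hom, ?_, ?_, ?_, ?_⟩
  · intro u
    show S.I (L0 u) = L0 (D6 *ᵥ u)
    rw [D6_mulVec, hL0, hL0]
    simp only [map_add, map_smul, S.IJ', hI _ hm, hI _ hm1, hI _ hm0]
    simp only [_root_.Fin.isValue, _root_.smul_neg, _root_.Nat.succ_eq_add_one, _root_.Nat.reduceAdd, _root_.Matrix.cons_val_zero, _root_.Matrix.cons_val_one, _root_.Matrix.cons_val]
    have c : (3 : F) = -2 := by decide
    rw [c]
    module
  · intro u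
    show S.J (L0 u) = L0 (J6 *ᵥ u)
    rw [J6_mulVec, hL0, hL0]
    simp only [map_add, map_smul, S.JJ']
    simp only [_root_.Fin.isValue, _root_.smul_neg, _root_.Nat.succ_eq_add_one, _root_.Nat.reduceAdd, _root_.Matrix.cons_val_zero, _root_.Matrix.cons_val_one, _root_.Matrix.cons_val]
    have c : (4 : F) = -1 := by decide
    rw [c]
    module
  · intro u
    show lg X (L0 u) = L0 (n6 *ᵥ u)
    rw [n6_mulVec, hL0, hL0]
    simp only [map_add, map_smul, ← h.J_lg', hN3, map_zero]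
    simp
  · intro u
    show S.T (L0 u) = L0 ((ε • t6) *ᵥ u)
    rw [t6_mulVec, hL0, hL0]
    simp only [map_add, map_smul, S.TJ', hT, hTN, hTN2, map_neg]
    simp only [_root_.Fin.isValue, _root_.smul_neg, _root_.Nat.succ_eq_add_one, _root_.Nat.reduceAdd, _root_.Matrix.cons_val_zero, _root_.Matrix.cons_val_one, _root_.neg_smul, _root_.Matrix.cons_val]
    module

/-- the matrix of an operator in the coordinates `L` -/
noncomputable def Ph (L : V6 ≃ₗ[F] V6) : E6 →+* M6 where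
  toFun X := LinearMap.toMatrix' ((L.symm : V6 →ₗ[F] V6) ∘ₗ X ∘ₗ (L : V6 →ₗ[F] V6))
  map_one' := by
    have : (L.symm : V6 →ₗ[F] V6) ∘ₗ (1 : E6) ∘ₗ (L : V6 →ₗ[F] V6) = LinearMap.id := by
      refine LinearMap.ext fun v => ?_
      exact L.symm_apply_apply v
    rw [this, LinearMap.toMatrix'_id]
  map_mul' X Y := by
    rw [← LinearMap.toMatrix'_comp]
    congr 1
    refine LinearMap.ext fun v => ?_
    show L.symm (X (Y (L v))) = L.symm (X (L (L.symm (Y (L v)))))
    rw [L.apply_symm_apply]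
  map_zero' := by
    have : (L.symm : V6 →ₗ[F] V6) ∘ₗ (0 : E6) ∘ₗ (L : V6 →ₗ[F] V6) = 0 := by
      refine LinearMap.ext fun v => ?_
      exact map_zero L.symm
    rw [this, map_zero]
  map_add' X Y := by
    rw [← map_add]
    congr 1
    refine LinearMap.ext fun v => ?_
    exact map_add L.symm _ _

theorem Ph_apply (L : V6 ≃ₗ[F] V6) (X : E6) (u : V6) : X (L u) = L (Ph L X *ᵥ u) := by
  show X (L u) = L (LinearMap.toMatrix' ((L.symm : V6 →ₗ[F] V6) ∘ₗ X ∘ₗ (L : V6 →ₗ[F] V6)) *ᵥ u)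
  rw [← Matrix.toLin'_apply, Matrix.toLin'_toMatrix']
  exact (L.apply_symm_apply _).symm

theorem Ph_eq {L : V6 ≃ₗ[F] V6} {X : E6} {M : M6} (h : ∀ u, X (L u) = L (M *ᵥ u)) : Ph L X = M := by
  apply Matrix.ext_of_mulVec_single
  intro i
  apply L.injective
  rw [← Ph_apply, h]

theorem mul_one_or {X : E6} {L : V6 ≃ₗ[F] V6} {M : M6} (hX : X = 1 ∨ X = -1) (h : Ph L X = M) : M = 1 ∨ M = -1 := by
  rcases hX with rfl | rfl
  · left
    rw [← h, map_one]
  · right
    rw [← h, map_neg, map_one]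

theorem Ph_inj {L : V6 ≃ₗ[F] V6} {X Y : E6} (h : Ph L X = Ph L Y) : X = Y := by
  refine LinearMap.ext fun v => ?_
  rw [← L.apply_symm_apply v, Ph_apply, Ph_apply, h]

theorem D6_iM : D6 = iM := by decide +kernel

theorem J6_jM : J6 = jM := by decide +kernel

theorem B6_bpM : B6 = bpM := by decide +kernel

/-- **the normal form** -/
theorem main_lin (S : Base) {A B B' : E6} (hB : Uni S B) (hB' : Uni S B') (hB1 : B ≠ 1) (hAB : A * B = B * A)
    (hAT : A * S.T = S.T * A) (hAI : A * S.I * A = S.I)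
    (hA5 : A * A * (A * A) * A = 1) (hJA : (S.J * A) * (S.J * A) * (S.J * A) = 1)
    (hIJA : (S.I * S.J * A) * (S.I * S.J * A) * ((S.I * S.J * A) * (S.I * S.J * A)) * (S.I * S.J * A) = 1)
    (hBB3 : (B * B') * (B * B') * (B * B') = 1 ∨ (B * B') * (B * B') * (B * B') = -1)
    (hBB2 : (B * (B' * B')) * (B * (B' * B')) = 1 ∨ (B * (B' * B')) * (B * (B' * B')) = -1)
    (hAB15 : ∀ m m3 m5 : E6, m = A * B' → m3 = m * m * m → m5 = m3 * m * m → m5 * m5 * m5 = 1 ∨ m5 * m5 * m5 = -1)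
    (hne : A * B' ≠ B' * A) : ∃ (L : V6 ≃ₗ[F] V6) (κ : F), κ ≠ 0 ∧ (∀ u v, S.om' (L u) (L v) = κ * om u v) ∧
      (∀ u, A (L u) = L (aM *ᵥ u)) ∧ (∀ u, B (L u) = L (bM *ᵥ u)) ∧ (∀ u, S.I (L u) = L (iM *ᵥ u)) ∧
      (∀ u, S.J (L u) = L (jM *ᵥ u)) ∧ (∀ u, B' (L u) = L (bpM *ᵥ u)) := by
  obtain ⟨L, ε, κ, hε, hκ, hom, hI, hJ, hN, hT⟩ := exists_L hB hB1
  have eI : Ph L S.I = D6 := Ph_eq hI
  have eJ : Ph L S.J = J6 := Ph_eq hJ
  have eN : Ph L (lg B) = n6 := Ph_eq hN
  have eT : Ph L S.T = ε • t6 := Ph_eq hT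
  have hε0 : ε ≠ 0 := by rcases hε with rfl | rfl <;> decide
  have eB : Ph L B = bM := by
    rw [eq_exp hB.cube, map_add, map_add, map_one, map_nsmul, map_mul, eN, bM_eq]
  -- the matrix of `A`
  have a1 : Ph L A * n6 = n6 * Ph L A := by
    rw [← eN, ← map_mul, ← map_mul, comm_lg hAB]
  have a2 : Ph L A * t6 = t6 * Ph L A := by
    have h1 : Ph L A * (ε • t6) = (ε • t6) * Ph L A := by rw [← eT, ← map_mul, ← map_mul, hAT]
    rw [Matrix.mul_smul, Matrix.smul_mul] at h1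
    exact smul_right_injective _ hε0 h1
  obtain ⟨P, hP⟩ := exists_K a1 a2
  obtain ⟨d, hd⟩ := eq_X0 (P := P) (by rw [← hP, ← eI, ← map_mul, ← map_mul, hAI])
    (by rw [← hP, ← eJ, ← map_mul, ← map_mul, ← map_mul, hJA, map_one])
    (by
      rw [← hP, ← eJ, ← eI, ← map_mul, ← map_mul, ← map_mul, ← map_mul, ← map_mul, hIJA, map_one])
    (by rw [← hP, ← map_mul, ← map_mul, ← map_mul, hA5, map_one])
  subst hd
  -- the matrix of `B'`
  have z1 : Ph L (lg B') * t6 = -(t6 * Ph L (lg B')) := by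
    have h1 : Ph L (lg B') * (ε • t6) = -((ε • t6) * Ph L (lg B')) := by
      rw [← eT, ← map_mul, ← map_mul, hB'.T_lg, map_neg, neg_neg]
    rw [Matrix.mul_smul, Matrix.smul_mul, ← smul_neg] at h1
    exact smul_right_injective _ hε0 h1
  have z2 : Ph L (lg B') * D6 = D6 * Ph L (lg B') := by rw [← eI, ← map_mul, ← map_mul, hB'.I_lg]
  have z3 : Ph L (lg B') * J6 = J6 * Ph L (lg B') := by rw [← eJ, ← map_mul, ← map_mul, hB'.J_lg]
  have z4 : ∀ u v, om (Ph L (lg B') *ᵥ u) v = -om u (Ph L (lg B') *ᵥ v) := by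
    intro u v
    apply mul_left_cancel₀ hκ
    rw [← hom, ← Ph_apply, hB'.lg_skew, Ph_apply, hom]
    ring
  obtain ⟨l, n, hz⟩ := exists_Zm z1 z2 z3 z4
  have eB' : Ph L B' = 1 + Zm l n + 3 • (Zm l n * Zm l n) := by
    conv_lhs => rw [eq_exp hB'.cube]
    rw [map_add, map_add, map_one, map_nsmul, map_mul, hz]
  have c1 := mul_one_or hBB3 (L := L) rfl
  have c2 := mul_one_or hBB2 (L := L) rfl
  simp only [map_mul, eB, eB'] at c1 c2
  have e6 := fin4 l n c1 c2
  rw [e6] at eB'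
  have c3 := mul_one_or (hAB15 _ _ _ rfl rfl rfl) (L := L) rfl
  simp only [map_mul, hP, eB'] at c3
  have c4 : K (X0, !![d, 3 * d; 3 * d, d]) * B6 ≠ B6 * K (X0, !![d, 3 * d; 3 * d, d]) := by
    intro h
    apply hne
    apply Ph_inj (L := L)
    rw [map_mul, map_mul, hP, eB', h]
  have eA := fin3 d c3 c4
  refine ⟨L, κ, hκ, hom, ?_, ?_, ?_, ?_, ?_⟩
  · intro u
    rw [Ph_apply, hP, eA]
  · intro u
    rw [Ph_apply, eB]
  · intro u
    rw [hI, D6_iM]
  · intro u
    rw [hJ, J6_jM]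
  · intro u
    rw [Ph_apply, eB', B6_bpM]

end Cfsg.Agent.H255.M5D
end

private theorem dce_3b31c91037b7 : _root_.True := by
  try have : _root_.True := by simp only [_root_.Cfsg.Agent.H255.M5D.J2.eq_1]
  try have : _root_.True := by simp only [_root_.Cfsg.Agent.H255.M5D.pm.eq_1]
  try have : _root_.True := by simp only [_root_.Cfsg.Agent.H255.M5D.J6.eq_1]
  try have : _root_.True := by simp only [_root_.Cfsg.Agent.H255.M5D.t6.eq_1]
  try have : _root_.True := by simp only [_root_.Cfsg.Agent.H255.M5D.n6.eq_1]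
  try have : _root_.True := by simp only [_root_.Cfsg.Agent.H255.M5D.Base.M.eq_1]
  try have : _root_.True := by simp only [_root_.Cfsg.Agent.H255.M5D.K.eq_1]
  exact _root_.True.intro
end

-- part: H777/M5/Sit
section
set_option linter.all false

/-!
# The centralizer of an element `x` of order 5 of the Monster (5B), abstractly (helper777)

* `Sit G` : the situation: `x` of order 5, involutions `z`, `u`, `C(x) = N (C(x) ∩ C(z))`, `(C(x) ∩ C(z)) / ⟨x, z⟩ ≅ J₂`,
  a subgroup `S` of order `5 ^ 4` of `C(x) ∩ C(u)`.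
* `WOut S` : the normal subgroup `5^{1+6}` of `C(x)` in coordinates, the action `rho` of `C(x) ∩ C(z)` on it.
* `RelH S` : elements of `C(x) ∩ C(z)` and relations.
-/

set_option autoImplicit false

namespace Cfsg.Agent.H777.M5

open Subgroup

/-- The situation in the Monster. -/
structure Sit (G : Type) [Group G] where
  x : G
  z : G
  u : G
  x_ord : orderOf x = 5
  z_sq : z * z = 1
  z_ne : z ≠ 1
  u_sq : u * u = 1
  xz : x * z = z * x
  xu : x * u = u * x
  uz : u * z = z * u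
  /-- a normal subgroup of odd order of `C(x)` -/
  N : Subgroup G
  N_le : N ≤ centralizer {x}
  N_odd : Odd (Nat.card N)
  N_conj : ∀ g ∈ centralizer {x}, ∀ n ∈ N, g * n * g⁻¹ ∈ N
  x_N : x ∈ N
  N_sup : ∀ g ∈ centralizer {x}, ∃ n ∈ N, ∃ h, h * x = x * h ∧ h * z = z * h ∧ g = n * h
  /-- the simple group `J₂` -/
  J : Type
  [grpJ : Group J]
  J_simple : IsSimpleGroup J
  J_card : Nat.card J = 604800
  f : ↥(centralizer {x} ⊓ centralizer {z}) →* J
  f_surj : Function.Surjective f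
  f_ker : ∀ h : ↥(centralizer {x} ⊓ centralizer {z}), f h = 1 ↔ ∃ k : ℕ, (h : G) = x ^ k ∨ (h : G) = x ^ k * z
  f_u : ∀ h : ↥(centralizer {x} ⊓ centralizer {z}), (h : G) = u → f h ≠ 1
  no125 : ∀ R : Subgroup G, R ≤ centralizer {x} → R ≤ centralizer {z} → R ≤ centralizer {u} → Nat.card R ≠ 125
  S : Subgroup G
  S_x : S ≤ centralizer {x}
  S_u : S ≤ centralizer {u}
  S_card : Nat.card S = 5 ^ 4
  S_center : ∀ y ∈ S, (∀ s ∈ S, y * s = s * y) → y ∈ zpowers x
  S_nab : ∃ s₁ ∈ S, ∃ s₂ ∈ S, s₁ * s₂ * s₁⁻¹ * s₂⁻¹ ∉ zpowers x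
  S_max : ∀ R : Subgroup G, IsPGroup 5 R → R ≤ centralizer {x} → R ≤ centralizer {u} → Nat.card R ≤ 5 ^ 4
  not_dvd : ¬ 5 ^ 10 ∣ Nat.card G

/-- The normal subgroup `5^{1+6}` of `C(x)` in coordinates. -/
structure WOut {G : Type} [Group G] (S : Sit G) where
  w : V6 → G
  om' : V6 → V6 → ZMod 5
  add_left : ∀ u u' v, om' (u + u') v = om' u v + om' u' v
  add_right : ∀ u v v', om' u (v + v') = om' u v + om' u v'
  alt : ∀ v, om' v v = 0
  nondeg : ∀ u, (∀ v, om' u v = 0) → u = 0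
  w_mul : ∀ u v, w u * w v = w (u + v) * S.x ^ (3 * om' u v).val
  w_x : ∀ v, w v * S.x = S.x * w v
  w_z : ∀ v, S.z * w v * S.z⁻¹ = w (-v)
  w_ne : ∀ v, w v ∈ zpowers S.x → v = 0
  w_N : ∀ v, w v ∈ S.N
  rho : G → (V6 ≃ₗ[ZMod 5] V6)
  rho_w : ∀ h, h * S.x = S.x * h → h * S.z = S.z * h → ∀ v, h * w v * h⁻¹ = w (rho h v)
  rho_om : ∀ h, h * S.x = S.x * h → h * S.z = S.z * h → ∀ u v, om' (rho h u) (rho h v) = om' u v
  rho_ker : ∀ h, h * S.x = S.x * h → h * S.z = S.z * h → (∀ v, rho h v = v) → h ∈ zpowers S.x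

/-- Elements of `C(x) ∩ C(z)` and relations. `j = c i c⁻¹`, `t = b b'³ b³ b'`. -/
structure RelH {G : Type} [Group G] (S : Sit G) where
  i : G
  c : G
  b : G
  b' : G
  a : G
  ix : i * S.x = S.x * i
  cx : c * S.x = S.x * c
  bx : b * S.x = S.x * b
  b'x : b' * S.x = S.x * b'
  ax : a * S.x = S.x * a
  iz : i * S.z = S.z * i
  cz : c * S.z = S.z * c
  bz : b * S.z = S.z * b
  b'z : b' * S.z = S.z * b'
  az : a * S.z = S.z * a
  c3 : c ^ 3 = 1
  b5 : b ^ 5 = 1
  b'5 : b' ^ 5 = 1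
  a5 : a ^ 5 = 1
  i2 : i * i = 1 ∨ i * i = S.z
  i_ne : i ≠ 1
  i_nez : i ≠ S.z
  ib : i * b = b * i
  ib' : i * b' = b' * i
  cb : c * b = b * c
  cb' : c * b' = b' * c
  cj : c * (c * i * c⁻¹) * c⁻¹ = i * (c * i * c⁻¹)
  ab : a * b = b * a
  ia : i * a * i⁻¹ = a⁻¹
  ja : (c * i * c⁻¹ * a) ^ 3 = 1 ∨ (c * i * c⁻¹ * a) ^ 3 = S.z
  ija : (i * (c * i * c⁻¹) * a) ^ 5 = 1 ∨ (i * (c * i * c⁻¹) * a) ^ 5 = S.z
  t2 : (b * b' ^ 3 * b ^ 3 * b') * (b * b' ^ 3 * b ^ 3 * b') = 1
  tb : (b * b' ^ 3 * b ^ 3 * b') * b * (b * b' ^ 3 * b ^ 3 * b')⁻¹ = b⁻¹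
  tb' : (b * b' ^ 3 * b ^ 3 * b') * b' * (b * b' ^ 3 * b ^ 3 * b')⁻¹ = b'⁻¹
  ta : (b * b' ^ 3 * b ^ 3 * b') * a = a * (b * b' ^ 3 * b ^ 3 * b')
  bb' : (b * b') ^ 3 = 1 ∨ (b * b') ^ 3 = S.z
  bb'2 : (b * b' ^ 2) ^ 2 = 1 ∨ (b * b' ^ 2) ^ 2 = S.z
  ab'15 : (a * b') ^ 15 = 1 ∨ (a * b') ^ 15 = S.z
  b_ne : b ∉ zpowers S.x
  ab'_ne : a * b' * a⁻¹ * b'⁻¹ ∉ zpowers S.x

end Cfsg.Agent.H777.M5
end

-- part: H961/M5/CWord
section
set_option linter.all false
open scoped Cfsg.Agent.FastGrp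

-- part: H961/M5/CAbs
section
/-!
# Lifting the relations of `RelH` through a central extension by a group of order two
(helper961; task 2146 of helper777)
-/

set_option autoImplicit false

namespace Cfsg.Agent.H961.M5.CAbs

open Subgroup
open Cfsg.Agent.H777.M5

/-- the relations modulo the centre -/
structure RelK {K : Type*} [Group K] (i c b b' a u : K) : Prop where
  c3 : c ^ 3 = 1
  b5 : b ^ 5 = 1
  b'5 : b' ^ 5 = 1
  a5 : a ^ 5 = 1
  i2 : i * i = 1
  ib : i * b = b * i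
  ib' : i * b' = b' * i
  cb : c * b = b * c
  cb' : c * b' = b' * c
  cj : c * (c * i * c⁻¹) * c⁻¹ = i * (c * i * c⁻¹)
  ab : a * b = b * a
  ia : i * a * i⁻¹ = a⁻¹
  ja : (c * i * c⁻¹ * a) ^ 3 = 1
  ija : (i * (c * i * c⁻¹) * a) ^ 5 = 1
  t : b * b' ^ 3 * b ^ 3 * b' = u
  tb : u * b * u⁻¹ = b⁻¹
  tb' : u * b' * u⁻¹ = b'⁻¹
  ta : u * a = a * u
  bb' : (b * b') ^ 3 = 1
  bb'2 : (b * b' ^ 2) ^ 2 = 1
  ab'15 : (a * b') ^ 15 = 1
  i1 : i ≠ 1
  b1 : b ≠ 1
  ab' : a * b' ≠ b' * a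

/-- a homomorphism with kernel of order two and the central elements -/
structure Ext {H K : Type*} [Group H] [Group K] (ψ : H →* K) (X Z : H) : Prop where
  zc : ∀ h, h * Z = Z * h
  z2 : Z * Z = 1
  z1 : Z ≠ 1
  ker : ∀ h, ψ h = 1 → h = 1 ∨ h = Z
  ψz : ψ Z = 1
  xc : ∀ h, h * X = X * h
  x5 : X ^ 5 = 1

section

variable {H K : Type*} [Group H] [Group K] {ψ : H →* K} {X Z : H}

theorem Ext.eq_or (E : Ext ψ X Z) {h k : H} (hk : ψ h = ψ k) : h = k ∨ h = k * Z := by
  have h1 : ψ (k⁻¹ * h) = 1 := by rw [map_mul, map_inv, hk, inv_mul_cancel]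
  rcases E.ker _ h1 with h2 | h2
  · left; exact (inv_mul_eq_one.1 h2).symm
  · right; exact inv_mul_eq_iff_eq_mul.1 h2

theorem Ext.mul_pow (E : Ext ψ X Z) (k : H) {n : ℕ} (hn : Odd n) : (k * Z) ^ n = k ^ n * Z := by
  have h1 : Commute k Z := E.zc k
  obtain ⟨m, rfl⟩ := hn
  rw [h1.mul_pow, pow_succ Z, pow_mul Z, pow_two Z, E.z2, one_pow, one_mul]

theorem Ext.eq_of_odd (E : Ext ψ X Z) {h k : H} (hk : ψ h = ψ k) {n : ℕ} (hn : Odd n) (h1 : h ^ n = 1) (k1 : k ^ n = 1) :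
    h = k := by
  rcases E.eq_or hk with h2 | h2
  · exact h2
  · exfalso
    apply E.z1
    rw [h2, E.mul_pow k hn, k1, one_mul] at h1
    exact h1

theorem Ext.exists_odd (E : Ext ψ X Z) (y : H) {n : ℕ} (hn : Odd n) (hy : ψ y ^ n = 1) :
    ∃ y', ψ y' = ψ y ∧ y' ^ n = 1 := by
  rw [← map_pow] at hy
  rcases E.ker _ hy with h1 | h1
  · exact ⟨y, rfl, h1⟩
  · refine ⟨y * Z, by rw [map_mul, E.ψz, mul_one], ?_⟩
    rw [E.mul_pow y hn, h1, E.z2]

/-- conjugation relations between elements of odd order -/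
theorem Ext.conj (E : Ext ψ X Z) {g h k : H} (hr : ψ g * ψ h * (ψ g)⁻¹ = ψ k) {n : ℕ} (hn : Odd n) (h1 : h ^ n = 1)
    (k1 : k ^ n = 1) : g * h * g⁻¹ = k := by
  refine E.eq_of_odd ?_ hn ?_ k1
  · rw [map_mul, map_mul, map_inv, hr]
  · rw [conj_pow, h1, mul_one, mul_inv_cancel]

theorem Ext.comm (E : Ext ψ X Z) {g h : H} (hr : ψ g * ψ h = ψ h * ψ g) {n : ℕ} (hn : Odd n) (h1 : h ^ n = 1) :
    g * h = h * g := by
  have h2 := E.conj (g := g) (h := h) (k := h) (by rw [hr, mul_inv_cancel_right]) hn h1 h1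
  exact mul_inv_eq_iff_eq_mul.1 h2

theorem Ext.inv (E : Ext ψ X Z) {g h : H} (hr : ψ g * ψ h * (ψ g)⁻¹ = (ψ h)⁻¹) {n : ℕ} (hn : Odd n) (h1 : h ^ n = 1) :
    g * h * g⁻¹ = h⁻¹ :=
  E.conj (by rw [hr, map_inv]) hn h1 (by rw [inv_pow, h1, inv_one])

/-- **The relations lift.** -/
theorem exists_lifts (E : Ext ψ X Z) {u : H} (hu : u * u = 1) {i₀ c₀ b₀ b₀' a₀ : H}
    (R : RelK (ψ i₀) (ψ c₀) (ψ b₀) (ψ b₀') (ψ a₀) (ψ u)) :
    ∃ i c b b' a : H, c ^ 3 = 1 ∧ b ^ 5 = 1 ∧ b' ^ 5 = 1 ∧ a ^ 5 = 1 ∧ (i * i = 1 ∨ i * i = Z) ∧ i ≠ 1 ∧ i ≠ Z ∧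
      i * b = b * i ∧ i * b' = b' * i ∧ c * b = b * c ∧ c * b' = b' * c ∧
      c * (c * i * c⁻¹) * c⁻¹ = i * (c * i * c⁻¹) ∧ a * b = b * a ∧ i * a * i⁻¹ = a⁻¹ ∧
      ((c * i * c⁻¹ * a) ^ 3 = 1 ∨ (c * i * c⁻¹ * a) ^ 3 = Z) ∧
      ((i * (c * i * c⁻¹) * a) ^ 5 = 1 ∨ (i * (c * i * c⁻¹) * a) ^ 5 = Z) ∧
      (b * b' ^ 3 * b ^ 3 * b') * (b * b' ^ 3 * b ^ 3 * b') = 1 ∧
      (b * b' ^ 3 * b ^ 3 * b') * b * (b * b' ^ 3 * b ^ 3 * b')⁻¹ = b⁻¹ ∧
      (b * b' ^ 3 * b ^ 3 * b') * b' * (b * b' ^ 3 * b ^ 3 * b')⁻¹ = b'⁻¹ ∧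
      (b * b' ^ 3 * b ^ 3 * b') * a = a * (b * b' ^ 3 * b ^ 3 * b') ∧
      ((b * b') ^ 3 = 1 ∨ (b * b') ^ 3 = Z) ∧ ((b * b' ^ 2) ^ 2 = 1 ∨ (b * b' ^ 2) ^ 2 = Z) ∧
      ((a * b') ^ 15 = 1 ∨ (a * b') ^ 15 = Z) ∧ b ∉ zpowers X ∧ a * b' * a⁻¹ * b'⁻¹ ∉ zpowers X := by
  have o3 : Odd 3 := by decide
  have o5 : Odd 5 := by decide
  obtain ⟨c, hc, c3⟩ := E.exists_odd c₀ o3 R.c3
  obtain ⟨b, hb, b5⟩ := E.exists_odd b₀ o5 R.b5
  obtain ⟨b', hb', b'5⟩ := E.exists_odd b₀' o5 R.b'5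
  obtain ⟨a, ha, a5⟩ := E.exists_odd a₀ o5 R.a5
  -- the element `i`
  obtain ⟨i, hi, cj⟩ : ∃ i, ψ i = ψ i₀ ∧ c * (c * i * c⁻¹) * c⁻¹ = i * (c * i * c⁻¹) := by
    have h1 : ψ (c * (c * i₀ * c⁻¹) * c⁻¹) = ψ (i₀ * (c * i₀ * c⁻¹)) := by
      simp only [map_mul, map_inv, hc]
      exact R.cj
    rcases E.eq_or h1 with h2 | h2
    · exact ⟨i₀, rfl, h2⟩
    · refine ⟨i₀ * Z, by rw [map_mul, E.ψz, mul_one], ?_⟩
      have hZc : c * (i₀ * Z) * c⁻¹ = c * i₀ * c⁻¹ * Z := by
        rw [← mul_assoc, mul_assoc _ Z, ← E.zc c⁻¹, ← mul_assoc]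
      have hZc2 : c * (c * i₀ * c⁻¹ * Z) * c⁻¹ = c * (c * i₀ * c⁻¹) * c⁻¹ * Z := by
        rw [← mul_assoc c (c * i₀ * c⁻¹) Z, mul_assoc _ Z, ← E.zc c⁻¹, ← mul_assoc]
      rw [hZc, hZc2, h2]
      calc i₀ * (c * i₀ * c⁻¹) * Z * Z = i₀ * (c * i₀ * c⁻¹) * (Z * Z) := by rw [mul_assoc]
        _ = (i₀ * ((c * i₀ * c⁻¹) * Z)) * Z := by simp only [mul_assoc]
        _ = (i₀ * (Z * (c * i₀ * c⁻¹))) * Z := by rw [E.zc (c * i₀ * c⁻¹)]
        _ = i₀ * Z * (c * i₀ * c⁻¹ * Z) := by simp only [mul_assoc]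
  have t0 : ψ (b * b' ^ 3 * b ^ 3 * b') = ψ u := by
    simp only [map_mul, map_pow, hb, hb']
    exact R.t
  set t : H := b * b' ^ 3 * b ^ 3 * b' with ht
  have t2 : t * t = 1 := by
    rcases E.eq_or t0 with h1 | h1
    · rw [h1, hu]
    · rw [h1]
      calc u * Z * (u * Z) = u * (Z * u) * Z := by simp only [mul_assoc]
        _ = u * (u * Z) * Z := by rw [E.zc u]
        _ = (u * u) * (Z * Z) := by simp only [mul_assoc]
        _ = 1 := by rw [hu, E.z2, one_mul]
  have tb : t * b * t⁻¹ = b⁻¹ := E.inv (by rw [t0, hb]; exact R.tb) o5 b5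
  have tb' : t * b' * t⁻¹ = b'⁻¹ := E.inv (by rw [t0, hb']; exact R.tb') o5 b'5
  have ta : t * a = a * t := E.comm (by rw [t0, ha]; exact R.ta) o5 a5
  have hpow : ∀ y ∈ zpowers X, y ^ 5 = 1 := by
    intro y hy
    obtain ⟨k, rfl⟩ := mem_zpowers_iff.1 hy
    rw [← zpow_natCast, ← zpow_mul, mul_comm, zpow_mul, zpow_natCast, E.x5, one_zpow]
  have hcen : ∀ y ∈ zpowers X, ∀ h, h * y = y * h := by
    intro y hy h
    obtain ⟨k, rfl⟩ := mem_zpowers_iff.1 hy
    exact ((show Commute h X from E.xc h).zpow_right k).eq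
  have hinv : ∀ y ∈ zpowers X, y = y⁻¹ → y = 1 := by
    intro y hy h1
    have h2 : y * y = 1 := by
      nth_rewrite 1 [h1]
      exact inv_mul_cancel y
    calc y = y ^ 5 * ((y * y) * (y * y))⁻¹ := by group
      _ = 1 := by rw [hpow y hy, h2]; group
  refine ⟨i, c, b, b', a, c3, b5, b'5, a5, ?_, ?_, ?_, ?_, ?_, ?_, ?_, cj, ?_, ?_, ?_, ?_, t2, tb, tb', ta, ?_, ?_, ?_, ?_,
    ?_⟩
  · exact E.ker _ (by rw [map_mul, hi]; exact R.i2)
  · intro h1
    apply R.i1
    rw [← hi, h1, map_one]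
  · intro h1
    apply R.i1
    rw [← hi, h1, E.ψz]
  · exact E.comm (by rw [hi, hb]; exact R.ib) o5 b5
  · exact E.comm (by rw [hi, hb']; exact R.ib') o5 b'5
  · exact E.comm (by rw [hc, hb]; exact R.cb) o5 b5
  · exact E.comm (by rw [hc, hb']; exact R.cb') o5 b'5
  · exact E.comm (by rw [ha, hb]; exact R.ab) o5 b5
  · exact E.inv (by rw [hi, ha]; exact R.ia) o5 a5
  · exact E.ker _ (by simp only [map_mul, map_inv, map_pow, hi, hc, ha]; exact R.ja)
  · exact E.ker _ (by simp only [map_mul, map_inv, map_pow, hi, hc, ha]; exact R.ija)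
  · exact E.ker _ (by simp only [map_mul, map_pow, hb, hb']; exact R.bb')
  · exact E.ker _ (by simp only [map_mul, map_pow, hb, hb']; exact R.bb'2)
  · exact E.ker _ (by simp only [map_mul, map_pow, ha, hb']; exact R.ab'15)
  · intro h1
    apply R.b1
    have h2 : b = b⁻¹ := by
      rw [← tb, hcen b h1 t, mul_inv_cancel_right]
    rw [← hb, hinv b h1 h2, map_one]
  · intro h1
    apply R.ab'
    rw [← ha, ← hb', ← map_mul, ← map_mul]
    congr 1
    set y := a * b' * a⁻¹ * b'⁻¹ with hy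
    have e1 : a * b' * a⁻¹ = y * b' := by rw [hy]; group
    -- conjugation by `t`
    have e2 : a * b'⁻¹ * a⁻¹ = y * b'⁻¹ := by
      have e3 : t * (a * b' * a⁻¹) * t⁻¹ = a * b'⁻¹ * a⁻¹ := by
        have e5 : t * (a * b' * a⁻¹) * t⁻¹ = (t * a) * b' * (a⁻¹ * t⁻¹) := by group
        have e6 : a⁻¹ * t⁻¹ = t⁻¹ * a⁻¹ := by rw [← mul_inv_rev, ta, mul_inv_rev]
        rw [e5, ta, e6, ← tb']
        group
      rw [← e3, e1]
      have e4 : t * (y * b') * t⁻¹ = y * (t * b' * t⁻¹) := by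
        rw [← mul_assoc t y b', hcen y h1 t]
        group
      rw [e4, tb']
    have e7 : a * b'⁻¹ * a⁻¹ = b'⁻¹ * y⁻¹ := by
      have : a * b'⁻¹ * a⁻¹ = (a * b' * a⁻¹)⁻¹ := by group
      rw [this, e1, mul_inv_rev]
    have e8 : y = y⁻¹ := by
      rw [e2, ← hcen y h1] at e7
      exact mul_left_cancel e7
    have e9 := hinv y h1 e8
    rw [e9, one_mul] at e1
    exact mul_inv_eq_iff_eq_mul.1 e1

end

/-- **`RelH`** from a homomorphism with kernel `⟨z⟩` of `C(x) ∩ C(z)`. -/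
theorem nonempty_relH {G : Type} [Group G] (S : Sit G) {K : Type} [Group K]
    (ψ : ↥(centralizer {S.x} ⊓ centralizer {S.z}) →* K)
    (hk : ∀ h, ψ h = 1 ↔ (h : G) = 1 ∨ (h : G) = S.z)
    (hu : S.u ∈ centralizer {S.x} ⊓ centralizer {S.z}) {i₀ c₀ b₀ b₀' a₀ : ↥(centralizer {S.x} ⊓ centralizer {S.z})}
    (R : RelK (ψ i₀) (ψ c₀) (ψ b₀) (ψ b₀') (ψ a₀) (ψ ⟨S.u, hu⟩)) : Nonempty (RelH S) := by
  have hx : S.x ∈ centralizer {S.x} ⊓ centralizer {S.z} :=
    mem_inf.2 ⟨mem_centralizer_singleton_iff.2 rfl, mem_centralizer_singleton_iff.2 S.xz⟩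
  have hz : S.z ∈ centralizer {S.x} ⊓ centralizer {S.z} :=
    mem_inf.2 ⟨mem_centralizer_singleton_iff.2 S.xz.symm, mem_centralizer_singleton_iff.2 rfl⟩
  have cx : ∀ h : ↥(centralizer {S.x} ⊓ centralizer {S.z}), (h : G) * S.x = S.x * h := fun h =>
    mem_centralizer_singleton_iff.1 (mem_inf.1 h.2).1
  have cz : ∀ h : ↥(centralizer {S.x} ⊓ centralizer {S.z}), (h : G) * S.z = S.z * h := fun h =>
    mem_centralizer_singleton_iff.1 (mem_inf.1 h.2).2
  have E : Ext ψ ⟨S.x, hx⟩ ⟨S.z, hz⟩ :=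
    { zc := fun h => Subtype.ext (cz h)
      z2 := Subtype.ext S.z_sq
      z1 := fun h => S.z_ne (congrArg Subtype.val h)
      ker := by
        intro h h1
        rcases (hk h).1 h1 with h2 | h2
        · exact Or.inl (Subtype.ext h2)
        · exact Or.inr (Subtype.ext h2)
      ψz := (hk _).2 (Or.inr rfl)
      xc := fun h => Subtype.ext (cx h)
      x5 := Subtype.ext (by
        show S.x ^ 5 = 1
        rw [← S.x_ord, pow_orderOf_eq_one]) }
  obtain ⟨i, c, b, b', a, h88⟩ := exists_lifts E (u := ⟨S.u, hu⟩) (Subtype.ext S.u_sq) R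
  revert h88; rintro ⟨c3, b5, b'5, a5, i2, h88⟩
  revert h88; rintro ⟨i1, iz, ib, ib', cb, h88⟩
  revert h88; rintro ⟨cb', cj, ab, ia, ja, h88⟩
  revert h88; rintro ⟨ija, t2, tb, tb', ta, h88⟩
  revert h88; rintro ⟨bb', bb'2, ab'15, b1, ab'⟩
  have hzp : ∀ y : ↥(centralizer {S.x} ⊓ centralizer {S.z}), (y : G) ∈ zpowers S.x →
      y ∈ zpowers (⟨S.x, hx⟩ : ↥(centralizer {S.x} ⊓ centralizer {S.z})) := by
    intro y hy
    obtain ⟨k, hk⟩ := mem_zpowers_iff.1 hy
    exact mem_zpowers_iff.2 ⟨k, Subtype.ext hk⟩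
  exact ⟨{
    i := i
    c := c
    b := b
    b' := b'
    a := a
    ix := cx i
    cx := cx c
    bx := cx b
    b'x := cx b'
    ax := cx a
    iz := cz i
    cz := cz c
    bz := cz b
    b'z := cz b'
    az := cz a
    c3 := congrArg Subtype.val c3
    b5 := congrArg Subtype.val b5
    b'5 := congrArg Subtype.val b'5
    a5 := congrArg Subtype.val a5
    i2 := i2.imp (congrArg Subtype.val) (congrArg Subtype.val)
    i_ne := fun h => i1 (Subtype.ext h)
    i_nez := fun h => iz (Subtype.ext h)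
    ib := congrArg Subtype.val ib
    ib' := congrArg Subtype.val ib'
    cb := congrArg Subtype.val cb
    cb' := congrArg Subtype.val cb'
    cj := congrArg Subtype.val cj
    ab := congrArg Subtype.val ab
    ia := congrArg Subtype.val ia
    ja := ja.imp (congrArg Subtype.val) (congrArg Subtype.val)
    ija := ija.imp (congrArg Subtype.val) (congrArg Subtype.val)
    t2 := congrArg Subtype.val t2
    tb := congrArg Subtype.val tb
    tb' := congrArg Subtype.val tb'
    ta := congrArg Subtype.val ta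
    bb' := bb'.imp (congrArg Subtype.val) (congrArg Subtype.val)
    bb'2 := bb'2.imp (congrArg Subtype.val) (congrArg Subtype.val)
    ab'15 := ab'15.imp (congrArg Subtype.val) (congrArg Subtype.val)
    b_ne := fun h => b1 (hzp _ h)
    ab'_ne := fun h => ab' (hzp (a * b' * a⁻¹ * b'⁻¹) h) }⟩

end Cfsg.Agent.H961.M5.CAbs
end

-- part: H961/M5/CWord
section
/-!
# The relations of `RelH` in `Co1` (helper961; task 2146 of helper777)

Words in the elements `MFive.JData.e`; kernel checks.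
-/

set_option autoImplicit false
set_option maxRecDepth 100000

namespace Cfsg.Agent.H961.M5.CWord

open Cfsg Cfsg.Agent.MFive Cfsg.Agent.CoOneType.CoEval
open Cfsg.Spor (Co1)

/-- the image in `Co1` of a word -/
noncomputable def wd (w : List ℕ) : Co1 := (w.map fun i => pr (JData.e i)).prod

theorem wd_append (v w : List ℕ) : wd (v ++ w) = wd v * wd w := by
  rw [wd, List.map_append, List.prod_append]
  rfl

theorem wd_nil : wd [] = 1 := rfl

theorem wd_single (i : ℕ) : wd [i] = QuotientGroup.mk (JData.e i) := by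
  rw [wd, List.map_singleton, List.prod_singleton]
  rfl

theorem wd_eq {v w : List ℕ} (h : sameB JData.M v w = true) : wd v = wd w := eq_of_sameB JData.rep h

theorem wd_ne {w : List ℕ} (h : neB JData.M w = true) : wd w ≠ 1 := ne_one_of_neB JData.rep h

def wI : List ℕ := [8]
def wC : List ℕ := [2, 5, 9]
def wB : List ℕ := [8, 11, 9, 11, 4, 10, 11, 10, 11]
def wA : List ℕ := [1, 3, 5, 10, 11, 11]
def wB' : List ℕ := [1, 7, 11, 7, 11, 7, 11, 9, 9, 11, 9]

/-- `w` commutes with the letter 0 modulo the centre -/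
def sameB' (w : List ℕ) : Bool := sameB JData.M (w ++ [0]) ([0] ++ w)

/-- `c i c²` -/
def wJ : List ℕ := wC ++ wI ++ (wC ++ wC)

theorem k1 : sameB JData.M (wC ++ wC ++ wC) [] = true := by
  delta sameB; rw [Cfsg.Agent.Co0Q.fold_eq]; decide +kernel
theorem k2 : sameB JData.M (wB ++ wB ++ wB ++ wB ++ wB) [] = true := by
  delta sameB; rw [Cfsg.Agent.Co0Q.fold_eq]; decide +kernel
theorem k3 : sameB JData.M (wB' ++ wB' ++ wB' ++ wB' ++ wB') [] = true := by
  delta sameB; rw [Cfsg.Agent.Co0Q.fold_eq]; decide +kernel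
theorem k4 : sameB JData.M (wA ++ wA ++ wA ++ wA ++ wA) [] = true := by
  delta sameB; rw [Cfsg.Agent.Co0Q.fold_eq]; decide +kernel
theorem k5 : sameB JData.M (wI ++ wI) [] = true := by
  delta sameB; rw [Cfsg.Agent.Co0Q.fold_eq]; decide +kernel
theorem k6 : sameB JData.M (wI ++ wB) (wB ++ wI) = true := by
  delta sameB; rw [Cfsg.Agent.Co0Q.fold_eq]; decide +kernel
theorem k7 : sameB JData.M (wI ++ wB') (wB' ++ wI) = true := by
  delta sameB; rw [Cfsg.Agent.Co0Q.fold_eq]; decide +kernel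
theorem k8 : sameB JData.M (wC ++ wB) (wB ++ wC) = true := by
  delta sameB; rw [Cfsg.Agent.Co0Q.fold_eq]; decide +kernel
theorem k9 : sameB JData.M (wC ++ wB') (wB' ++ wC) = true := by
  delta sameB; rw [Cfsg.Agent.Co0Q.fold_eq]; decide +kernel
theorem k10 : sameB JData.M (wC ++ wJ) (wI ++ wJ ++ wC) = true := by
  delta sameB; rw [Cfsg.Agent.Co0Q.fold_eq]; decide +kernel
theorem k11 : sameB JData.M (wA ++ wB) (wB ++ wA) = true := by
  delta sameB; rw [Cfsg.Agent.Co0Q.fold_eq]; decide +kernel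
theorem k12 : sameB JData.M (wA ++ wI ++ wA) wI = true := by
  delta sameB; rw [Cfsg.Agent.Co0Q.fold_eq]; decide +kernel
theorem k13 : sameB JData.M (wJ ++ wA ++ (wJ ++ wA) ++ (wJ ++ wA)) [] = true := by
  delta sameB; rw [Cfsg.Agent.Co0Q.fold_eq]; decide +kernel
theorem k14 : sameB JData.M (wI ++ wJ ++ wA ++ (wI ++ wJ ++ wA) ++ (wI ++ wJ ++ wA) ++ (wI ++ wJ ++ wA) ++
    (wI ++ wJ ++ wA)) [] = true := by
  delta sameB; rw [Cfsg.Agent.Co0Q.fold_eq]; decide +kernel
theorem k15 : sameB JData.M (wB ++ (wB' ++ wB' ++ wB') ++ (wB ++ wB ++ wB) ++ wB') [1] = true := by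
  delta sameB; rw [Cfsg.Agent.Co0Q.fold_eq]; decide +kernel
theorem k16 : sameB JData.M (wB ++ [1] ++ wB) [1] = true := by
  delta sameB; rw [Cfsg.Agent.Co0Q.fold_eq]; decide +kernel
theorem k17 : sameB JData.M (wB' ++ [1] ++ wB') [1] = true := by
  delta sameB; rw [Cfsg.Agent.Co0Q.fold_eq]; decide +kernel
theorem k18 : sameB JData.M ([1] ++ wA) (wA ++ [1]) = true := by
  delta sameB; rw [Cfsg.Agent.Co0Q.fold_eq]; decide +kernel
theorem k19 : sameB JData.M (wB ++ wB' ++ (wB ++ wB') ++ (wB ++ wB')) [] = true := by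
  delta sameB; rw [Cfsg.Agent.Co0Q.fold_eq]; decide +kernel
theorem k20 : sameB JData.M (wB ++ (wB' ++ wB') ++ (wB ++ (wB' ++ wB'))) [] = true := by
  delta sameB; rw [Cfsg.Agent.Co0Q.fold_eq]; decide +kernel
theorem k21 : neB JData.M wI = true := by
  delta neB; rw [Cfsg.Agent.Co0Q.fold_eq]; decide +kernel
theorem k22 : neB JData.M wB = true := by
  delta neB; rw [Cfsg.Agent.Co0Q.fold_eq]; decide +kernel
theorem k23 : neB JData.M (wA ++ wB' ++ (wA ++ wA ++ wA ++ wA) ++ (wB' ++ wB' ++ wB' ++ wB')) = true := by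
  delta neB; rw [Cfsg.Agent.Co0Q.fold_eq]; decide +kernel


/-- `(a b')⁵` -/
def w5 : List ℕ := wA ++ wB' ++ (wA ++ wB') ++ (wA ++ wB') ++ (wA ++ wB') ++ (wA ++ wB')

theorem k24 : sameB JData.M (w5 ++ w5 ++ w5) [] = true := by
  delta sameB; rw [Cfsg.Agent.Co0Q.fold_eq]; decide +kernel
theorem k25 : sameB JData.M (wA ++ [0]) ([0] ++ wA) = true := by
  delta sameB; rw [Cfsg.Agent.Co0Q.fold_eq]; decide +kernel
theorem k26 : sameB JData.M (wB ++ [0]) ([0] ++ wB) = true := by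
  delta sameB; rw [Cfsg.Agent.Co0Q.fold_eq]; decide +kernel
theorem k27 : sameB JData.M (wB' ++ [0]) ([0] ++ wB') = true := by
  delta sameB; rw [Cfsg.Agent.Co0Q.fold_eq]; decide +kernel
theorem k28 : sameB JData.M (wC ++ [0]) ([0] ++ wC) = true := by
  delta sameB; rw [Cfsg.Agent.Co0Q.fold_eq]; decide +kernel
theorem k29 : sameB JData.M (wI ++ [0]) ([0] ++ wI) = true := by
  delta sameB; rw [Cfsg.Agent.Co0Q.fold_eq]; decide +kernel

theorem p3 {G : Type*} [Group G] (g : G) : g ^ 3 = g * g * g := by rw [pow_succ, pow_two]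

theorem p5 {G : Type*} [Group G] (g : G) : g ^ 5 = g * g * g * g * g := by rw [pow_succ, pow_succ, p3]

theorem inv_of {G : Type*} [Group G] {g h : G} (e : h * g * h = g) : g * h * g⁻¹ = h⁻¹ := by
  have h1 : g * h = h⁻¹ * g := by
    rw [eq_inv_mul_iff_mul_eq, ← mul_assoc]
    exact e
  rw [h1, mul_inv_cancel_right]

/-- **The relations in `Co1`.** -/
theorem relK : CAbs.RelK (wd wI) (wd wC) (wd wB) (wd wB') (wd wA) (wd [1]) := by
  have e1 := wd_eq k1
  have e2 := wd_eq k2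
  have e3 := wd_eq k3
  have e4 := wd_eq k4
  have e5 := wd_eq k5
  have e6 := wd_eq k6
  have e7 := wd_eq k7
  have e8 := wd_eq k8
  have e9 := wd_eq k9
  have e10 := wd_eq k10
  have e11 := wd_eq k11
  have e12 := wd_eq k12
  have e13 := wd_eq k13
  have e14 := wd_eq k14
  have e15 := wd_eq k15
  have e16 := wd_eq k16
  have e17 := wd_eq k17
  have e18 := wd_eq k18
  have e19 := wd_eq k19
  have e20 := wd_eq k20
  have e21 := wd_ne k21
  have e22 := wd_ne k22
  have e23 := wd_ne k23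
  have e24 := wd_eq k24
  have eJ : wd wJ = wd wC * wd wI * (wd wC * wd wC) := by rw [wJ, wd_append, wd_append, wd_append]
  have e55 : wd w5 = (wd wA * wd wB') ^ 5 := by
    rw [w5, p5]
    simp only [wd_append]
  simp only [wd_append, wd_nil] at e1 e2 e3 e4 e5 e6 e7 e8 e9 e10 e11 e12 e13 e14 e15 e16 e17 e18 e19 e20 e23 e24
  have c2 : wd wC * wd wC = (wd wC)⁻¹ := by
    rw [eq_inv_iff_mul_eq_one]
    exact e1
  rw [c2] at eJ
  rw [eJ] at e10 e13 e14
  rw [e55] at e24
  have a5 : wd wA ^ 5 = 1 := by rw [p5]; exact e4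
  have b'5 : wd wB' ^ 5 = 1 := by rw [p5]; exact e3
  refine
    { c3 := by rw [p3]; exact e1
      b5 := by rw [p5]; exact e2
      b'5 := b'5
      a5 := a5
      i2 := e5
      ib := e6
      ib' := e7
      cb := e8
      cb' := e9
      cj := by
        rw [mul_inv_eq_iff_eq_mul]
        exact e10
      ab := e11
      ia := inv_of e12
      ja := by rw [p3]; exact e13
      ija := by rw [p5]; exact e14
      t := by rw [p3, p3]; exact e15
      tb := inv_of e16
      tb' := inv_of e17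
      ta := e18
      bb' := by rw [p3]; exact e19
      bb'2 := by rw [pow_two, pow_two]; exact e20
      ab'15 := by
        rw [show 15 = 5 * 3 from rfl, pow_mul, p3]
        exact e24
      i1 := e21
      b1 := e22
      ab' := ?_ }
  intro h
  apply e23
  have hc : Commute (wd wA) (wd wB') := h
  have h4 : wd wA * wd wA * wd wA * wd wA = wd wA ^ 4 := by rw [pow_succ, p3]
  have h4' : wd wB' * wd wB' * wd wB' * wd wB' = wd wB' ^ 4 := by rw [pow_succ, p3]
  rw [h4, h4']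
  calc wd wA * wd wB' * wd wA ^ 4 * wd wB' ^ 4 = wd wA * (wd wB' * wd wA ^ 4) * wd wB' ^ 4 := by simp only [mul_assoc]
    _ = wd wA * (wd wA ^ 4 * wd wB') * wd wB' ^ 4 := by rw [(hc.symm.pow_right 4).eq]
    _ = (wd wA * wd wA ^ 4) * (wd wB' * wd wB' ^ 4) := by simp only [mul_assoc]
    _ = 1 := by rw [← pow_succ', ← pow_succ', a5, b'5, mul_one]

end Cfsg.Agent.H961.M5.CWord
end

private theorem dce_75fc3e20e7d7 : _root_.True := by
  try have : _root_.True := by simp only [_root_.Cfsg.Agent.H961.M5.CWord.w5.eq_1]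
  try have : _root_.True := by simp only [_root_.Cfsg.Agent.H961.M5.CWord.wd.eq_1]
  try have : _root_.True := by simp only [_root_.Cfsg.Agent.H961.M5.CWord.wJ.eq_1]
  exact _root_.True.intro
end

-- part: H411/M5/Syl
section
set_option linter.all false
open scoped Cfsg.Agent.FastGrp

/-!
# `PG` is a Sylow 5-subgroup of every group with `PData` and order not divisible by `5 ^ 10` (helper411, task M5-E)
-/

set_option autoImplicit false

namespace Cfsg.Agent.H411.M5

open Matrix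
open Cfsg.Agent.H777.M5

theorem pow_val_add' {G : Type*} [Group G] {x : G} (hx : x ^ 5 = 1) (c d : ZMod 5) :
    x ^ (c + d).val = x ^ c.val * x ^ d.val := by
  rw [ZMod.val_add, ← pow_add]
  conv_rhs => rw [← Nat.div_add_mod (c.val + d.val) 5, pow_add, pow_mul, hx, one_pow, one_mul]

theorem conj_pow_of {G : Type*} [Group G] {w : V6 → G} {a : G} {M : Matrix (Fin 6) (Fin 6) (ZMod 5)}
    (h : ∀ v, a * w v * a⁻¹ = w (M *ᵥ v)) (n : ℕ) (v : V6) : a ^ n * w v = w ((M ^ n) *ᵥ v) * a ^ n := by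
  induction n with
  | zero => simp
  | succ n ih =>
    have h1 : ∀ v, a * w v = w (M *ᵥ v) * a := fun v => by rw [← h v, inv_mul_cancel_right]
    rw [pow_succ' a, mul_assoc, ih, ← mul_assoc, h1, mul_assoc, ← pow_succ' a, mulVec_mulVec, ← pow_succ']

theorem om_nondeg {u : V6} (h : ∀ v, om u v = 0) : u = 0 := by
  funext k
  have h0 := h (Pi.single 0 1)
  have h1 := h (Pi.single 1 1)
  have h2 := h (Pi.single 2 1)
  have h3 := h (Pi.single 3 1)
  have h4 := h (Pi.single 4 1)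
  have h5 := h (Pi.single 5 1)
  simp [om] at h0 h1 h2 h3 h4 h5
  fin_cases k <;> simp_all

theorem mat_eq_one : ∀ i j : ZMod 5, mat i j = 1 → i = 0 ∧ j = 0 := by decide +kernel

theorem act_eq {i j : ZMod 5} (h : ∀ u, act i j u = u) : i = 0 ∧ j = 0 := by
  apply mat_eq_one
  ext r c
  have := congrFun (h (Pi.single c 1)) r
  rw [act, mulVec_single_one] at this
  simpa [Matrix.one_apply, Pi.single_apply, eq_comm] using this

namespace PDat

variable {G : Type*} [Group G] (P : PData G)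

theorem x_pow_w (n : ℕ) (v : V6) : P.x ^ n * P.w v = P.w v * P.x ^ n :=
  ((show Commute P.x (P.w v) from P.x_w v).pow_left n).eq

theorem x_pow_a (n m : ℕ) : P.x ^ n * P.a ^ m = P.a ^ m * P.x ^ n :=
  ((show Commute P.x P.a from P.x_a).pow_pow n m).eq

theorem x_pow_b (n m : ℕ) : P.x ^ n * P.b ^ m = P.b ^ m * P.x ^ n :=
  ((show Commute P.x P.b from P.x_b).pow_pow n m).eq

theorem ab_w (i j : ZMod 5) (v : V6) :
    P.a ^ i.val * P.b ^ j.val * P.w v = P.w (act i j v) * (P.a ^ i.val * P.b ^ j.val) := by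
  rw [mul_assoc, conj_pow_of P.b_w, ← mul_assoc, conj_pow_of P.a_w, mul_assoc, act, mat, mulVec_mulVec]

/-- the homomorphism `PG → G` -/
def hom : PG →* G where
  toFun g := P.w g.v * P.x ^ g.c.val * (P.a ^ g.i.val * P.b ^ g.j.val)
  map_one' := by
    have h : P.w 0 = 1 := by
      have := P.w_mul 0 0
      rw [om_self, mul_zero, ZMod.val_zero, pow_zero, mul_one, add_zero] at this
      exact mul_eq_left.1 this
    simp [h]
  map_mul' g h := by
    simp only [PG.mul_v, PG.mul_c, PG.mul_i, PG.mul_j]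
    rw [pow_val_add' P.x_five, pow_val_add' P.x_five, pow_val_add' P.a_five, pow_val_add' P.b_five]
    have e1 : P.a ^ g.i.val * P.a ^ h.i.val * (P.b ^ g.j.val * P.b ^ h.j.val) =
        (P.a ^ g.i.val * P.b ^ g.j.val) * (P.a ^ h.i.val * P.b ^ h.j.val) := by
      have := ((show Commute P.a P.b from P.a_b).pow_pow h.i.val g.j.val).eq
      rw [mul_assoc, mul_assoc, ← mul_assoc (P.a ^ h.i.val), this, mul_assoc]
    rw [e1]
    have e2 : P.w (g.v + act g.i g.j h.v) * (P.x ^ g.c.val * P.x ^ h.c.val * P.x ^ (3 * om g.v (act g.i g.j h.v)).val) =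
        P.w g.v * P.x ^ g.c.val * (P.w (act g.i g.j h.v) * P.x ^ h.c.val) := by
      have e4 : P.x ^ g.c.val * P.x ^ h.c.val * P.x ^ (3 * om g.v (act g.i g.j h.v)).val =
          P.x ^ (3 * om g.v (act g.i g.j h.v)).val * (P.x ^ g.c.val * P.x ^ h.c.val) := by
        rw [← pow_add, ← pow_add, ← pow_add, add_comm]
      rw [e4, ← mul_assoc, ← P.w_mul, mul_assoc, mul_assoc, ← mul_assoc (P.w (act g.i g.j h.v)), ← x_pow_w P, mul_assoc]
    rw [e2]
    have e3 : P.a ^ g.i.val * P.b ^ g.j.val * P.x ^ h.c.val = P.x ^ h.c.val * (P.a ^ g.i.val * P.b ^ g.j.val) := by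
      rw [mul_assoc, ← x_pow_b P, ← mul_assoc, ← x_pow_a P, mul_assoc]
    calc P.w g.v * P.x ^ g.c.val * (P.w (act g.i g.j h.v) * P.x ^ h.c.val) *
          (P.a ^ g.i.val * P.b ^ g.j.val * (P.a ^ h.i.val * P.b ^ h.j.val))
        = P.w g.v * P.x ^ g.c.val * (P.w (act g.i g.j h.v) * ((P.x ^ h.c.val *
          (P.a ^ g.i.val * P.b ^ g.j.val)) * (P.a ^ h.i.val * P.b ^ h.j.val))) := by simp only [mul_assoc]
      _ = P.w g.v * P.x ^ g.c.val * ((P.w (act g.i g.j h.v) * (P.a ^ g.i.val * P.b ^ g.j.val)) *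
          (P.x ^ h.c.val * (P.a ^ h.i.val * P.b ^ h.j.val))) := by rw [← e3]; simp only [mul_assoc]
      _ = P.w g.v * P.x ^ g.c.val * (P.a ^ g.i.val * P.b ^ g.j.val) *
          (P.w h.v * P.x ^ h.c.val * (P.a ^ h.i.val * P.b ^ h.j.val)) := by rw [← ab_w]; simp only [mul_assoc]

@[simp] theorem hom_apply (g : PG) : hom P g = P.w g.v * P.x ^ g.c.val * (P.a ^ g.i.val * P.b ^ g.j.val) := rfl

theorem x_pow_eq_one {c : ZMod 5} (h : P.x ^ c.val = 1) : c = 0 := by
  have : Fact (Nat.Prime 5) := ⟨Nat.prime_five⟩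
  have : orderOf P.x = 5 := orderOf_eq_prime P.x_five P.x_ne
  have h2 := orderOf_dvd_of_pow_eq_one h
  rw [this] at h2
  have h3 := Nat.eq_zero_of_dvd_of_lt h2 (ZMod.val_lt c)
  exact (ZMod.val_eq_zero c).1 h3

theorem w_conj (u v : V6) : P.w u * P.w v = P.w v * P.w u * P.x ^ (om u v).val := by
  rw [P.w_mul, P.w_mul, mul_assoc, ← pow_val_add' P.x_five, add_comm v u, om_swap u v]
  congr 3
  have h5 : (5 : ZMod 5) = 0 := by decide
  linear_combination (om u v) * h5

theorem w_ker {v : V6} {c : ZMod 5} (h : P.w v * P.x ^ c.val = 1) : v = 0 := by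
  refine om_nondeg fun u => ?_
  apply x_pow_eq_one P
  have h1 := w_conj P v u
  have h2 : P.w v = (P.x ^ c.val)⁻¹ := eq_inv_of_mul_eq_one_left h
  have h3 : P.w v * P.w u = P.w u * P.w v := by
    rw [h2, inv_mul_eq_iff_eq_mul, ← mul_assoc, x_pow_w P, mul_inv_cancel_right]
  rw [h3] at h1
  exact left_eq_mul.1 h1

theorem hom_injective : Function.Injective (hom P) := by
  rw [injective_iff_map_eq_one]
  intro g hg
  -- `g` acts trivially on `w u`
  have key : ∀ u, P.w (act g.i g.j u) * P.x ^ (om g.v (act g.i g.j u)).val = P.w u := by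
    intro u
    have h1 : hom P g * P.w u = P.w u * hom P g := by rw [hg, one_mul, mul_one]
    have h2 : hom P g * P.w u = (P.w (act g.i g.j u) * P.x ^ (om g.v (act g.i g.j u)).val) * hom P g := by
      rw [hom_apply, mul_assoc, ab_w, ← mul_assoc, mul_assoc (P.w g.v), x_pow_w P, ← mul_assoc (P.w g.v), w_conj P]
      have e := x_pow_w P (om g.v (act g.i g.j u)).val g.v
      simp only [mul_assoc]
      congr 1
      simp only [← mul_assoc]
      rw [e]
    rw [h2] at h1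
    exact mul_right_cancel h1
  have act1 : ∀ u, act g.i g.j u = u := by
    intro u
    have h1 := key u
    have h2 : P.w (act g.i g.j u - u) * P.x ^ (3 * om (act g.i g.j u) (-u) + om g.v (act g.i g.j u)).val = 1 := by
      rw [pow_val_add' P.x_five, ← mul_assoc, sub_eq_add_neg, ← P.w_mul, mul_assoc, ← x_pow_w P, ← mul_assoc, h1,
        P.w_mul, add_neg_cancel, om_neg_right, om_self]
      have h : P.w 0 = 1 := by
        have := P.w_mul 0 0
        rw [om_self, mul_zero, ZMod.val_zero, pow_zero, mul_one, add_zero] at this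
        exact mul_eq_left.1 this
      simp [h]
    exact sub_eq_zero.1 (w_ker P h2)
  obtain ⟨hi, hj⟩ := act_eq act1
  have hv : g.v = 0 := by
    refine om_nondeg fun u => ?_
    have h1 := key u
    rw [act1] at h1
    exact x_pow_eq_one P (mul_eq_left.1 h1)
  have hc : g.c = 0 := by
    apply x_pow_eq_one P
    have h : P.w 0 = 1 := by
      have := P.w_mul 0 0
      rw [om_self, mul_zero, ZMod.val_zero, pow_zero, mul_one, add_zero] at this
      exact mul_eq_left.1 this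
    have h2 := hg
    rw [hom_apply, hi, hj, hv, h] at h2
    simpa using h2
  exact PG.ext hv hc hi hj

theorem card_range : Nat.card (hom P).range = 5 ^ 9 := by
  rw [← PG.card_PG]
  exact (Nat.card_congr (MonoidHom.ofInjective (hom_injective P)).toEquiv).symm

end PDat

theorem isPGroup_PG : IsPGroup 5 PG := IsPGroup.of_card PG.card_PG

/-- **M5-E** -/
theorem exists_equiv_sylow {G : Type} [Group G] [Finite G] (P : PData G) (h : ¬ 5 ^ 10 ∣ Nat.card G) (T : Sylow 5 G) :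
    Nonempty (PG ≃* ↥(T : Subgroup G)) := by
  have : Fact (Nat.Prime 5) := ⟨Nat.prime_five⟩
  have hR : IsPGroup 5 (PDat.hom P).range := IsPGroup.of_card (PDat.card_range P)
  obtain ⟨T', hT'⟩ := hR.exists_le_sylow
  have hcard : Nat.card (T' : Subgroup G) = 5 ^ 9 := by
    rw [Sylow.card_eq_multiplicity]
    congr 1
    apply le_antisymm
    · by_contra hlt
      push Not at hlt
      exact h ((Nat.prime_five.pow_dvd_iff_le_factorization Nat.card_pos.ne').2 hlt)
    · rw [← Nat.prime_five.pow_dvd_iff_le_factorization Nat.card_pos.ne', ← PDat.card_range P]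
      exact Subgroup.card_subgroup_dvd_card _
  have heq : (PDat.hom P).range = (T' : Subgroup G) := by
    apply Subgroup.eq_of_le_of_card_ge hT'
    rw [hcard, PDat.card_range P]
  obtain ⟨g, hg⟩ := MulAction.exists_smul_eq G T' T
  have e1 : PG ≃* (PDat.hom P).range := MonoidHom.ofInjective (PDat.hom_injective P)
  have e2 : (T' : Subgroup G) ≃* (T : Subgroup G) := by
    rw [← hg]
    exact T'.equivSMul g
  exact ⟨e1.trans ((MulEquiv.subgroupCongr heq).trans e2)⟩

end Cfsg.Agent.H411.M5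
end

-- part: H255/M5D/Main
section
prune_inst 0xc46002003042000000180000320000001000000000000800a800040000018862a940200102200000800004402800004811100100020000000a00000000010020800050040300a100260001800082000000000000000000000000000000000000000000000
set_option linter.all false
open scoped Cfsg.Agent.FastGrp

-- part: H255/M5D/Plus
section
/-!
# The case `i² = 1` is impossible (helper255)
-/

set_option autoImplicit false

namespace Cfsg.Agent.H255.M5D.Plus

open Cfsg.Agent.H777.M5 Matrix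

attribute [-instance] AddSubgroupClass.instZModModule

local instance : Fact (Nat.Prime 5) := ⟨by norm_num⟩

abbrev E6 := Module.End F V6

structure PDat where
  om' : V6 →ₗ[F] V6 →ₗ[F] F
  alt : ∀ v, om' v v = 0
  nd : ∀ u, (∀ v, om' u v = 0) → u = 0
  I : E6
  J : E6
  T : E6
  C : E6
  B : E6
  iI : ∀ u v, om' (I u) (I v) = om' u v
  iJ : ∀ u v, om' (J u) (J v) = om' u v
  iT : ∀ u v, om' (T u) (T v) = om' u v
  II : ∀ v, I (I v) = v
  JJ : ∀ v, J (J v) = v
  IJ : ∀ v, I (J v) = J (I v)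
  TI : ∀ v, T (I v) = I (T v)
  TJ : ∀ v, T (J v) = J (T v)
  TT : ∀ v, T (T v) = v
  CI : ∀ v, C (I v) = J (C v)
  CJ : ∀ v, C (J v) = I (J (C v))
  C0 : ∀ v, C v = 0 → v = 0
  BI : ∀ v, B (I v) = I (B v)
  BJ : ∀ v, B (J v) = J (B v)
  BC : ∀ v, B (C v) = C (B v)
  BT : ∀ v, B (T (B v)) = T v
  B5 : ∀ v, B (B (B (B (B v)))) = v

namespace PDat

variable (S : PDat)

/-- the joint eigenspaces -/
def U (a b : F) : Submodule F V6 :=
  LinearMap.ker (S.I - a • (1 : E6)) ⊓ LinearMap.ker (S.J - b • (1 : E6))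

theorem mem_U {a b : F} {v : V6} : v ∈ S.U a b ↔ S.I v = a • v ∧ S.J v = b • v := by
  rw [U, Submodule.mem_inf, LinearMap.mem_ker, LinearMap.mem_ker]
  show S.I v - a • v = 0 ∧ S.J v - b • v = 0 ↔ _
  rw [sub_eq_zero, sub_eq_zero]

theorem C_mem {a b : F} (ha : a * a = 1) {v : V6} (hv : v ∈ S.U a b) : S.C v ∈ S.U (a * b) a := by
  rw [mem_U] at hv ⊢
  have h1 : S.J (S.C v) = a • S.C v := by rw [← S.CI, hv.1, map_smul]
  refine ⟨?_, h1⟩
  have h2 : S.I (S.J (S.C v)) = b • S.C v := by rw [← S.CJ, hv.2, map_smul]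
  rw [h1, map_smul] at h2
  have h3 : S.I (S.C v) = a • (a • S.I (S.C v)) := by rw [smul_smul, ha, one_smul]
  rw [h3, h2, smul_smul]

theorem comp_mem (a b : F) (ha : a * a = 1) (hb : b * b = 1) (v : V6) :
    v + a • S.I v + b • S.J v + (a * b) • S.I (S.J v) ∈ S.U a b := by
  rw [mem_U]
  constructor
  · simp only [map_add, map_smul, S.II]
    have e1 : a • (v + a • S.I v + b • S.J v + (a * b) • S.I (S.J v)) =
        a • v + (a * a) • S.I v + (a * b) • S.J v + (a * a * b) • S.I (S.J v) := by module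
    rw [e1, ha]
    module
  · simp only [map_add, map_smul, S.JJ, S.IJ]
    have e1 : b • (v + a • S.I v + b • S.J v + (a * b) • S.J (S.I v)) =
        b • v + (a * b) • S.I v + (b * b) • S.J v + (a * (b * b)) • S.J (S.I v) := by module
    rw [e1, hb]
    module

theorem exists_w {v : V6} (hv : v ∈ S.U 1 (-1)) (h0 : v ≠ 0) : ∃ w ∈ S.U 1 (-1), S.om' v w ≠ 0 := by
  obtain ⟨y, hy⟩ : ∃ y, S.om' v y ≠ 0 := by
    by_contra h
    push Not at h
    exact h0 (S.nd v h)
  refine ⟨_, S.comp_mem 1 (-1) (by decide) (by decide) y, ?_⟩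
  have hv' := S.mem_U.1 hv
  have e1 : ∀ y, S.om' v (S.I y) = S.om' v y := by
    intro y
    have := S.iI v y
    rwa [hv'.1, one_smul] at this
  have e2 : ∀ y, S.om' v (S.J y) = -S.om' v y := by
    intro y
    have := S.iJ v y
    rw [hv'.2, map_smul, LinearMap.smul_apply, smul_eq_mul] at this
    linear_combination -this
  simp only [map_add, map_smul, e1, e2, smul_eq_mul]
  intro h
  apply hy
  have : ∀ x : F, 4 * x = 0 → x = 0 := by decide
  apply this
  linear_combination h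

theorem exists_w' {v : V6} (hv : v ∈ S.U 1 (-1)) (h0 : v ≠ 0) {s : F} (hs : s * s = 1) (hT : S.T v = s • v) :
    ∃ w ∈ S.U 1 (-1), S.T w = s • w ∧ S.om' v w ≠ 0 := by
  obtain ⟨w, hw, hw0⟩ := S.exists_w hv h0
  have hw' := S.mem_U.1 hw
  have hTw : S.T w ∈ S.U 1 (-1) := by
    rw [mem_U, ← S.TI, ← S.TJ, hw'.1, hw'.2, map_smul, map_smul]
    exact ⟨rfl, rfl⟩
  refine ⟨w + s • S.T w, (S.U 1 (-1)).add_mem hw ((S.U 1 (-1)).smul_mem _ hTw), ?_, ?_⟩
  · rw [map_add, map_smul, S.TT]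
    have : s • (w + s • S.T w) = s • w + (s * s) • S.T w := by module
    rw [this, hs]
    module
  · have e1 : S.om' v (S.T w) = s * S.om' v w := by
      have := S.iT v w
      rw [hT, map_smul, LinearMap.smul_apply, smul_eq_mul] at this
      linear_combination (-S.om' v (S.T w)) * hs + s * this
    rw [map_add, map_smul, e1, smul_eq_mul]
    intro h
    apply hw0
    have : ∀ x : F, 2 * x = 0 → x = 0 := by decide
    apply this
    linear_combination h - (S.om' v w) * hs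

theorem finrank_le : Module.finrank F (S.U 1 1) + 3 * Module.finrank F (S.U 1 (-1)) ≤ 6 := by
  let f : (S.U 1 1 × S.U 1 (-1) × S.U 1 (-1) × S.U 1 (-1)) →ₗ[F] V6 :=
    { toFun := fun p => (p.1 : V6) + (p.2.1 : V6) + S.C p.2.2.1 + S.C (S.C p.2.2.2)
      map_add' := fun p q => by
        show ((p.1 : V6) + q.1) + ((p.2.1 : V6) + q.2.1) + S.C ((p.2.2.1 : V6) + q.2.2.1) +
          S.C (S.C ((p.2.2.2 : V6) + q.2.2.2)) = _
        rw [map_add, map_add, map_add]
        abel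
      map_smul' := fun c p => by
        show c • (p.1 : V6) + c • (p.2.1 : V6) + S.C (c • (p.2.2.1 : V6)) + S.C (S.C (c • (p.2.2.2 : V6))) =
          c • ((p.1 : V6) + (p.2.1 : V6) + S.C p.2.2.1 + S.C (S.C p.2.2.2))
        rw [map_smul, map_smul, map_smul]
        module }
  have hinj : Function.Injective f := by
    rw [injective_iff_map_eq_zero]
    rintro ⟨⟨p0, h0⟩, ⟨p1, h1⟩, ⟨p2, h2⟩, ⟨p3, h3⟩⟩ h
    have h' : p0 + p1 + S.C p2 + S.C (S.C p3) = 0 := h
    have k2 := S.mem_U.1 (S.C_mem (by decide) h2)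
    have k3 := S.mem_U.1 (S.C_mem (by decide) (S.C_mem (by decide) h3))
    have k0 := S.mem_U.1 h0
    have k1 := S.mem_U.1 h1
    have hI : S.I (p0 + p1 + S.C p2 + S.C (S.C p3)) = 0 := by rw [h', map_zero]
    have hJ : S.J (p0 + p1 + S.C p2 + S.C (S.C p3)) = 0 := by rw [h', map_zero]
    have hIJ : S.I (S.J (p0 + p1 + S.C p2 + S.C (S.C p3))) = 0 := by rw [h', map_zero, map_zero]
    simp only [map_add, map_smul, k0.1, k0.2, k1.1, k1.2, k2.1, k2.2, k3.1, k3.2] at hI hJ hIJ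
    have four : ∀ v : V6, (4 : F) • v = 0 → v = 0 := fun v hv => (smul_eq_zero.1 hv).resolve_left (by decide)
    have e0 : p0 = 0 := by
      apply four
      have : (4 : F) • p0 = (p0 + p1 + S.C p2 + S.C (S.C p3)) +
        ((1 : F) • p0 + (1 : F) • p1 + ((1 : F) * -1) • S.C p2 + ((1 : F) * -1 * 1) • S.C (S.C p3)) +
        ((1 : F) • p0 + (-1 : F) • p1 + (1 : F) • S.C p2 + ((1 : F) * -1) • S.C (S.C p3)) +
        ((1 : F) • (1 : F) • p0 + (-1 : F) • (1 : F) • p1 + (1 : F) • ((1 : F) * -1) • S.C p2 +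
          ((1 : F) * -1) • ((1 : F) * -1 * 1) • S.C (S.C p3)) := by module
      rw [this, h', hI, hJ, hIJ]
      simp
    have e1 : p1 = 0 := by
      apply four
      have : (4 : F) • p1 = (p0 + p1 + S.C p2 + S.C (S.C p3)) +
        ((1 : F) • p0 + (1 : F) • p1 + ((1 : F) * -1) • S.C p2 + ((1 : F) * -1 * 1) • S.C (S.C p3)) -
        ((1 : F) • p0 + (-1 : F) • p1 + (1 : F) • S.C p2 + ((1 : F) * -1) • S.C (S.C p3)) -
        ((1 : F) • (1 : F) • p0 + (-1 : F) • (1 : F) • p1 + (1 : F) • ((1 : F) * -1) • S.C p2 +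
          ((1 : F) * -1) • ((1 : F) * -1 * 1) • S.C (S.C p3)) := by module
      rw [this, h', hI, hJ, hIJ]
      simp
    have e2 : p2 = 0 := by
      apply S.C0
      apply four
      have : (4 : F) • S.C p2 = (p0 + p1 + S.C p2 + S.C (S.C p3)) -
        ((1 : F) • p0 + (1 : F) • p1 + ((1 : F) * -1) • S.C p2 + ((1 : F) * -1 * 1) • S.C (S.C p3)) +
        ((1 : F) • p0 + (-1 : F) • p1 + (1 : F) • S.C p2 + ((1 : F) * -1) • S.C (S.C p3)) -
        ((1 : F) • (1 : F) • p0 + (-1 : F) • (1 : F) • p1 + (1 : F) • ((1 : F) * -1) • S.C p2 +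
          ((1 : F) * -1) • ((1 : F) * -1 * 1) • S.C (S.C p3)) := by module
      rw [this, h', hI, hJ, hIJ]
      simp
    have e3 : p3 = 0 := by
      apply S.C0
      apply S.C0
      rw [e0, e1, e2, map_zero] at h'
      simpa using h'
    subst e0 e1 e2 e3
    rfl
  have h1 := LinearMap.finrank_le_finrank_of_injective hinj
  rw [Module.finrank_prod, Module.finrank_prod, Module.finrank_prod, Module.finrank_fin_fun] at h1
  omega

theorem two_le {v : V6} (hv : v ∈ S.U 1 (-1)) (h0 : v ≠ 0) : 2 ≤ Module.finrank F (S.U 1 (-1)) := by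
  obtain ⟨w, hw, hw0⟩ := S.exists_w hv h0
  have hli : LinearIndependent F (![⟨v, hv⟩, ⟨w, hw⟩] : Fin 2 → S.U 1 (-1)) := by
    rw [Fintype.linearIndependent_iff]
    intro g hg
    rw [Fin.sum_univ_two] at hg
    have hg' : g 0 • v + g 1 • w = 0 := congrArg Subtype.val hg
    have k1 : g 1 * S.om' v w = 0 := by
      have := congrArg (fun x => S.om' v x) hg'
      simpa [S.alt] using this
    have g1 := (mul_eq_zero.1 k1).resolve_right hw0
    rw [g1, zero_smul, add_zero] at hg'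
    have g0 := (smul_eq_zero.1 hg').resolve_right h0
    intro i
    fin_cases i
    · exact g0
    · exact g1
  have h1 := hli.fintype_card_le_finrank
  rwa [Fintype.card_fin] at h1

/-- `T` is a scalar on `U 1 (-1)` -/
theorem T_scalar : ∃ s : F, s * s = 1 ∧ ∀ v ∈ S.U 1 (-1), S.T v = s • v := by
  by_contra hc
  push Not at hc
  obtain ⟨y, hy, hy0⟩ := hc 1 (by decide)
  obtain ⟨y', hy', hy0'⟩ := hc (-1) (by decide)
  have hTU : ∀ w ∈ S.U 1 (-1), S.T w ∈ S.U 1 (-1) := by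
    intro w hw
    have hw' := S.mem_U.1 hw
    rw [mem_U, ← S.TI, ← S.TJ, hw'.1, hw'.2, map_smul, map_smul]
    exact ⟨rfl, rfl⟩
  -- `v` with `T v = -v`, `v'` with `T v' = v'`
  have hv : y - S.T y ∈ S.U 1 (-1) := (S.U 1 (-1)).sub_mem hy (hTU _ hy)
  have hv0 : y - S.T y ≠ 0 := by
    intro h
    apply hy0
    rw [one_smul]
    exact (sub_eq_zero.1 h).symm
  have hvT : S.T (y - S.T y) = (-1 : F) • (y - S.T y) := by
    rw [map_sub, S.TT]
    module
  have hv' : y' + S.T y' ∈ S.U 1 (-1) := (S.U 1 (-1)).add_mem hy' (hTU _ hy')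
  have hv0' : y' + S.T y' ≠ 0 := by
    intro h
    apply hy0'
    rw [neg_smul, one_smul]
    exact eq_neg_of_add_eq_zero_right h
  have hvT' : S.T (y' + S.T y') = (1 : F) • (y' + S.T y') := by
    rw [map_add, S.TT]
    module
  generalize y - S.T y = v at hv hv0 hvT
  generalize y' + S.T y' = v' at hv' hv0' hvT'
  obtain ⟨w, hw, hwT, hw0⟩ := S.exists_w' hv hv0 (by decide) hvT
  obtain ⟨w', hw', hwT', hw0'⟩ := S.exists_w' hv' hv0' (by decide) hvT'
  have orth : ∀ p p' : V6, S.T p = (-1 : F) • p → S.T p' = (1 : F) • p' → S.om' p p' = 0 := by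
    intro p p' h1 h2
    have := S.iT p p'
    rw [h1, h2, map_smul, map_smul, LinearMap.smul_apply, smul_eq_mul, smul_eq_mul] at this
    have e : ∀ x : F, 1 * (-1 * x) = x → x = 0 := by decide
    exact e _ this
  have skew : ∀ u v, S.om' u v = -S.om' v u := by
    intro u v
    have h := S.alt (u + v)
    simp only [map_add, LinearMap.add_apply, S.alt] at h
    linear_combination h
  have hli : LinearIndependent F (![⟨v, hv⟩, ⟨w, hw⟩, ⟨v', hv'⟩, ⟨w', hw'⟩] : Fin 4 → S.U 1 (-1)) := by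
    rw [Fintype.linearIndependent_iff]
    intro g hg
    rw [Fin.sum_univ_four] at hg
    have hg' : g 0 • v + g 1 • w + g 2 • v' + g 3 • w' = 0 := congrArg Subtype.val hg
    have k1 : g 1 * S.om' v w = 0 := by
      have := congrArg (fun x => S.om' v x) hg'
      simpa [S.alt, orth v v' hvT hvT', orth v w' hvT hwT'] using this
    have k0 : g 0 * S.om' w v = 0 := by
      have := congrArg (fun x => S.om' w x) hg'
      simpa [S.alt, orth w v' hwT hvT', orth w w' hwT hwT'] using this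
    have k3 : g 3 * S.om' v' w' = 0 := by
      have := congrArg (fun x => S.om' v' x) hg'
      simpa [S.alt, skew v' v, skew v' w, orth v v' hvT hvT', orth w v' hwT hvT'] using this
    have k2 : g 2 * S.om' w' v' = 0 := by
      have := congrArg (fun x => S.om' w' x) hg'
      simpa [S.alt, skew w' v, skew w' w, orth v w' hvT hwT', orth w w' hwT hwT'] using this
    have n0 : S.om' w v ≠ 0 := by rw [skew]; exact neg_ne_zero.2 hw0
    have n0' : S.om' w' v' ≠ 0 := by rw [skew]; exact neg_ne_zero.2 hw0'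
    intro i
    fin_cases i
    · exact (mul_eq_zero.1 k0).resolve_right n0
    · exact (mul_eq_zero.1 k1).resolve_right hw0
    · exact (mul_eq_zero.1 k2).resolve_right n0'
    · exact (mul_eq_zero.1 k3).resolve_right hw0'
  have h1 := hli.fintype_card_le_finrank
  have h2 := S.finrank_le
  rw [Fintype.card_fin] at h1
  omega

theorem B_U {v : V6} (hv : v ∈ S.U 1 (-1)) : S.B v = v := by
  obtain ⟨s, hs, hT⟩ := S.T_scalar
  have hv' := S.mem_U.1 hv
  have hB : S.B v ∈ S.U 1 (-1) := by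
    rw [mem_U, ← S.BI, ← S.BJ, hv'.1, hv'.2, map_smul, map_smul]
    exact ⟨rfl, rfl⟩
  have h1 : S.B (S.B v) = v := by
    have h2 := S.BT v
    rw [hT _ hB, map_smul, hT _ hv] at h2
    have h3 : s • s • S.B (S.B v) = s • s • v := by rw [h2]
    rwa [smul_smul, smul_smul, hs, one_smul, one_smul] at h3
  have h5 := S.B5 v
  rw [h1, h1] at h5
  exact h5

/-- **`i² = 1` is impossible** -/
theorem main : (∀ v, S.I v = v) ∨ (∀ v, S.B v = v) := by
  have four : ∀ v : V6, (4 : F) • v = 0 → v = 0 := fun v hv => (smul_eq_zero.1 hv).resolve_left (by decide)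
  have c00 := S.comp_mem 1 1 (by decide) (by decide)
  have c01 := S.comp_mem 1 (-1) (by decide) (by decide)
  have c10 := S.comp_mem (-1) 1 (by decide) (by decide)
  have c11 := S.comp_mem (-1) (-1) (by decide) (by decide)
  have m10 : ∀ v ∈ S.U (-1) 1, S.C (S.C v) ∈ S.U 1 (-1) := by
    intro v hv
    have h1 := S.C_mem (by decide) (S.C_mem (by decide) hv)
    have e1 : (-1 * 1 * -1 : F) = 1 := by decide
    have e2 : (-1 * 1 : F) = -1 := by decide
    rw [e1, e2] at h1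
    exact h1
  have m11 : ∀ v ∈ S.U (-1) (-1), S.C v ∈ S.U 1 (-1) := by
    intro v hv
    have h1 := S.C_mem (by decide) hv
    have e1 : (-1 * -1 : F) = 1 := by decide
    rw [e1] at h1
    exact h1
  by_cases hU : ∀ v ∈ S.U 1 (-1), v = 0
  · left
    intro v
    have h10 : ∀ v ∈ S.U (-1) 1, v = 0 := fun v hv => S.C0 _ (S.C0 _ (hU _ (m10 v hv)))
    have h11 : ∀ v ∈ S.U (-1) (-1), v = 0 := fun v hv => S.C0 _ (hU _ (m11 v hv))
    have e1 := h10 _ (c10 v)
    have e2 := h11 _ (c11 v)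
    have e3 : (2 : F) • (v - S.I v) = 0 := by
      rw [← add_zero (0 : V6)]
      nth_rewrite 1 [← e1]
      rw [← e2]
      module
    have e4 := (smul_eq_zero.1 e3).resolve_left (by decide)
    exact (sub_eq_zero.1 e4).symm
  · right
    push Not at hU
    obtain ⟨v0, hv0, hv0'⟩ := hU
    have h1 := S.two_le hv0 hv0'
    have h2 := S.finrank_le
    have h3 : Module.finrank F (S.U 1 1) = 0 := by omega
    have h4 : ∀ v ∈ S.U 1 1, v = 0 := by
      intro v hv
      have := Submodule.finrank_eq_zero.1 h3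
      rw [this] at hv
      exact (Submodule.mem_bot F).1 hv
    intro v
    have b0 := h4 _ (c00 v)
    have b1 := S.B_U (c01 v)
    have b2 : ∀ v ∈ S.U (-1) 1, S.B v = v := by
      intro v hv
      have h5 := S.B_U (m10 v hv)
      rw [S.BC, S.BC] at h5
      have h6 : S.C (S.C (S.B v - v)) = 0 := by rw [map_sub, map_sub, h5, sub_self]
      exact sub_eq_zero.1 (S.C0 _ (S.C0 _ h6))
    have b3 : ∀ v ∈ S.U (-1) (-1), S.B v = v := by
      intro v hv
      have h5 := S.B_U (m11 v hv)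
      rw [S.BC] at h5
      have h6 : S.C (S.B v - v) = 0 := by rw [map_sub, h5, sub_self]
      exact sub_eq_zero.1 (S.C0 _ h6)
    have b2' := b2 _ (c10 v)
    have b3' := b3 _ (c11 v)
    have e : (4 : F) • v = (v + (1 : F) • S.I v + (1 : F) • S.J v + ((1 : F) * 1) • S.I (S.J v)) +
      (v + (1 : F) • S.I v + (-1 : F) • S.J v + ((1 : F) * -1) • S.I (S.J v)) +
      (v + (-1 : F) • S.I v + (1 : F) • S.J v + ((-1 : F) * 1) • S.I (S.J v)) +
      (v + (-1 : F) • S.I v + (-1 : F) • S.J v + ((-1 : F) * -1) • S.I (S.J v)) := by module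
    have e' : S.B ((4 : F) • v) = (4 : F) • v := by
      rw [e, map_add, map_add, map_add, b1, b2', b3', b0, map_zero]
    rw [map_smul] at e'
    have e'' : (4 : F) • (S.B v - v) = 0 := by rw [smul_sub, e', sub_self]
    exact sub_eq_zero.1 (four _ e'')

end PDat

end Cfsg.Agent.H255.M5D.Plus
end

-- part: H255/M5D/Main
section
/-!
# `WOut` and `RelH` give `PData` (helper255, for helper777's S5232)
-/

set_option autoImplicit false

namespace Cfsg.Agent.H255.M5D

open Cfsg.Agent.H777.M5 Matrix Subgroup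

attribute [-instance] AddSubgroupClass.instZModModule

variable {G : Type} [Group G] {S : Sit G}

/-- commuting with `x` and `z` -/
def Cm (S : Sit G) (h : G) : Prop := h * S.x = S.x * h ∧ h * S.z = S.z * h

theorem Cm.mul {h k : G} (hh : Cm S h) (hk : Cm S k) : Cm S (h * k) := by
  constructor
  · rw [mul_assoc, hk.1, ← mul_assoc, hh.1, mul_assoc]
  · rw [mul_assoc, hk.2, ← mul_assoc, hh.2, mul_assoc]

theorem Cm.inv {h : G} (hh : Cm S h) : Cm S h⁻¹ :=
  ⟨(Commute.inv_left (show Commute h S.x from hh.1)), (Commute.inv_left (show Commute h S.z from hh.2))⟩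

theorem Cm.pow {h : G} (hh : Cm S h) (n : ℕ) : Cm S (h ^ n) :=
  ⟨(Commute.pow_left (show Commute h S.x from hh.1) n), (Commute.pow_left (show Commute h S.z from hh.2) n)⟩

theorem Cm.x (S : Sit G) : Cm S S.x := ⟨rfl, S.xz⟩
theorem Cm.z (S : Sit G) : Cm S S.z := ⟨S.xz.symm, rfl⟩
theorem Cm.one (S : Sit G) : Cm S 1 := ⟨by simp, by simp⟩

variable (W : WOut S)

theorem om_zero_right (u : V6) : W.om' u 0 = 0 := by
  have := W.add_right u 0 0
  rw [add_zero] at this
  exact left_eq_add.1 this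

theorem om_neg_right (u v : V6) : W.om' u (-v) = -W.om' u v := by
  have := W.add_right u v (-v)
  rw [add_neg_cancel, om_zero_right] at this
  linear_combination -this

theorem w_zero : W.w 0 = 1 := by
  have := W.w_mul 0 0
  rw [add_zero, W.alt, mul_zero, ZMod.val_zero, pow_zero, mul_one] at this
  exact mul_eq_left.1 this

theorem w_neg (v : V6) : W.w (-v) = (W.w v)⁻¹ := by
  have := W.w_mul v (-v)
  rw [add_neg_cancel, w_zero, om_neg_right, W.alt, neg_zero, mul_zero, ZMod.val_zero, pow_zero, mul_one] at this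
  exact (inv_eq_of_mul_eq_one_right this).symm

theorem w_inj {u v : V6} (h : W.w u = W.w v) : u = v := by
  have h1 := W.w_mul u (-v)
  rw [w_neg, ← h, mul_inv_cancel] at h1
  have h2 : W.w (u + -v) ∈ zpowers S.x := by
    rw [eq_comm, mul_eq_one_iff_eq_inv] at h1
    rw [h1]
    exact (zpowers S.x).inv_mem (npow_mem_zpowers S.x _)
  have h3 := W.w_ne _ h2
  rwa [← sub_eq_add_neg, sub_eq_zero] at h3

/-- the action as a linear map -/
def rh (h : G) : E6 := (W.rho h : V6 →ₗ[ZMod 5] V6)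

theorem rh_w {h : G} (hh : Cm S h) (v : V6) : h * W.w v * h⁻¹ = W.w (rh W h v) := W.rho_w h hh.1 hh.2 v

theorem rh_mul {h k : G} (hh : Cm S h) (hk : Cm S k) : rh W (h * k) = rh W h * rh W k := by
  refine LinearMap.ext fun v => ?_
  apply w_inj W
  rw [← rh_w W (hh.mul hk)]
  show _ = W.w (rh W h (rh W k v))
  rw [← rh_w W hh, ← rh_w W hk]
  group

theorem rh_one : rh W (1 : G) = 1 := by
  refine LinearMap.ext fun v => ?_
  apply w_inj W
  rw [← rh_w W (Cm.one S)]
  simp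

theorem rh_z : rh W S.z = -1 := by
  refine LinearMap.ext fun v => ?_
  apply w_inj W
  rw [← rh_w W (Cm.z S), W.w_z]
  rfl

theorem rh_pow {h : G} (hh : Cm S h) (n : ℕ) : rh W (h ^ n) = rh W h ^ n := by
  induction n with
  | zero => rw [pow_zero, pow_zero, rh_one]
  | succ n ih => rw [pow_succ, pow_succ, rh_mul W (hh.pow n) hh, ih]

theorem rh_om {h : G} (hh : Cm S h) (u v : V6) : W.om' (rh W h u) (rh W h v) = W.om' u v :=
  W.rho_om h hh.1 hh.2 u v

theorem rh_ker {h : G} (hh : Cm S h) (h1 : rh W h = 1) : h ∈ zpowers S.x :=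
  W.rho_ker h hh.1 hh.2 (fun v => by
    show rh W h v = v
    rw [h1]
    rfl)

theorem rh_sign {h : G} (h1 : h = 1 ∨ h = S.z) : rh W h = 1 ∨ rh W h = -1 := by
  rcases h1 with rfl | rfl
  · exact Or.inl (rh_one W)
  · exact Or.inr (rh_z W)

/-- the bilinear form -/
def omL : V6 →ₗ[F] V6 →ₗ[F] F :=
  LinearMap.mk₂ F W.om' W.add_left
    (fun c u v => by
      have := ZMod.map_smul (AddMonoidHom.mk' (fun u => W.om' u v) (fun a b => W.add_left a b v)) c u
      exact this)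
    W.add_right
    (fun c u v => by
      have := ZMod.map_smul (AddMonoidHom.mk' (fun v => W.om' u v) (fun a b => W.add_right u a b)) c v
      exact this)

/-! ### the elements -/

variable (R : RelH S)

/-- `j = c i c⁻¹` -/
def jj : G := R.c * R.i * R.c⁻¹
/-- `t = b b'³ b³ b'` -/
def tt : G := R.b * R.b' ^ 3 * R.b ^ 3 * R.b'

theorem cm_i : Cm S R.i := ⟨R.ix, R.iz⟩
theorem cm_c : Cm S R.c := ⟨R.cx, R.cz⟩
theorem cm_b : Cm S R.b := ⟨R.bx, R.bz⟩
theorem cm_b' : Cm S R.b' := ⟨R.b'x, R.b'z⟩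
theorem cm_a : Cm S R.a := ⟨R.ax, R.az⟩
theorem cm_j : Cm S (jj R) := ((cm_c R).mul (cm_i R)).mul (cm_c R).inv
theorem cm_t : Cm S (tt R) := (((cm_b R).mul ((cm_b' R).pow 3)).mul ((cm_b R).pow 3)).mul (cm_b' R)

theorem j_sq : jj R * jj R = R.c * (R.i * R.i) * R.c⁻¹ := by unfold jj; group

theorem ij_sq : R.i * jj R * (R.i * jj R) = R.c * (jj R * jj R) * R.c⁻¹ := by
  have h : R.c * jj R * R.c⁻¹ = R.i * jj R := R.cj
  rw [← h]
  group

theorem comm_bj : Commute R.b (jj R) :=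
  (((show Commute R.c R.b from R.cb).mul_left (show Commute R.i R.b from R.ib)).mul_left
    (Commute.inv_left (show Commute R.c R.b from R.cb))).symm

theorem comm_b'j : Commute R.b' (jj R) :=
  (((show Commute R.c R.b' from R.cb').mul_left (show Commute R.i R.b' from R.ib')).mul_left
    (Commute.inv_left (show Commute R.c R.b' from R.cb'))).symm

theorem comm_t {y : G} (h1 : Commute R.b y) (h2 : Commute R.b' y) : Commute (tt R) y :=
  (((h1.mul_left (h2.pow_left 3)).mul_left (h1.pow_left 3)).mul_left h2)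

theorem btb : R.b * tt R * R.b = tt R := by
  have h : tt R * R.b * (tt R)⁻¹ = R.b⁻¹ := R.tb
  have h1 : tt R * R.b = R.b⁻¹ * tt R := by rw [← h]; group
  rw [mul_assoc, h1]
  group

theorem b'tb' : R.b' * tt R * R.b' = tt R := by
  have h : tt R * R.b' * (tt R)⁻¹ = R.b'⁻¹ := R.tb'
  have h1 : tt R * R.b' = R.b'⁻¹ * tt R := by rw [← h]; group
  rw [mul_assoc, h1]
  group

theorem aia : R.a * R.i * R.a = R.i := by
  have h := R.ia
  have h1 : R.i * R.a = R.a⁻¹ * R.i := by rw [← h]; group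
  rw [mul_assoc, h1]
  group

theorem z_comm_c : R.c * S.z * R.c⁻¹ = S.z := by rw [R.cz]; group

theorem B_ne : rh W R.b ≠ 1 := fun h => R.b_ne (rh_ker W (cm_b R) h)

theorem apply_eq {X Y : E6} (h : X = Y) (v : V6) : X v = Y v := by rw [h]

/-- `i² = 1` is impossible -/
theorem ii_ne {S : Sit G} (W : WOut S) (R : RelH S) : R.i * R.i ≠ 1 := by
  intro hii
  have hjj : jj R * jj R = 1 := by rw [j_sq, hii]; group
  have hij : R.i * jj R * (R.i * jj R) = 1 := by rw [ij_sq, hjj]; group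
  have hij' : R.i * jj R = jj R * R.i := by
    have i1 : (R.i)⁻¹ = R.i := inv_eq_of_mul_eq_one_right hii
    have j1 : (jj R)⁻¹ = jj R := inv_eq_of_mul_eq_one_right hjj
    have ij1 : (R.i * jj R)⁻¹ = R.i * jj R := inv_eq_of_mul_eq_one_right hij
    rw [_root_.mul_inv_rev, i1, j1] at ij1
    exact ij1.symm
  have ci := cm_i R
  have cj := cm_j R
  have cc := cm_c R
  have cb := cm_b R
  have ct := cm_t R
  have ti : Commute (tt R) R.i := comm_t R (show Commute R.b R.i from R.ib.symm) (show Commute R.b' R.i from R.ib'.symm)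
  have tj : Commute (tt R) (jj R) := comm_t R (comm_bj R) (comm_b'j R)
  let P : Plus.PDat :=
    { om' := omL W
      alt := W.alt
      nd := W.nondeg
      I := rh W R.i
      J := rh W (jj R)
      T := rh W (tt R)
      C := rh W R.c
      B := rh W R.b
      iI := rh_om W ci
      iJ := rh_om W cj
      iT := rh_om W ct
      II := fun v => by
        show (rh W R.i * rh W R.i) v = v
        rw [← rh_mul W ci ci, hii, rh_one]
        rfl
      JJ := fun v => by
        show (rh W (jj R) * rh W (jj R)) v = v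
        rw [← rh_mul W cj cj, hjj, rh_one]
        rfl
      IJ := fun v => by
        show (rh W R.i * rh W (jj R)) v = (rh W (jj R) * rh W R.i) v
        rw [← rh_mul W ci cj, hij', rh_mul W cj ci]
      TI := fun v => by
        show (rh W (tt R) * rh W R.i) v = (rh W R.i * rh W (tt R)) v
        rw [← rh_mul W ct ci, ti.eq, rh_mul W ci ct]
      TJ := fun v => by
        show (rh W (tt R) * rh W (jj R)) v = (rh W (jj R) * rh W (tt R)) v
        rw [← rh_mul W ct cj, tj.eq, rh_mul W cj ct]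
      TT := fun v => by
        show (rh W (tt R) * rh W (tt R)) v = v
        rw [← rh_mul W ct ct, show tt R * tt R = 1 from R.t2, rh_one]
        rfl
      CI := fun v => by
        show (rh W R.c * rh W R.i) v = (rh W (jj R) * rh W R.c) v
        rw [← rh_mul W cc ci, ← rh_mul W cj cc]
        unfold jj
        congr 2
        group
      CJ := fun v => by
        show (rh W R.c * rh W (jj R)) v = (rh W R.i * (rh W (jj R) * rh W R.c)) v
        rw [← rh_mul W cc cj, ← rh_mul W cj cc, ← rh_mul W ci (cj.mul cc)]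
        have h : R.c * jj R * R.c⁻¹ = R.i * jj R := R.cj
        have h2 : R.c * jj R = R.i * (jj R * R.c) := by rw [← mul_assoc, ← h]; group
        rw [h2]
      C0 := fun v hv => (W.rho R.c).map_eq_zero_iff.1 hv
      BI := fun v => by
        show (rh W R.b * rh W R.i) v = (rh W R.i * rh W R.b) v
        rw [← rh_mul W cb ci, ← R.ib, rh_mul W ci cb]
      BJ := fun v => by
        show (rh W R.b * rh W (jj R)) v = (rh W (jj R) * rh W R.b) v
        rw [← rh_mul W cb cj, (comm_bj R).eq, rh_mul W cj cb]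
      BC := fun v => by
        show (rh W R.b * rh W R.c) v = (rh W R.c * rh W R.b) v
        rw [← rh_mul W cb cc, ← R.cb, rh_mul W cc cb]
      BT := fun v => by
        show (rh W R.b * rh W (tt R) * rh W R.b) v = rh W (tt R) v
        rw [← rh_mul W cb ct, ← rh_mul W (cb.mul ct) cb, btb]
      B5 := fun v => by
        have h : rh W R.b ^ 5 = 1 := by rw [← rh_pow W cb, R.b5, rh_one]
        have h2 := apply_eq h v
        exact h2 }
  rcases P.main with h | h
  · have h1 : rh W R.i = 1 := LinearMap.ext h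
    obtain ⟨k, hk⟩ := mem_zpowers_iff.1 (rh_ker W ci h1)
    apply R.i_ne
    have h2 : R.i ^ 5 = 1 := by
      rw [← hk, ← zpow_natCast, ← _root_.zpow_mul, mul_comm, _root_.zpow_mul, zpow_natCast]
      have : S.x ^ 5 = 1 := by rw [← S.x_ord]; exact pow_orderOf_eq_one _
      rw [this, _root_.one_zpow]
    have h3 : R.i ^ 2 = 1 := by rw [pow_two, hii]
    calc R.i = R.i ^ 5 * (R.i ^ 2)⁻¹ * (R.i ^ 2)⁻¹ := by group
      _ = 1 := by rw [h2, h3]; simp
  · exact B_ne W R (LinearMap.ext h)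

/-! ### the main case -/

section Ring

variable {R : Type*} [Ring R] {I J A I' J' : R}

/-- choose the sign of `J`: `(J A)³ = 1` -/
theorem exists_J (h : (J * A) * (J * A) * (J * A) = 1 ∨ (J * A) * (J * A) * (J * A) = -1) :
    ∃ J' : R, (J' = J ∨ J' = -J) ∧ (J' * A) * (J' * A) * (J' * A) = 1 := by
  rcases h with h | h
  · exact ⟨J, Or.inl rfl, h⟩
  · refine ⟨-J, Or.inr rfl, ?_⟩
    simp only [neg_mul, mul_neg, neg_neg]
    rw [h, neg_neg]

theorem exists_I (h : (I * J * A) * (I * J * A) * ((I * J * A) * (I * J * A)) * (I * J * A) = 1 ∨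
      (I * J * A) * (I * J * A) * ((I * J * A) * (I * J * A)) * (I * J * A) = -1) :
    ∃ I' : R, (I' = I ∨ I' = -I) ∧
      (I' * J * A) * (I' * J * A) * ((I' * J * A) * (I' * J * A)) * (I' * J * A) = 1 := by
  rcases h with h | h
  · exact ⟨I, Or.inl rfl, h⟩
  · refine ⟨-I, Or.inr rfl, ?_⟩
    simp only [neg_mul, mul_neg, neg_neg]
    rw [h, neg_neg]

theorem sign_J (hJ' : J' = J ∨ J' = -J)
    (h : (I * J * A) * (I * J * A) * ((I * J * A) * (I * J * A)) * (I * J * A) = 1 ∨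
      (I * J * A) * (I * J * A) * ((I * J * A) * (I * J * A)) * (I * J * A) = -1) :
    (I * J' * A) * (I * J' * A) * ((I * J' * A) * (I * J' * A)) * (I * J' * A) = 1 ∨
      (I * J' * A) * (I * J' * A) * ((I * J' * A) * (I * J' * A)) * (I * J' * A) = -1 := by
  rcases hJ' with rfl | rfl
  · exact h
  · simp only [neg_mul, mul_neg, neg_neg]
    rcases h with h | h
    · right; rw [h]
    · left; rw [h, neg_neg]

theorem sq_sign (hI : I * I = -1) (hI' : I' = I ∨ I' = -I) : I' * I' = -1 := by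
  rcases hI' with rfl | rfl <;> simp [hI]

theorem comm_sign (h : A * I = I * A) (hI' : I' = I ∨ I' = -I) : A * I' = I' * A := by
  rcases hI' with rfl | rfl <;> simp [h]

theorem aia_sign (h : A * I * A = I) (hI' : I' = I ∨ I' = -I) : A * I' * A = I' := by
  rcases hI' with rfl | rfl <;> simp [h]

theorem anti_sign (h : I * J = -(J * I)) (hI' : I' = I ∨ I' = -I) (hJ' : J' = J ∨ J' = -J) :
    I' * J' = -(J' * I') := by
  rcases hI' with rfl | rfl <;> rcases hJ' with rfl | rfl <;> simp [h]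

theorem anti_of (hI : I * I = -1) (hJ : J * J = -1) (h : I * J * (I * J) = -1) : I * J = -(J * I) := by
  have e1 : J * I * J = I := by
    have : I * (I * J * (I * J)) = (I * I) * (J * I * J) := by noncomm_ring
    rw [h, hI] at this
    simp only [mul_neg, mul_one, neg_mul, one_mul, neg_inj] at this
    exact this.symm
  calc I * J = J * I * J * J := by rw [e1]
    _ = J * I * (J * J) := by rw [mul_assoc]
    _ = -(J * I) := by rw [hJ, mul_neg, mul_one]

end Ring

theorem rh_cube {h : G} (hh : Cm S h) (h1 : h ^ 3 = 1 ∨ h ^ 3 = S.z) :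
    rh W h * rh W h * rh W h = 1 ∨ rh W h * rh W h * rh W h = -1 := by
  have := rh_sign W h1
  rw [rh_pow W hh, pow_succ, pow_two] at this
  exact this

theorem rh_fifth {h : G} (hh : Cm S h) (h1 : h ^ 5 = 1 ∨ h ^ 5 = S.z) :
    rh W h * rh W h * (rh W h * rh W h) * rh W h = 1 ∨ rh W h * rh W h * (rh W h * rh W h) * rh W h = -1 := by
  have h2 := rh_sign W h1
  rw [rh_pow W hh] at h2
  have e : rh W h ^ 5 = rh W h * rh W h * (rh W h * rh W h) * rh W h := by noncomm_ring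
  rwa [e] at h2

/-- an element over `-h` -/
theorem exists_sign {h : G} (hh : Cm S h) {X : E6} (hX : X = rh W h ∨ X = -rh W h) :
    ∃ h', (h' = h ∨ h' = h * S.z) ∧ Cm S h' ∧ rh W h' = X := by
  rcases hX with rfl | rfl
  · exact ⟨h, Or.inl rfl, hh, rfl⟩
  · refine ⟨h * S.z, Or.inr rfl, hh.mul (Cm.z S), ?_⟩
    rw [rh_mul W hh (Cm.z S), rh_z]
    refine LinearMap.ext fun v => ?_
    show rh W h (-v) = -(rh W h v)
    exact map_neg _ _

/-- **D**, with the action of `i`, `j`, `b'` -/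
theorem exists_pdata2 {G : Type} [Group G] [Finite G] (S : Sit G) (W : WOut S) (R : RelH S) :
    ∃ P : PData G, ∃ k : ℕ, P.x = S.x ^ k ∧ P.a = R.a ∧ P.b = R.b ∧
      (∃ L : V6 ≃ₗ[ZMod 5] V6, ∀ v, P.w v = W.w (L v)) ∧
      (∀ v, R.b' * P.w v * R.b'⁻¹ = P.w (bpM *ᵥ v)) ∧
      ∃ i j : G, (i = R.i ∨ i = R.i * S.z) ∧ (j = jj R ∨ j = jj R * S.z) ∧ i * S.x = S.x * i ∧ i * S.z = S.z * i ∧
        j * S.x = S.x * j ∧ j * S.z = S.z * j ∧ (∀ v, i * P.w v * i⁻¹ = P.w (iM *ᵥ v)) ∧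
        ∀ v, j * P.w v * j⁻¹ = P.w (jM *ᵥ v) := by
  have hii : R.i * R.i = S.z := R.i2.resolve_left (ii_ne W R)
  have hjj : jj R * jj R = S.z := by rw [j_sq, hii, z_comm_c]
  have hij : R.i * jj R * (R.i * jj R) = S.z := by rw [ij_sq, hjj, z_comm_c]
  have ci := cm_i R
  have cj := cm_j R
  have ca := cm_a R
  have cb := cm_b R
  have cb' := cm_b' R
  have ct := cm_t R
  have ti : Commute (tt R) R.i := comm_t R (show Commute R.b R.i from R.ib.symm) (show Commute R.b' R.i from R.ib'.symm)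
  have tj : Commute (tt R) (jj R) := comm_t R (comm_bj R) (comm_b'j R)
  set I := rh W R.i with hI
  set J := rh W (jj R) with hJ
  set T := rh W (tt R) with hT
  set A := rh W R.a with hA
  set B := rh W R.b with hB
  set B' := rh W R.b' with hB'
  have II : I * I = -1 := by rw [hI, ← rh_mul W ci ci, hii, rh_z]
  have JJ : J * J = -1 := by rw [hJ, ← rh_mul W cj cj, hjj, rh_z]
  have IJIJ : I * J * (I * J) = -1 := by
    rw [hI, hJ, ← rh_mul W ci cj, ← rh_mul W (ci.mul cj) (ci.mul cj), hij, rh_z]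
  have IJ : I * J = -(J * I) := anti_of II JJ IJIJ
  obtain ⟨J', hJ', hJA⟩ := exists_J (rh_cube W (cj.mul ca) R.ja |> fun h => by
    rw [rh_mul W cj ca] at h
    exact h)
  have hIJA0 := rh_fifth W ((ci.mul cj).mul ca) R.ija
  rw [rh_mul W (ci.mul cj) ca, rh_mul W ci cj] at hIJA0
  obtain ⟨I', hI', hIJA⟩ := exists_I (sign_J hJ' hIJA0)
  have iI : ∀ u v, omL W (I u) (I v) = omL W u v := rh_om W ci
  have iJ : ∀ u v, omL W (J u) (J v) = omL W u v := rh_om W cj
  have TI : T * I = I * T := by rw [hT, hI, ← rh_mul W ct ci, ti.eq, rh_mul W ci ct]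
  have TJ : T * J = J * T := by rw [hT, hJ, ← rh_mul W ct cj, tj.eq, rh_mul W cj ct]
  let Q : Base :=
    { om' := omL W
      alt := W.alt
      nd := W.nondeg
      I := I'
      J := J'
      T := T
      iI := by
        rcases hI' with rfl | rfl
        · exact iI
        · intro u v
          simp only [LinearMap.neg_apply, map_neg, neg_neg]
          exact iI u v
      iJ := by
        rcases hJ' with rfl | rfl
        · exact iJ
        · intro u v
          simp only [LinearMap.neg_apply, map_neg, neg_neg]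
          exact iJ u v
      iT := rh_om W ct
      II := sq_sign II hI'
      JJ := sq_sign JJ hJ'
      IJ := anti_sign IJ hI' hJ'
      TI := comm_sign TI hI'
      TJ := comm_sign TJ hJ'
      TT := by rw [hT, ← rh_mul W ct ct, show tt R * tt R = 1 from R.t2, rh_one] }
  have uB : Uni Q B :=
    { iX := rh_om W cb
      XI := by
        have : B * I = I * B := by rw [hB, hI, ← rh_mul W cb ci, ← R.ib, rh_mul W ci cb]
        exact comm_sign this hI'
      XJ := by
        have : B * J = J * B := by rw [hB, hJ, ← rh_mul W cb cj, (comm_bj R).eq, rh_mul W cj cb]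
        exact comm_sign this hJ'
      XT := by
        show B * T * B = T
        rw [hB, hT, ← rh_mul W cb ct, ← rh_mul W (cb.mul ct) cb, btb]
      X5 := by rw [hB, ← rh_pow W cb, R.b5, rh_one] }
  have uB' : Uni Q B' :=
    { iX := rh_om W cb'
      XI := by
        have : B' * I = I * B' := by rw [hB', hI, ← rh_mul W cb' ci, ← R.ib', rh_mul W ci cb']
        exact comm_sign this hI'
      XJ := by
        have : B' * J = J * B' := by rw [hB', hJ, ← rh_mul W cb' cj, (comm_b'j R).eq, rh_mul W cj cb']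
        exact comm_sign this hJ'
      XT := by
        show B' * T * B' = T
        rw [hB', hT, ← rh_mul W cb' ct, ← rh_mul W (cb'.mul ct) cb', b'tb']
      X5 := by rw [hB', ← rh_pow W cb', R.b'5, rh_one] }
  have AB : A * B = B * A := by rw [hA, hB, ← rh_mul W ca cb, R.ab, rh_mul W cb ca]
  have AT : A * T = T * A := by
    rw [hA, hT, ← rh_mul W ca ct, ← rh_mul W ct ca, show R.a * tt R = tt R * R.a from R.ta.symm]
  have AI : A * I * A = I := by rw [hA, hI, ← rh_mul W ca ci, ← rh_mul W (ca.mul ci) ca, aia]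
  have A5 : A * A * (A * A) * A = 1 := by
    have h : A ^ 5 = 1 := by rw [hA, ← rh_pow W ca, R.a5, rh_one]
    have e : A ^ 5 = A * A * (A * A) * A := by noncomm_ring
    rw [← e, h]
  have BB3 : (B * B') * (B * B') * (B * B') = 1 ∨ (B * B') * (B * B') * (B * B') = -1 := by
    have h := rh_cube W (cb.mul cb') R.bb'
    rwa [rh_mul W cb cb'] at h
  have BB2 : (B * (B' * B')) * (B * (B' * B')) = 1 ∨ (B * (B' * B')) * (B * (B' * B')) = -1 := by
    have h := rh_sign W R.bb'2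
    rwa [rh_pow W (cb.mul (cb'.pow 2)), rh_mul W cb (cb'.pow 2), rh_pow W cb', pow_two, pow_two] at h
  have AB15 : ∀ m m3 m5 : E6, m = A * B' → m3 = m * m * m → m5 = m3 * m * m → m5 * m5 * m5 = 1 ∨ m5 * m5 * m5 = -1 := by
    rintro m m3 m5 hm rfl rfl
    have h := rh_sign W R.ab'15
    rw [rh_pow W (ca.mul cb'), rh_mul W ca cb', ← hA, ← hB', ← hm] at h
    have e : m * m * m * m * m * (m * m * m * m * m) * (m * m * m * m * m) = m ^ 15 := by
      have e5 : m * m * m * m * m = m ^ 5 := by simp only [pow_succ, pow_zero, one_mul]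
      rw [e5, ← pow_add, ← pow_add]
    rwa [e]
  have ne : A * B' ≠ B' * A := by
    intro h
    apply R.ab'_ne
    have hc : Cm S (R.a * R.b' * R.a⁻¹ * R.b'⁻¹) := ((ca.mul cb').mul ca.inv).mul cb'.inv
    apply rh_ker W hc
    have e1 : R.a * R.b' * R.a⁻¹ * R.b'⁻¹ = (R.a * R.b') * (R.b' * R.a)⁻¹ := by group
    have e2 : rh W (R.a * R.b') = rh W (R.b' * R.a) := by rw [rh_mul W ca cb', rh_mul W cb' ca, h]
    rw [e1, rh_mul W (ca.mul cb') (cb'.mul ca).inv, e2, ← rh_mul W (cb'.mul ca) (cb'.mul ca).inv, mul_inv_cancel,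
      rh_one]
  obtain ⟨L, κ, hκ, hom, hLA, hLB, hLI, hLJ, hLB'⟩ := main_lin Q (A := A) (B := B) (B' := B') uB uB' (B_ne W R) AB AT
    (aia_sign AI hI')
    A5 hJA hIJA BB3 BB2 AB15 ne
  have hx5 : S.x ^ 5 = 1 := by rw [← S.x_ord]; exact pow_orderOf_eq_one _
  have hxv : ∀ c : ZMod 5, (S.x ^ κ.val) ^ c.val = S.x ^ (κ * c).val := by
    intro c
    have e : ∀ n : ℕ, S.x ^ (n % 5) = S.x ^ n := by
      intro n
      have h := pow_mod_orderOf S.x n
      rwa [S.x_ord] at h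
    rw [← pow_mul, ZMod.val_mul, e]
  have hxk : ∀ v, S.x ^ κ.val * W.w v = W.w v * S.x ^ κ.val := by
    intro v
    exact (Commute.pow_left (show Commute S.x (W.w v) from (W.w_x v).symm) _)
  obtain ⟨i', hi1, hi2, hi3⟩ := exists_sign W ci hI'
  obtain ⟨j', hj1, hj2, hj3⟩ := exists_sign W cj hJ'
  refine ⟨
    { w := fun v => W.w (L v)
      x := S.x ^ κ.val
      a := R.a
      b := R.b
      x_ne := by
        intro h
        have h1 := orderOf_dvd_of_pow_eq_one h
        rw [S.x_ord] at h1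
        have h2 : κ.val < 5 := ZMod.val_lt κ
        have h3 : κ.val ≠ 0 := by rwa [Ne, ZMod.val_eq_zero]
        have := Nat.le_of_dvd (Nat.pos_of_ne_zero h3) h1
        omega
      x_five := by rw [← pow_mul, mul_comm, pow_mul, hx5, one_pow]
      a_five := R.a5
      b_five := R.b5
      a_b := R.ab
      x_w := fun v => hxk _
      x_a := (Commute.pow_left (show Commute S.x R.a from R.ax.symm) _)
      x_b := (Commute.pow_left (show Commute S.x R.b from R.bx.symm) _)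
      w_mul := by
        intro u v
        rw [W.w_mul, map_add, hxv]
        congr 2
        have := hom u v
        have h2 : W.om' (L u) (L v) = κ * om u v := this
        rw [h2]
        ring_nf
      a_w := by
        intro v
        rw [rh_w W ca]
        exact congrArg W.w (hLA v)
      b_w := by
        intro v
        rw [rh_w W cb]
        exact congrArg W.w (hLB v) }, κ.val, rfl, rfl, rfl, ⟨L, fun v => rfl⟩, ?_, i', j', hi1, hj1, hi2.1, hi2.2,
    hj2.1, hj2.2, ?_, ?_⟩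
  · intro v
    show R.b' * W.w (L v) * R.b'⁻¹ = W.w (L (bpM *ᵥ v))
    rw [rh_w W cb']
    exact congrArg W.w (hLB' v)
  · intro v
    show i' * W.w (L v) * i'⁻¹ = W.w (L (iM *ᵥ v))
    rw [rh_w W hi2, hi3]
    exact congrArg W.w (hLI v)
  · intro v
    show j' * W.w (L v) * j'⁻¹ = W.w (L (jM *ᵥ v))
    rw [rh_w W hj2, hj3]
    exact congrArg W.w (hLJ v)

/-- **D** -/
theorem exists_pdata {G : Type} [Group G] [Finite G] (S : Sit G) (W : WOut S) (R : RelH S) :
    ∃ P : PData G, ∃ k : ℕ, P.x = S.x ^ k ∧ P.a = R.a ∧ P.b = R.b ∧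
      ∃ L : V6 ≃ₗ[ZMod 5] V6, ∀ v, P.w v = W.w (L v) := by
  obtain ⟨P, k, h1, h2, h3, h4, -⟩ := exists_pdata2 S W R
  exact ⟨P, k, h1, h2, h3, h4⟩

end Cfsg.Agent.H255.M5D
end

private theorem dce_343082487302 : _root_.True := by
  try have : _root_.True := by simp only [_root_.Cfsg.Agent.H255.M5D.Plus.PDat.U.eq_1]
  exact _root_.True.intro
end

-- part: H961/M5/Lift
section
set_option linter.all false
open scoped Cfsg.Agent.FastGrp

/-!
# Lifting `p`-subgroups through a homomorphism with kernel of order prime to `p` (helper961; task 2144 of helper777)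
-/

set_option autoImplicit false

namespace Cfsg.Agent.H961.M5.Lift

open Subgroup

/-- a homomorphism is injective on a `p`-subgroup if the order of the kernel is prime to `p` -/
theorem inj_of {C D : Type*} [Group C] [Finite C] [Group D] {p : ℕ} [hp : Fact p.Prime] (f : C →* D)
    (hk : (Nat.card ↥f.ker).Coprime p) {T : Subgroup C} (hT : IsPGroup p ↥T) {a b : C} (ha : a ∈ T) (hb : b ∈ T)
    (hab : f a = f b) : a = b := by
  have h1 : a⁻¹ * b ∈ f.ker := by rw [MonoidHom.mem_ker, map_mul, map_inv, hab, inv_mul_cancel]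
  have h2 : a⁻¹ * b ∈ T := T.mul_mem (T.inv_mem ha) hb
  have h3 : orderOf (a⁻¹ * b) ∣ Nat.card ↥f.ker := by
    rw [← Subgroup.orderOf_mk _ h1]
    exact orderOf_dvd_natCard _
  obtain ⟨k, hk'⟩ := IsPGroup.iff_orderOf.1 hT ⟨_, h2⟩
  rw [Subgroup.orderOf_mk] at hk'
  have h4 : orderOf (a⁻¹ * b) ∣ 1 := by
    rw [← Nat.Coprime.gcd_eq_one (Nat.Coprime.pow_right k hk)]
    exact Nat.dvd_gcd h3 (dvd_of_eq hk')
  have h5 := orderOf_eq_one_iff.1 (Nat.dvd_one.1 h4)
  exact inv_mul_eq_one.1 h5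

theorem card_map {C D : Type*} [Group C] [Finite C] [Group D] {p : ℕ} [hp : Fact p.Prime] (f : C →* D)
    (hk : (Nat.card ↥f.ker).Coprime p) {T : Subgroup C} (hT : IsPGroup p ↥T) :
    Nat.card ↥(T.map f) = Nat.card ↥T := by
  symm
  apply Nat.card_congr
  refine Equiv.ofBijective (fun x : T => (⟨f x, x, x.2, rfl⟩ : T.map f)) ⟨?_, ?_⟩
  · intro x y h
    exact Subtype.ext (inj_of f hk hT x.2 y.2 (congrArg Subtype.val h))
  · rintro ⟨_, x, hx, rfl⟩
    exact ⟨⟨x, hx⟩, rfl⟩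

/-- **lifting a `p`-subgroup containing a given element** -/
theorem exists_sub {C D : Type*} [Group C] [Finite C] [Group D] {p : ℕ} [hp : Fact p.Prime] (f : C →* D)
    (hf : Function.Surjective f) (hk : (Nat.card ↥f.ker).Coprime p) {S : Subgroup D} {n : ℕ}
    (hS : Nat.card ↥S = p ^ n) {x : C} (hx : orderOf x = p) (hxS : f x ∈ S) :
    ∃ T : Subgroup C, x ∈ T ∧ T.map f = S ∧ Nat.card ↥T = p ^ n := by
  have hD : Finite D := Finite.of_surjective f hf
  let P : Subgroup C := S.comap f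
  have hPS : P.map f = S := Subgroup.map_comap_eq_self_of_surjective hf S
  have hx' : x ∈ P := hxS
  have hz : IsPGroup p ↥(zpowers (⟨x, hx'⟩ : ↥P)) := by
    refine IsPGroup.of_card (n := 1) ?_
    rw [Nat.card_zpowers, Subgroup.orderOf_mk, hx, pow_one]
  obtain ⟨T₀, hT₀⟩ := hz.exists_le_sylow
  -- the order of `P`
  let g : ↥P →* ↥S := (f.comp P.subtype).codRestrict S (fun c => c.2)
  have hg : Function.Surjective g := by
    rintro ⟨s, hs⟩
    obtain ⟨c, rfl⟩ := hf s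
    exact ⟨⟨c, hs⟩, rfl⟩
  have hcard : Nat.card ↥P = Nat.card ↥g.ker * p ^ n := by
    have h1 := Subgroup.index_ker g
    rw [MonoidHom.range_eq_top.2 hg, Subgroup.card_top] at h1
    rw [← hS, ← h1, Subgroup.card_mul_index]
  have hgk : (Nat.card ↥g.ker).Coprime p := by
    refine Nat.Coprime.coprime_dvd_left ?_ hk
    have h1 : Nat.card ↥g.ker = Nat.card ↥(g.ker.map P.subtype) :=
      (card_map_of_injective (Subgroup.subtype_injective _)).symm
    rw [h1]
    refine card_dvd_of_le ?_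
    rintro _ ⟨c, hc, rfl⟩
    rw [MonoidHom.mem_ker]
    have h2 : g c = 1 := hc
    exact congrArg Subtype.val h2
  have hT₀c : Nat.card ↥(T₀ : Subgroup ↥P) = p ^ n := by
    rw [T₀.card_eq_multiplicity, hcard]
    congr 1
    have h1 : Nat.card ↥g.ker ≠ 0 := Nat.card_pos.ne'
    rw [Nat.factorization_mul h1 (pow_ne_zero _ hp.out.ne_zero), Finsupp.add_apply, Nat.factorization_pow,
      Finsupp.smul_apply, hp.out.factorization_self, smul_eq_mul, mul_one,
      Nat.factorization_eq_zero_of_not_dvd, zero_add]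
    intro h2
    have h3 := Nat.Coprime.gcd_eq_one hgk
    rw [Nat.gcd_eq_right h2] at h3
    exact hp.out.one_lt.ne' h3
  have hTc : Nat.card ↥((T₀ : Subgroup ↥P).map P.subtype) = p ^ n := by
    rw [card_map_of_injective (Subgroup.subtype_injective _)]
    exact hT₀c
  have hTp : IsPGroup p ↥((T₀ : Subgroup ↥P).map P.subtype) := IsPGroup.of_card hTc
  refine ⟨(T₀ : Subgroup ↥P).map P.subtype, ⟨⟨x, hx'⟩, hT₀ (mem_zpowers _), rfl⟩, ?_, hTc⟩
  apply Subgroup.eq_of_le_of_card_ge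
  · rw [← hPS]
    refine Subgroup.map_mono ?_
    exact Subgroup.map_subtype_le _
  · rw [hS, card_map f hk hTp, hTc]

/-- **a Sylow subgroup over a group of order `p ^ n` with the properties of the image** -/
theorem exists_sub' {C D : Type*} [Group C] [Finite C] [Group D] {p : ℕ} [hp : Fact p.Prime] (f : C →* D)
    (hf : Function.Surjective f) (hk : (Nat.card ↥f.ker).Coprime p) {x : C} (hx : orderOf x = p) {n : ℕ}
    (hS : ∃ S : Subgroup D, Nat.card ↥S = p ^ n ∧ f x ∈ S ∧ (∀ y ∈ S, y * f x = f x * y) ∧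
      (∀ y ∈ S, (∀ t ∈ S, y * t = t * y) → y ∈ zpowers (f x)) ∧
      ∃ s₁ ∈ S, ∃ s₂ ∈ S, s₁ * s₂ * s₁⁻¹ * s₂⁻¹ ∉ zpowers (f x)) :
    ∃ T : Subgroup C, Nat.card ↥T = p ^ n ∧ x ∈ T ∧ (∀ y ∈ T, y * x = x * y) ∧
      (∀ y ∈ T, (∀ t ∈ T, y * t = t * y) → y ∈ zpowers x) ∧
      ∃ s₁ ∈ T, ∃ s₂ ∈ T, s₁ * s₂ * s₁⁻¹ * s₂⁻¹ ∉ zpowers x := by
  obtain ⟨S, hSc, hxS, hcx, hce, s₁, hs₁, s₂, hs₂, hs⟩ := hS
  obtain ⟨T, hxT, hTS, hTc⟩ := exists_sub f hf hk hSc hx hxS
  have hTp : IsPGroup p ↥T := IsPGroup.of_card hTc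
  have hmem : ∀ y ∈ T, f y ∈ S := fun y hy => by rw [← hTS]; exact mem_map_of_mem f hy
  refine ⟨T, hTc, hxT, ?_, ?_, ?_⟩
  · intro y hy
    refine inj_of f hk hTp (T.mul_mem hy hxT) (T.mul_mem hxT hy) ?_
    rw [map_mul, map_mul]
    exact hcx _ (hmem y hy)
  · intro y hy hyt
    have h1 : f y ∈ zpowers (f x) := by
      refine hce _ (hmem y hy) ?_
      intro t ht
      rw [← hTS] at ht
      obtain ⟨t, ht, rfl⟩ := ht
      rw [← map_mul, hyt t ht, map_mul]
    obtain ⟨i, hi⟩ := mem_zpowers_iff.1 h1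
    refine mem_zpowers_iff.2 ⟨i, ?_⟩
    exact inj_of f hk hTp (T.zpow_mem hxT i) hy (by rw [map_zpow, hi])
  · rw [← hTS] at hs₁ hs₂
    obtain ⟨t₁, ht₁, rfl⟩ := hs₁
    obtain ⟨t₂, ht₂, rfl⟩ := hs₂
    refine ⟨t₁, ht₁, t₂, ht₂, fun h => hs ?_⟩
    obtain ⟨i, hi⟩ := mem_zpowers_iff.1 h
    refine mem_zpowers_iff.2 ⟨i, ?_⟩
    rw [← map_zpow, hi]
    simp only [map_mul, map_inv]

end Cfsg.Agent.H961.M5.Lift
end

-- part: H961/M5/Sec
section
set_option linter.all false
open scoped Cfsg.Agent.FastGrp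

/-!
# A second conjugate of `z` over the octad sign change (helper961; task 2144 of helper777)

`exists_second_ind` : the proof of `MFive.Tr.exists_second` (helper49) with the element of `Co0` in the conclusion;
`exists_pair` : `x` of order `p` over `s`, `u` over `mk (signCo0 c)`.
-/

set_option autoImplicit false

namespace Cfsg.Agent.H961.M5.Sec

open Cfsg Cfsg.Spor Cfsg.Agent.LeechMat.Core Cfsg.Agent.MonsterX.KSide Cfsg.Agent.MonsterX.KLift
open Cfsg.Agent.MonsterX.FrameKS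
open Cfsg.Agent.SporadicStructure.Co0Base (e8 e8_coe)
open Cfsg.Agent.SporadicA.Co0Mono (signCo0 signCo0_add signCo0_zero)
open Cfsg.Agent.SporadicA.Co1Simple (allOne allOne_smul allOne_mem_center)
open Cfsg.Agent.CoOneType.SignFacts (wt sup mem_sup notMem_sup)
open Cfsg.Agent.CoOneType.ClosingFacts (mk mk_eq mk_eq_one mk_mul mk_inv)
open Cfsg.Agent.MonsterU.Lam2 Cfsg.Agent.MonsterU.TwoCls Cfsg.Agent.MonsterU.TwoQ
open Cfsg.Agent.MonsterU.InvTwo (ι_inj)
open Cfsg.Agent.LThreeMBTr (Tens chr chr_conj chr_eq tr_sq chi chi_one chi_neg chi_sign Fpf nn n_comm mul_n_smul Acts_neg Acts_z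
  exists_data fix_iff notMem_Sh mk_pm Θ_inj exists_inv)
open Cfsg.Agent.MFive.Tr (tr_ne_zero)

variable {G V P W : Type*} [Group G] [AddCommGroup V] [Module ℚ V]
  [DistribMulAction G V] [SMulCommClass G ℚ V] [Group P] [AddCommGroup W] [Module ℚ W]
  {M : KS G V P W} {θ : leechLattice → P}

/-- **A second conjugate of `z` commuting with `x`**, inducing the octad sign change (the proof of `MFive.Tr.exists_second`). -/
theorem exists_second_ind (L : Lift M θ) (H : Tens M) {t : G}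
    (two : ∀ u : G, u * u = 1 → u ≠ 1 → (∃ g, g * M.z * g⁻¹ = u) ∨ ∃ g, g * t * g⁻¹ = u) {n : ℕ} (hn : Odd n)
    {x k : G} (hxK : x ∈ M.K) (h3 : x ^ n = 1) (hx : Fpf M x) (hk : k ∈ M.K) {c : golayCode}
    (hc : wt c = 8) (hkI : Ind M k (signCo0 c)) (hxk : x * k = k * x) :
    ∃ u ∈ M.K, u * u = 1 ∧ u ≠ 1 ∧ u ≠ M.z ∧ x * u = u * x ∧ Ind M u (signCo0 c) ∧
      ∃ g, g * M.z * g⁻¹ = u := by
  have hchi : chi (signCo0 c) = 8 := by
    rw [chi_sign, hc]; norm_num
  have hcc : signCo0 c * signCo0 c = 1 := by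
    rw [← signCo0_add]
    have : c + c = 0 := by
      apply Subtype.ext
      funext i
      show (c : GolayPt → ZMod 2) i + (c : GolayPt → ZMod 2) i = 0
      exact CharTwo.add_self_eq_zero _
    rw [this, signCo0_zero]
  obtain ⟨α, T, hD⟩ := exists_data hk hkI
  have hT0 := tr_ne_zero L H hn hxK h3 hx hD hxk
  -- `k² ∈ {1, z}`
  have h1 : Ind M (k * k) 1 := by rw [← hcc]; exact hkI.mul hkI
  obtain ⟨p, hp⟩ := M.mem_ι_of_trivial (k * k) (M.K.mul_mem hk hk) (fun v => by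
    have := h1 v
    rwa [one_smul] at this)
  have h2 : p = 1 ∨ p = M.zc := by
    apply hx
    rw [← hp]
    calc x * (k * k) = (x * k) * k := by group
      _ = (k * x) * k := by rw [hxk]
      _ = k * (x * k) := by group
      _ = k * (k * x) := by rw [hxk]
      _ = k * k * x := by group
  -- `k² = 1`
  have hkk : k * k = 1 := by
    rcases h2 with e | e
    · rw [hp, e, map_one]
    · exfalso
      have hkz : k * k = M.z := by rw [hp, e]; rfl
      have hT : ∀ f, T (T f) = -f := by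
        intro f
        have h4 : k • k • M.Θ f (rat (e8 none)) = -M.Θ f (rat (e8 none)) := by
          rw [← mul_smul, hkz, M.z_Θ]
        rw [hD.act_Θ, hD.act_Θ, ← mul_smul, hcc, one_smul] at h4
        have h5 : M.Θ (T (T f) + f) (rat (e8 none)) = 0 := by
          rw [map_add, LinearMap.add_apply, h4, neg_add_cancel]
        exact eq_neg_of_add_eq_zero_left (Θ_inj H h5)
      obtain ⟨hfin, J, _, _, b, hJ, hb⟩ := H
      obtain ⟨T', g1, g2, g3⟩ := exists_inv M hb hD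
      have hT' : T' = -T := by
        have h5 : T * T = -1 := by
          ext f
          exact hT f
        calc T' = -(T' * (T * T)) := by rw [h5, mul_neg, mul_one, neg_neg]
          _ = -((T' * T) * T) := by rw [mul_assoc]
          _ = -T := by rw [g1, one_mul]
      rw [hT', map_neg] at g3
      apply hT0
      linarith
  -- `k` and `k z` are not in `{1, z}`
  have hne : ∀ u : G, Ind M u (signCo0 c) → u ≠ 1 ∧ u ≠ M.z := by
    intro u hu
    have key : ¬ Ind M 1 (signCo0 c) := by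
      intro h
      rcases mk_pm h with e | e
      · rw [e, chi_one] at hchi
        norm_num at hchi
      · have h5 := chi_neg 1
        rw [one_mul, ← e, hchi, chi_one] at h5
        norm_num at h5
    constructor
    · rintro rfl
      exact key hu
    · rintro rfl
      apply key
      intro v
      rw [one_smul]
      have := hu v
      rwa [M.z_u] at this
  have hkzI : Ind M (k * M.z) (signCo0 c) := (Acts_z hD).act_u
  have hzK : M.z ∈ M.K := M.ι_mem _
  have hkz2 : k * M.z * (k * M.z) = 1 := by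
    calc k * M.z * (k * M.z) = k * (M.z * k) * M.z := by group
      _ = k * (k * M.z) * M.z := by rw [M.z_comm_K k hk]
      _ = k * k * (M.z * M.z) := by group
      _ = 1 := by rw [hkk, M.z_mul, one_mul]
  have hxkz : x * (k * M.z) = k * M.z * x := by
    calc x * (k * M.z) = (x * k) * M.z := by group
      _ = (k * x) * M.z := by rw [hxk]
      _ = k * (x * M.z) := by group
      _ = k * (M.z * x) := by rw [M.z_comm_K x hxK]
      _ = k * M.z * x := by group
  rcases two k hkk (hne k hkI).1 with h | ⟨g1, hg1⟩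
  · exact ⟨k, hk, hkk, (hne k hkI).1, (hne k hkI).2, hxk, hkI, h⟩
  rcases two (k * M.z) hkz2 (hne _ hkzI).1 with h | ⟨g2, hg2⟩
  · exact ⟨k * M.z, M.K.mul_mem hk hzK, hkz2, (hne _ hkzI).1, (hne _ hkzI).2, hxkz, hkzI, h⟩
  exfalso
  have h5 : chr V k = chr V (k * M.z) := by
    have e1 : chr V k = chr V t := by rw [← hg1, chr_conj]
    have e2 : chr V (k * M.z) = chr V t := by rw [← hg2, chr_conj]
    rw [e1, e2]
  classical
  obtain ⟨hfin, J, _, _, b, hJ, hb⟩ := H
  have hfinP : Finite P := Nat.finite_of_card_ne_zero (by rw [L.card]; norm_num)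
  have : Fintype P := Fintype.ofFinite P
  rw [chr_eq M hb hD, chr_eq M hb (Acts_z hD), map_neg, hchi] at h5
  apply hT0
  linarith

end Cfsg.Agent.H961.M5.Sec

namespace Cfsg.Agent.H961.M5.Sec

open Cfsg Cfsg.Agent.LeechMat.Core Cfsg.Agent.MonsterX.KSide Cfsg.Agent.MonsterX.KLift
open Cfsg.Agent.MonsterX.FrameKS Cfsg.Agent.MonsterU.InvTwo
open Cfsg.Agent.MonsterU.Lam2 Cfsg.Agent.MonsterU.TwoCls Cfsg.Agent.MonsterU.TwoQ
open Cfsg.Agent.MonsterU.Ch
open Cfsg.Agent.Co2Type.Quad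
open Cfsg.Agent.SporadicA.Co0Mono Cfsg.Agent.SporadicA.Co1Simple
open Cfsg.Agent.CoOneType.ClosingFacts Cfsg.Agent.CoOneType.SignFacts
open Cfsg.Agent.LThreeMB (fr KChart.Cent KChart.pi KChart.chart KChart.eta_ι KChart.pi_eq)
open Cfsg.Agent.LThreeMBTr (Fpf Tens)
open Cfsg.Agent.MFive Cfsg.Agent.MFive.KPair
open Cfsg.Spor (Co1)
open Subgroup (centralizer mem_centralizer_singleton_iff)

universe u

variable {p : ℕ} {G : Type u} {V P W : Type*} [Group G] [AddCommGroup V] [Module ℚ V]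
  [DistribMulAction G V] [SMulCommClass G ℚ V] [Group P] [AddCommGroup W] [Module ℚ W]
  {M : KS G V P W} {θ : leechLattice → P}

/-- `x` over `s`, `u` over the octad sign change. -/
theorem exists_pair (hp : p.Prime) (ho : Odd p) (L : Lift M θ) (H : Tens M) (hc : KChart.Cent M) {t : G}
    (two : ∀ u : G, u * u = 1 → u ≠ 1 → (∃ g, g * M.z * g⁻¹ = u) ∨ ∃ g, g * t * g⁻¹ = u)
    {s : Co1} {c : golayCode} (hs : orderOf s = p) (hfr : fr s = 1) (hw : wt c = 8)
    (hsc : s * QuotientGroup.mk (signCo0 c) = QuotientGroup.mk (signCo0 c) * s) :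
    ∃ (x u : centralizer ({M.z} : Set G)) (g : G), orderOf x = p ∧ KChart.pi hc x = s ∧
      KChart.pi hc u = QuotientGroup.mk (signCo0 c) ∧ u * u = 1 ∧ (x : G) * u = u * x ∧ (u : G) ≠ M.z ∧
      g * M.z * g⁻¹ = u := by
  have h := KChart.chart L hc
  obtain ⟨x, hx, rfl⟩ := exists_order h hp ho hs
  have hx3 : x ^ p = 1 := by rw [← hx, pow_orderOf_eq_one]
  obtain ⟨k, hkx, hk⟩ := exists_lift h hp ho hx3 hsc.symm
  have hkK : (k : G) ∈ M.K := hc k (mem_centralizer_singleton_iff.1 k.2)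
  obtain ⟨A, hA⟩ := ind_exists hkK
  have hI : Ind M (k : G) (signCo0 c) := Ind_of_mk hA ((KChart.pi_eq hc hA).symm.trans hk)
  obtain ⟨u, huK, huu, hu1, huz, hxu, huI, g, hg⟩ := exists_second_ind L H two ho
    (hc x (mem_centralizer_singleton_iff.1 x.2))
    (coe_pow hx3) (fpf ho L hc hx3 hfr) hkK hw hI (congrArg Subtype.val hkx).symm
  refine ⟨x, ⟨u, mem_centralizer_singleton_iff.2 (M.z_comm_K u huK)⟩, g, hx, rfl, ?_, Subtype.ext huu, hxu, huz, hg⟩
  exact KChart.pi_eq hc huI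

end Cfsg.Agent.H961.M5.Sec
end

-- part: H219/NoOneTwoFive
section
prune_inst 0xd56003400442000000180082110020044c00009200630801d9000e400a04ab63a904270134b01210010aa2e0600a804811000059025000002e00860040010020848372c63374ad00370017c0f887100000000000000000000000000000000004000000000
set_option linter.all false
open scoped Cfsg.Agent.FastGrp

/-!
# No subgroup of order 125 in `C_{Co1}(mk (e 0)) ∩ C_{Co1}(mk (e 1))` (helper219, S5232, M5-A2)
-/

set_option autoImplicit false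

namespace Cfsg.Agent.H219.No125

open Cfsg Cfsg.Agent.SporadicA Cfsg.Agent.SporadicA.Co0Mono Cfsg.Agent.SporadicA.Co1Simple
open Cfsg.Agent.CoOneType.CoEval Cfsg.Agent.CoOneType.SignFacts
open Cfsg.Agent.KFacts.Co1.RHat Cfsg.Agent.KFacts.Co1.RIrr
open Cfsg.Agent.MFive Cfsg.Agent.MFive.JTwo
open Cfsg.Agent.MFive.Oct (cw wt_cw)
open Cfsg.Spor (Co1)
open Subgroup

/-- a central involution outside a subgroup doubles the order -/
theorem two_mul_dvd {E : Type*} [Group E] [Finite E] (K : Subgroup E) {m : E} (hmm : m * m = 1) (hm1 : m ≠ 1)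
    (hc : ∀ g, g * m = m * g) (hK : m ∉ K) : 2 * Nat.card K ∣ Nat.card E := by
  have hn : (zpowers m).Normal := by
    refine ⟨fun x hx g => ?_⟩
    obtain ⟨k, rfl⟩ := mem_zpowers_iff.1 hx
    have h1 : Commute g (m ^ k) := Commute.zpow_right (hc g) k
    rw [h1.eq, mul_inv_cancel_right]
    exact ⟨k, rfl⟩
  have h2 : Nat.card (zpowers m) = 2 := by
    rw [Nat.card_zpowers]
    exact orderOf_eq_prime (by rw [pow_two, hmm]) hm1
  have hmem : ∀ x ∈ zpowers m, x = 1 ∨ x = m := by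
    intro x hx
    obtain ⟨k, rfl⟩ := mem_zpowers_iff.1 hx
    rcases Int.even_or_odd' k with ⟨j, rfl | rfl⟩
    · left
      rw [zpow_mul, show m ^ (2 : ℤ) = 1 by rw [zpow_two, hmm], one_zpow]
    · right
      rw [zpow_add, zpow_mul, show m ^ (2 : ℤ) = 1 by rw [zpow_two, hmm], one_zpow, one_mul, zpow_one]
  let φ : K →* E ⧸ zpowers m := (QuotientGroup.mk' (zpowers m)).comp K.subtype
  have hφ : Function.Injective φ := by
    rw [injective_iff_map_eq_one]
    intro k hk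
    have h1 : (k : E) ∈ zpowers m := (QuotientGroup.eq_one_iff (k : E)).1 hk
    rcases hmem _ h1 with h | h
    · exact Subtype.ext h
    · exact absurd (h ▸ k.2) hK
  have h3 := card_eq_card_quotient_mul_card_subgroup (zpowers m)
  rw [h3, h2, mul_comm]
  exact Nat.mul_dvd_mul (card_dvd_of_injective φ hφ) (dvd_refl 2)

set_option maxHeartbeats 2000000 in
theorem no125 (R : Subgroup Co1)
    (h0 : ∀ y ∈ R, y * (QuotientGroup.mk (JData.e 0) : Co1) = (QuotientGroup.mk (JData.e 0) : Co1) * y)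
    (h1 : ∀ y ∈ R, y * (QuotientGroup.mk (JData.e 1) : Co1) = (QuotientGroup.mk (JData.e 1) : Co1) * y) :
    Nat.card R ≠ 125 := by
  intro hR
  rw [JData.e_zero] at h0
  rw [JData.e_one] at h1
  set ε : D := el (signCo0 cw) eps_comm with hε
  set E : Subgroup D := centralizer ({ε} : Set D) with hE
  set m : D := el (signCo0 allOne) (sign_allOne_comm (Oct.e 0)).symm with hm
  -- order divisible by 125
  have d125 : 125 ∣ Nat.card E := by
    let π : D →* Co1 := (QuotientGroup.mk' (center Co0)).comp (centralizer ({Oct.e 0} : Set Co0)).subtype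
    have hle : R ≤ E.map π := by
      intro y hy
      obtain ⟨g, rfl⟩ := QuotientGroup.mk_surjective y
      have a0 : (QuotientGroup.mk (g * Oct.e 0) : Co1) = QuotientGroup.mk (Oct.e 0 * g) := h0 _ hy
      have a1 : (QuotientGroup.mk (g * signCo0 cw) : Co1) = QuotientGroup.mk (signCo0 cw * g) := h1 _ hy
      have b0 : g * Oct.e 0 = Oct.e 0 * g := by
        rcases (CoOneType.ClosingFacts.mk_eq (g * Oct.e 0) (Oct.e 0 * g)).1 a0 with h2 | h2
        · exact h2
        · exfalso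
          apply m_ne
          have h4 : g * Oct.e 0 * g⁻¹ = Oct.e 0 * signCo0 allOne := by
            rw [h2, mul_assoc (Oct.e 0) g, sign_allOne_comm g]; group
          have h5 : (g * Oct.e 0 * g⁻¹) ^ 5 = 1 := by rw [conj_pow, JR.pow_five]; group
          have h6 : Commute (Oct.e 0) (signCo0 allOne) := sign_allOne_comm (Oct.e 0)
          rw [h4, h6.mul_pow, JR.pow_five, one_mul] at h5
          have h7 : signCo0 allOne ^ 5 = signCo0 allOne := by
            rw [show (5 : ℕ) = 2 * 2 + 1 from rfl, pow_succ, pow_mul, pow_two (signCo0 allOne), m_mul, one_pow,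
              one_mul]
          rw [h7] at h5
          exact h5
      have b1 : el g b0 * ε = ε * el g b0 := by
        rcases (CoOneType.ClosingFacts.mk_eq (g * signCo0 cw) (signCo0 cw * g)).1 a1 with h2 | h2
        · exact Subtype.ext h2
        · exfalso
          apply data.neg (el g b0)
          apply Subtype.ext
          change g * signCo0 cw = signCo0 allOne * (signCo0 cw * g)
          rw [h2, sign_allOne_comm]
      exact ⟨el g b0, mem_centralizer_singleton_iff.2 b1, rfl⟩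
    rw [← hR]
    exact (card_dvd_of_le hle).trans (card_map_dvd _ _)
  -- order divisible by 64
  have d64 : 64 ∣ Nat.card E := by
    have hRE : RR ≤ E := fun r hr => mem_centralizer_singleton_iff.2 (data.comm r hr)
    have hmE : m ∈ E := mem_centralizer_singleton_iff.2 (data.mc ε).symm
    have h2 := two_mul_dvd (E := E) (RR.subgroupOf E) (m := ⟨m, hmE⟩) (Subtype.ext data.mm)
      (fun h => data.m1 (congrArg Subtype.val h)) (fun g => Subtype.ext (data.mc g))
      (fun h => data.m_not (mem_subgroupOf.1 h))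
    rw [Nat.card_congr (subgroupOfEquivOfLe hRE).toEquiv, card_RR] at h2
    exact h2
  -- order divisible by 3
  have d3 : 3 ∣ Nat.card E := by
    have : Fact (Nat.Prime 3) := ⟨Nat.prime_three⟩
    have hf : (L 9 (by simp)) ∈ E := mem_centralizer_singleton_iff.2 elts.f3ε
    have ho : orderOf (⟨L 9 (by simp), hf⟩ : E) = 3 := by
      apply orderOf_eq_prime
      · apply Subtype.ext
        rw [pow_succ, pow_two]
        exact elts.hf3
      · intro h
        have h2 : L 9 (by simp) = (1 : D) := congrArg Subtype.val h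
        have h3 := elts.h3
        rw [h2, one_mul, mul_one] at h3
        have h4 := elts.h02
        rw [h3] at h4
        have h5 : (1 : D) * (L 5 (by simp) * L 5 (by simp)) = el (signCo0 (cw + allOne)) (omega_comm JR.mem_C0) * (L 5 (by simp) * L 5 (by simp)) := by
          rw [one_mul]; exact h4
        have h6 := mul_right_cancel h5
        exact JR.om_ne (congrArg Subtype.val h6).symm
    rw [← ho]
    exact _root_.orderOf_dvd_natCard _
  have d1 : 125 * 64 ∣ Nat.card E := Nat.Coprime.mul_dvd_of_dvd_of_dvd (by norm_num) d125 d64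
  have d2 : 125 * 64 * 3 ∣ Nat.card E := Nat.Coprime.mul_dvd_of_dvd_of_dvd (by norm_num) d1 d3
  have h2 := Nat.le_of_dvd Nat.card_pos d2
  have h3 := bound
  rw [← hε, ← hE] at h3
  (clear * - h2 h3; omega)

end Cfsg.Agent.H219.No125
end

-- part: H772/M5/FrA
section
set_option linter.all false
open scoped Cfsg.Agent.FastGrp

private theorem Cfsg.Agent.Co0A_H772_M5_FrA.spanN {n : ℕ} {R : List (List ℤ)} {vw : List (List ℤ × List ℤ)} (h : Cfsg.Agent.LThreeMB.SpanQ.spq n R vw = true) :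
    Cfsg.Agent.MFive.FixN.spanB (n + 1) R vw = true := by
  have e : ∀ (k : ℕ) (l : List ℤ), Cfsg.Agent.MFive.FixN.trn R k l = Cfsg.Agent.LThreeMB.SpanQ.tn R k l := fun k => by
    induction k with
    | zero => exact fun _ => rfl
    | succ k ih => exact fun l => congrArg (Cfsg.Agent.LThreeMB.Fix.addL l) (ih _)
  exact (congrArg (fun f => Cfsg.Agent.SporadicStructure.Co0Matrix.gens.all f) (funext fun g =>
    congrArg (fun x => Cfsg.Agent.LThreeMB.Fix.halfB (Cfsg.Agent.LThreeMB.Fix.res x vw)) (e _ g))).trans (Cfsg.Agent.LThreeMB.SpanQ.spq_spec h)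

/-!
# The element `a` of `Co1` of order five acts without fixed points on `Λ / 2Λ` (helper772; task 2893 of helper777)

The matrix of the word `e₁ e₃ e₅ e₁₀ e₁₁ e₁₁` (computed by a script, checked by the kernel).
-/

set_option autoImplicit false
set_option maxRecDepth 100000

namespace Cfsg.Agent.H772.M5.FrA

open Cfsg Cfsg.Agent.SporadicA Cfsg.Agent.SporadicA.Co0Mono Cfsg.Agent.SporadicStructure.Co0Matrix
open Cfsg.Agent.CoOneType.CoEval Cfsg.Agent.CoOneType.SignFacts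
open Cfsg.Agent.MonsterU.Lam2 Cfsg.Agent.LThreeMB.Fix
open Cfsg.Agent.LThreeMB (fr)
open Cfsg.Spor (Co1)
open Cfsg.Agent.MFive
open Cfsg.Agent.H961.M5.CWord (wd wA)

/-- rows of the matrix of `a` -/
def rX : List (List ℤ) := [
  [-4, 0, 0, 0, 0, 0, 0, 0, 0, 0, 0, 0, 0, 0, 0, 0, 0, 4, 0, -4, 0, 0, 0, -4],
  [-4, 0, 0, 0, 0, 0, 0, 0, 0, 0, 0, 0, 0, 0, 0, 0, 0, -4, 0, 4, 0, 0, 0, -4],
  [0, 0, 0, -4, 0, 0, 0, -4, 4, 0, 0, 0, -4, 0, 0, 0, 0, 0, 0, 0, 0, 0, 0, 0],
  [0, 0, 0, -4, 0, 0, 0, 4, 4, 0, 0, 0, 4, 0, 0, 0, 0, 0, 0, 0, 0, 0, 0, 0],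
  [0, 0, 0, 0, -4, -4, 0, 0, 0, 0, 0, 0, 0, 0, 0, 0, 0, 0, 0, 0, 0, 4, -4, 0],
  [0, 0, 0, 0, 0, 0, -4, 0, 0, 0, -4, 0, 0, 0, 4, 0, 0, 0, 0, 0, -4, 0, 0, 0],
  [0, 0, 0, 0, -4, 4, 0, 0, 0, 0, 0, 0, 0, 0, 0, 0, 0, 0, 0, 0, 0, -4, -4, 0],
  [0, 0, 4, 0, 0, 0, 0, 0, 0, 4, 0, -4, 0, 0, 0, 0, 4, 0, 0, 0, 0, 0, 0, 0],
  [0, 0, 0, -4, 0, 0, 0, -4, -4, 0, 0, 0, 4, 0, 0, 0, 0, 0, 0, 0, 0, 0, 0, 0],
  [0, 0, 4, 0, 0, 0, 0, 0, 0, -4, 0, -4, 0, 0, 0, 0, -4, 0, 0, 0, 0, 0, 0, 0],
  [0, 0, 0, 0, -4, 4, 0, 0, 0, 0, 0, 0, 0, 0, 0, 0, 0, 0, 0, 0, 0, 4, 4, 0],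
  [0, 0, -4, 0, 0, 0, 0, 0, 0, 4, 0, -4, 0, 0, 0, 0, -4, 0, 0, 0, 0, 0, 0, 0],
  [0, 0, 4, 0, 0, 0, 0, 0, 0, 4, 0, 4, 0, 0, 0, 0, -4, 0, 0, 0, 0, 0, 0, 0],
  [0, -4, 0, 0, 0, 0, 0, 0, 0, 0, 0, 0, 0, -4, 0, 4, 0, 0, -4, 0, 0, 0, 0, 0],
  [0, 0, 0, 0, 0, 0, -4, 0, 0, 0, -4, 0, 0, 0, -4, 0, 0, 0, 0, 0, 4, 0, 0, 0],
  [-4, 0, 0, 0, 0, 0, 0, 0, 0, 0, 0, 0, 0, 0, 0, 0, 0, -4, 0, -4, 0, 0, 0, 4],
  [0, 0, 0, 4, 0, 0, 0, -4, 4, 0, 0, 0, 4, 0, 0, 0, 0, 0, 0, 0, 0, 0, 0, 0],
  [0, 4, 0, 0, 0, 0, 0, 0, 0, 0, 0, 0, 0, -4, 0, 4, 0, 0, 4, 0, 0, 0, 0, 0],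
  [0, 4, 0, 0, 0, 0, 0, 0, 0, 0, 0, 0, 0, 4, 0, 4, 0, 0, -4, 0, 0, 0, 0, 0],
  [4, 0, 0, 0, 0, 0, 0, 0, 0, 0, 0, 0, 0, 0, 0, 0, 0, -4, 0, -4, 0, 0, 0, -4],
  [0, 0, 0, 0, 0, 0, -4, 0, 0, 0, 4, 0, 0, 0, -4, 0, 0, 0, 0, 0, -4, 0, 0, 0],
  [0, 0, 0, 0, 0, 0, 4, 0, 0, 0, -4, 0, 0, 0, -4, 0, 0, 0, 0, 0, -4, 0, 0, 0],
  [0, 0, 0, 0, 4, 4, 0, 0, 0, 0, 0, 0, 0, 0, 0, 0, 0, 0, 0, 0, 0, 4, -4, 0],
  [0, 4, 0, 0, 0, 0, 0, 0, 0, 0, 0, 0, 0, -4, 0, -4, 0, 0, -4, 0, 0, 0, 0, 0]]

/-- columns of the matrix of `a` -/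
def cX : List (List ℤ) := [
  [-4, -4, 0, 0, 0, 0, 0, 0, 0, 0, 0, 0, 0, 0, 0, -4, 0, 0, 0, 4, 0, 0, 0, 0],
  [0, 0, 0, 0, 0, 0, 0, 0, 0, 0, 0, 0, 0, -4, 0, 0, 0, 4, 4, 0, 0, 0, 0, 4],
  [0, 0, 0, 0, 0, 0, 0, 4, 0, 4, 0, -4, 4, 0, 0, 0, 0, 0, 0, 0, 0, 0, 0, 0],
  [0, 0, -4, -4, 0, 0, 0, 0, -4, 0, 0, 0, 0, 0, 0, 0, 4, 0, 0, 0, 0, 0, 0, 0],
  [0, 0, 0, 0, -4, 0, -4, 0, 0, 0, -4, 0, 0, 0, 0, 0, 0, 0, 0, 0, 0, 0, 4, 0],
  [0, 0, 0, 0, -4, 0, 4, 0, 0, 0, 4, 0, 0, 0, 0, 0, 0, 0, 0, 0, 0, 0, 4, 0],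
  [0, 0, 0, 0, 0, -4, 0, 0, 0, 0, 0, 0, 0, 0, -4, 0, 0, 0, 0, 0, -4, 4, 0, 0],
  [0, 0, -4, 4, 0, 0, 0, 0, -4, 0, 0, 0, 0, 0, 0, 0, -4, 0, 0, 0, 0, 0, 0, 0],
  [0, 0, 4, 4, 0, 0, 0, 0, -4, 0, 0, 0, 0, 0, 0, 0, 4, 0, 0, 0, 0, 0, 0, 0],
  [0, 0, 0, 0, 0, 0, 0, 4, 0, -4, 0, 4, 4, 0, 0, 0, 0, 0, 0, 0, 0, 0, 0, 0],
  [0, 0, 0, 0, 0, -4, 0, 0, 0, 0, 0, 0, 0, 0, -4, 0, 0, 0, 0, 0, 4, -4, 0, 0],
  [0, 0, 0, 0, 0, 0, 0, -4, 0, -4, 0, -4, 4, 0, 0, 0, 0, 0, 0, 0, 0, 0, 0, 0],
  [0, 0, -4, 4, 0, 0, 0, 0, 4, 0, 0, 0, 0, 0, 0, 0, 4, 0, 0, 0, 0, 0, 0, 0],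
  [0, 0, 0, 0, 0, 0, 0, 0, 0, 0, 0, 0, 0, -4, 0, 0, 0, -4, 4, 0, 0, 0, 0, -4],
  [0, 0, 0, 0, 0, 4, 0, 0, 0, 0, 0, 0, 0, 0, -4, 0, 0, 0, 0, 0, -4, -4, 0, 0],
  [0, 0, 0, 0, 0, 0, 0, 0, 0, 0, 0, 0, 0, 4, 0, 0, 0, 4, 4, 0, 0, 0, 0, -4],
  [0, 0, 0, 0, 0, 0, 0, 4, 0, -4, 0, -4, -4, 0, 0, 0, 0, 0, 0, 0, 0, 0, 0, 0],
  [4, -4, 0, 0, 0, 0, 0, 0, 0, 0, 0, 0, 0, 0, 0, -4, 0, 0, 0, -4, 0, 0, 0, 0],
  [0, 0, 0, 0, 0, 0, 0, 0, 0, 0, 0, 0, 0, -4, 0, 0, 0, 4, -4, 0, 0, 0, 0, -4],
  [-4, 4, 0, 0, 0, 0, 0, 0, 0, 0, 0, 0, 0, 0, 0, -4, 0, 0, 0, -4, 0, 0, 0, 0],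
  [0, 0, 0, 0, 0, -4, 0, 0, 0, 0, 0, 0, 0, 0, 4, 0, 0, 0, 0, 0, -4, -4, 0, 0],
  [0, 0, 0, 0, 4, 0, -4, 0, 0, 0, 4, 0, 0, 0, 0, 0, 0, 0, 0, 0, 0, 0, 4, 0],
  [0, 0, 0, 0, -4, 0, -4, 0, 0, 0, 4, 0, 0, 0, 0, 0, 0, 0, 0, 0, 0, 0, -4, 0],
  [-4, -4, 0, 0, 0, 0, 0, 0, 0, 0, 0, 0, 0, 0, 0, 4, 0, 0, 0, -4, 0, 0, 0, 0]]

theorem okX : Ok rX cX := Ok.of_bool (by exact Cfsg.Agent.CoOneType.CoQ.ok2_of (by decide +kernel))

/-- the element -/
def eX : Co0 := Cfsg.Agent.SporadicStructure.Co0Matrix.mk okX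

theorem repX : Rep eX rX := rep_mk okX

theorem k_prod : eqL (fold JData.M wA betaL) (ap rX betaL) = true := by (rewrite [Cfsg.Agent.CoOneType.CoW.fold_eq, Cfsg.Agent.CoOneType.CoAp.ap_F]; decide +kernel)

theorem eX_eq : (wA.map JData.e).prod = eX := by
  have h1 := (fold_spec JData.rep wA (l := betaL) (v := beta) (by decide) rfl).2
  rw [eqL_eq k_prod] at h1
  refine eq_of_fix (Subtype.ext ?_)
  rw [h1, repX.apply (v := beta) (l := betaL) (by decide) rfl]

theorem span : FixN.spanB 5 rX [] = true := by exact Cfsg.Agent.Co0A_H772_M5_FrA.spanN (n := 4) (by decide +kernel)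

theorem fr_eX : fr (QuotientGroup.mk eX : Co1) = 1 := by
  have h := FixN.card_fix (n := 5) (by decide) repX (vw := []) rfl rfl rfl span
  rwa [List.length_nil, pow_zero] at h

theorem wd_eq_mk : wd wA = (QuotientGroup.mk (wA.map JData.e).prod : Co1) := map_prod_pr JData.e wA

theorem fr_wd : fr (wd wA) = 1 := by
  rw [wd_eq_mk, eX_eq, fr_eX]

theorem orderOf_wd : orderOf (wd wA) = 5 := by
  have : Fact (Nat.Prime 5) := ⟨Nat.prime_five⟩
  refine orderOf_eq_prime ?_ ?_
  · have h := Cfsg.Agent.H961.M5.CWord.relK.a5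
    exact h
  · intro h
    apply Cfsg.Agent.H961.M5.CWord.relK.ab'
    rw [h]
    exact Commute.one_left _

end Cfsg.Agent.H772.M5.FrA
end

-- part: H411/M5/Cent
section
prune_inst 0x156001403442000000180082330000043c000192006008009840044000452b62a900210036301010900aa2405808004811100140024000000e00040000010020808a0206b148a100060017800086000000000000000000000000000000000004000000000
set_option linter.all false
open scoped Cfsg.Agent.FastGrp

-- part: H777/M5/CGDef
section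
/-!
# The group `CG` of order `5 ^ 8` (helper777)

`K = K25 = F_5[w]`, `w ^ 2 = 2`, the field of 25 elements, `cj` the conjugation. `CG` is the set of the quadruples
`(al, ga, de, be)`, the product of the Heisenberg group `N = {(al, ga, de, 0)}` over `K` and of `{(0, 0, 0, be)}`.
It is isomorphic to `C_P(Z_2(P))` for a Sylow 5-subgroup `P` of the Monster.
-/

set_option autoImplicit false

namespace Cfsg.Agent.H777.M5

/-- the field of 25 elements -/
@[ext] structure K25 where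
  re : ZMod 5
  im : ZMod 5
  deriving DecidableEq

namespace K25

/-- pairs -/
def equivProd : K25 ≃ ZMod 5 × ZMod 5 where
  toFun x := (x.re, x.im)
  invFun p := ⟨p.1, p.2⟩
  left_inv _ := rfl
  right_inv _ := rfl

instance fintypeK : Fintype K25 := Fintype.ofEquiv _ equivProd.symm

instance zeroK : Zero K25 := ⟨⟨0, 0⟩⟩
instance oneK : One K25 := ⟨⟨1, 0⟩⟩
instance addK : Add K25 := ⟨fun x y => ⟨x.re + y.re, x.im + y.im⟩⟩
instance negK : Neg K25 := ⟨fun x => ⟨-x.re, -x.im⟩⟩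
instance subK : Sub K25 := ⟨fun x y => ⟨x.re - y.re, x.im - y.im⟩⟩
instance mulK : Mul K25 := ⟨fun x y => ⟨x.re * y.re + 2 * (x.im * y.im), x.re * y.im + x.im * y.re⟩⟩

@[simp] theorem zero_re : (0 : K25).re = 0 := rfl
@[simp] theorem zero_im : (0 : K25).im = 0 := rfl
@[simp] theorem one_re : (1 : K25).re = 1 := rfl
@[simp] theorem one_im : (1 : K25).im = 0 := rfl
@[simp] theorem add_re (x y : K25) : (x + y).re = x.re + y.re := rfl
@[simp] theorem add_im (x y : K25) : (x + y).im = x.im + y.im := rfl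
@[simp] theorem neg_re (x : K25) : (-x).re = -x.re := rfl
@[simp] theorem neg_im (x : K25) : (-x).im = -x.im := rfl
@[simp] theorem sub_re (x y : K25) : (x - y).re = x.re - y.re := rfl
@[simp] theorem sub_im (x y : K25) : (x - y).im = x.im - y.im := rfl
@[simp] theorem mul_re (x y : K25) : (x * y).re = x.re * y.re + 2 * (x.im * y.im) := rfl
@[simp] theorem mul_im (x y : K25) : (x * y).im = x.re * y.im + x.im * y.re := rfl

instance commRingK : CommRing K25 where
  add_assoc x y z := by ext <;> simp only [_root_.Cfsg.Agent.H777.M5.K25.add_re, _root_.Cfsg.Agent.H777.M5.K25.add_im] <;> ring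
  zero_add x := by ext <;> simp
  add_zero x := by ext <;> simp
  add_comm x y := by ext <;> simp only [_root_.Cfsg.Agent.H777.M5.K25.add_re, _root_.Cfsg.Agent.H777.M5.K25.add_im] <;> ring
  neg_add_cancel x := by ext <;> simp
  sub_eq_add_neg x y := by ext <;> simp <;> ring
  mul_assoc x y z := by ext <;> simp only [_root_.Cfsg.Agent.H777.M5.K25.mul_re, _root_.Cfsg.Agent.H777.M5.K25.mul_im] <;> ring
  one_mul x := by ext <;> simp
  mul_one x := by ext <;> simp
  left_distrib x y z := by ext <;> simp only [_root_.Cfsg.Agent.H777.M5.K25.mul_re, _root_.Cfsg.Agent.H777.M5.K25.add_re, _root_.Cfsg.Agent.H777.M5.K25.add_im, _root_.Cfsg.Agent.H777.M5.K25.mul_im] <;> ring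
  right_distrib x y z := by ext <;> simp only [_root_.Cfsg.Agent.H777.M5.K25.mul_re, _root_.Cfsg.Agent.H777.M5.K25.add_re, _root_.Cfsg.Agent.H777.M5.K25.add_im, _root_.Cfsg.Agent.H777.M5.K25.mul_im] <;> ring
  mul_comm x y := by ext <;> simp only [_root_.Cfsg.Agent.H777.M5.K25.mul_re, _root_.Cfsg.Agent.H777.M5.K25.mul_im] <;> ring
  zero_mul x := by ext <;> simp
  mul_zero x := by ext <;> simp
  nsmul := nsmulRec
  zsmul := zsmulRec

/-- the inverse -/
instance invK : Inv K25 := ⟨fun x => ⟨x.re * (x.re * x.re - 2 * (x.im * x.im))⁻¹, -x.im * (x.re * x.re - 2 * (x.im * x.im))⁻¹⟩⟩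

instance nontrivialK : Nontrivial K25 := ⟨0, 1, by decide⟩

theorem mul_inv' : ∀ x : K25, x ≠ 0 → x * x⁻¹ = 1 := by decide +kernel

instance fieldK : Field K25 where
  mul_inv_cancel := mul_inv'
  inv_zero := by decide +kernel
  nnqsmul := _
  nnqsmul_def := fun _ _ => rfl
  qsmul := _
  qsmul_def := fun _ _ => rfl

theorem card_K : Fintype.card K25 = 25 := by decide +kernel

theorem five_eq : (5 : K25) = 0 := by decide +kernel

/-- the generator `w`, `w ^ 2 = 2` -/
def w : K25 := ⟨0, 1⟩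

/-- conjugation `x ↦ x ^ 5` -/
def cj (x : K25) : K25 := ⟨x.re, -x.im⟩

@[simp] theorem cj_re (x : K25) : (cj x).re = x.re := rfl
@[simp] theorem cj_im (x : K25) : (cj x).im = -x.im := rfl
@[simp] theorem cj_cj (x : K25) : cj (cj x) = x := by ext <;> simp
@[simp] theorem cj_add (x y : K25) : cj (x + y) = cj x + cj y := by ext <;> simp only [_root_.Cfsg.Agent.H777.M5.K25.cj_re, _root_.Cfsg.Agent.H777.M5.K25.add_re, _root_.Cfsg.Agent.H777.M5.K25.cj_im, _root_.Cfsg.Agent.H777.M5.K25.add_im, _root_.neg_add_rev]; ring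
@[simp] theorem cj_sub (x y : K25) : cj (x - y) = cj x - cj y := by ext <;> simp; ring
@[simp] theorem cj_neg (x : K25) : cj (-x) = -cj x := by ext <;> simp
@[simp] theorem cj_mul (x y : K25) : cj (x * y) = cj x * cj y := by ext <;> simp only [_root_.Cfsg.Agent.H777.M5.K25.cj_re, _root_.Cfsg.Agent.H777.M5.K25.mul_re, _root_.Cfsg.Agent.H777.M5.K25.cj_im, _root_.mul_neg, _root_.neg_mul, _root_.neg_neg, _root_.Cfsg.Agent.H777.M5.K25.mul_im, _root_.neg_add_rev]; ring
@[simp] theorem cj_zero : cj 0 = 0 := by decide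
@[simp] theorem cj_one : cj 1 = 1 := by decide
@[simp] theorem cj_pow (x : K25) (n : ℕ) : cj (x ^ n) = cj x ^ n := by
  induction n with
  | zero => simp
  | succ n ih => rw [pow_succ, cj_mul, ih, pow_succ]
@[simp] theorem cj_three : cj 3 = 3 := by decide
@[simp] theorem cj_two : cj 2 = 2 := by decide

theorem cj_eq_pow : ∀ x : K25, cj x = x ^ 5 := by decide +kernel

end K25

open K25

/-- the group `CG` of order `5 ^ 8` -/
@[ext] structure CG where
  al : K25
  ga : K25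
  de : K25
  be : K25
  deriving DecidableEq

namespace CG

/-- quadruples -/
def equivProd : CG ≃ K25 × K25 × K25 × K25 where
  toFun x := (x.al, x.ga, x.de, x.be)
  invFun p := ⟨p.1, p.2.1, p.2.2.1, p.2.2.2⟩
  left_inv _ := rfl
  right_inv _ := rfl

instance fintypeCG : Fintype CG := Fintype.ofEquiv _ equivProd.symm

instance oneCG : One CG := ⟨⟨0, 0, 0, 0⟩⟩
instance mulCG : Mul CG := ⟨fun x y =>
  ⟨x.al + y.al, x.ga + (y.ga + x.be * cj y.al),
    x.de + (y.de + x.be * y.ga + 3 * cj x.be * y.al ^ 2 + 3 * x.be ^ 2 * cj y.al) + x.al * cj (y.ga + x.be * cj y.al),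
    x.be + y.be⟩⟩
instance invCG : Inv CG := ⟨fun x =>
  ⟨-x.al, -x.ga + x.be * cj x.al,
    -x.de + x.al * cj x.ga + x.be * x.ga - 3 * x.be ^ 2 * cj x.al - 3 * cj x.be * x.al ^ 2, -x.be⟩⟩

@[simp] theorem one_al : (1 : CG).al = 0 := rfl
@[simp] theorem one_ga : (1 : CG).ga = 0 := rfl
@[simp] theorem one_de : (1 : CG).de = 0 := rfl
@[simp] theorem one_be : (1 : CG).be = 0 := rfl
@[simp] theorem mul_al (x y : CG) : (x * y).al = x.al + y.al := rfl
@[simp] theorem mul_ga (x y : CG) : (x * y).ga = x.ga + (y.ga + x.be * cj y.al) := rfl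
@[simp] theorem mul_de (x y : CG) : (x * y).de = x.de + (y.de + x.be * y.ga + 3 * cj x.be * y.al ^ 2 +
  3 * x.be ^ 2 * cj y.al) + x.al * cj (y.ga + x.be * cj y.al) := rfl
@[simp] theorem mul_be (x y : CG) : (x * y).be = x.be + y.be := rfl
@[simp] theorem inv_al (x : CG) : (x⁻¹).al = -x.al := rfl
@[simp] theorem inv_ga (x : CG) : (x⁻¹).ga = -x.ga + x.be * cj x.al := rfl
@[simp] theorem inv_de (x : CG) : (x⁻¹).de = -x.de + x.al * cj x.ga + x.be * x.ga - 3 * x.be ^ 2 * cj x.al -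
  3 * cj x.be * x.al ^ 2 := rfl
@[simp] theorem inv_be (x : CG) : (x⁻¹).be = -x.be := rfl

instance groupCG : Group CG := Group.ofLeftAxioms
  (by
    intro x y z
    ext1
    · simp; ring
    · simp; ring
    · simp only [mul_al, mul_ga, mul_de, mul_be, cj_add, cj_mul, cj_cj]
      linear_combination (x.be * y.be * cj z.al - cj x.be * y.al * z.al) * five_eq
    · simp; ring)
  (by intro x; ext1 <;> simp)
  (by
    intro x
    ext1
    · simp
    · simp only [_root_.Cfsg.Agent.H777.M5.CG.mul_ga, _root_.Cfsg.Agent.H777.M5.CG.inv_ga, _root_.Cfsg.Agent.H777.M5.CG.inv_be, _root_.neg_mul, _root_.Cfsg.Agent.H777.M5.CG.one_ga]; ring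
    · simp only [mul_de, inv_al, inv_de, inv_be, cj_add, cj_mul, cj_cj, cj_neg, one_de]
      linear_combination (-(x.al ^ 2 * cj x.be)) * five_eq
    · simp)

end CG

end Cfsg.Agent.H777.M5
end

-- part: H411/M5/Cent
section
/-!
# `C_{PG}(Z_2(PG)) ≅ CG` (helper411, task M5-F of S5232)
-/

set_option autoImplicit false
set_option linter.unusedSimpArgs false

namespace Cfsg.Agent.H411.M5

open Matrix
open scoped commutatorElement
open Cfsg.Agent.H777.M5

theorem h5 : (5 : ZMod 5) = 0 := by decide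

/-- the matrix of `a ^ i b ^ j` as a polynomial in `i`, `j` -/
def matP (i j : ZMod 5) : Matrix (Fin 6) (Fin 6) (ZMod 5) :=
  !![1, j, -(i ^ 2) - 2 * (j ^ 2), -(i), -(i * j), 2 * (i * j ^ 2) + 2 * (i ^ 3);
     0, 1, j, 0, -(i), -(i * j);
     0, 0, 1, 0, 0, -(i);
     0, 0, 2 * (i), 1, j, -(i ^ 2) - 2 * (j ^ 2);
     0, 0, 0, 0, 1, j;
     0, 0, 0, 0, 0, 1]

theorem mat_eq : ∀ i j : ZMod 5, mat i j = matP i j := by decide +kernel

theorem act0 (i j : ZMod 5) (v : V6) : act i j v 0 = v 0 + (j) * v 1 + (-(i ^ 2) - 2 * (j ^ 2)) * v 2 + (-(i)) * v 3 + (-(i * j)) * v 4 + (2 * (i * j ^ 2) + 2 * (i ^ 3)) * v 5 := by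
  rw [act, mat_eq]
  simp only [matP, mulVec, dotProduct, Fin.sum_univ_six, of_apply, cons_val', cons_val_zero, cons_val_one, cons_val,
    empty_val', cons_val_fin_one]
  ring

theorem act1 (i j : ZMod 5) (v : V6) : act i j v 1 = v 1 + (j) * v 2 + (-(i)) * v 4 + (-(i * j)) * v 5 := by
  rw [act, mat_eq]
  simp only [matP, mulVec, dotProduct, Fin.sum_univ_six, of_apply, cons_val', cons_val_zero, cons_val_one, cons_val,
    empty_val', cons_val_fin_one]
  ring

theorem act2 (i j : ZMod 5) (v : V6) : act i j v 2 = v 2 + (-(i)) * v 5 := by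
  rw [act, mat_eq]
  simp only [matP, mulVec, dotProduct, Fin.sum_univ_six, of_apply, cons_val', cons_val_zero, cons_val_one, cons_val,
    empty_val', cons_val_fin_one]
  ring

theorem act3 (i j : ZMod 5) (v : V6) : act i j v 3 = (2 * (i)) * v 2 + v 3 + (j) * v 4 + (-(i ^ 2) - 2 * (j ^ 2)) * v 5 := by
  rw [act, mat_eq]
  simp only [matP, mulVec, dotProduct, Fin.sum_univ_six, of_apply, cons_val', cons_val_zero, cons_val_one, cons_val,
    empty_val', cons_val_fin_one]
  ring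

theorem act4 (i j : ZMod 5) (v : V6) : act i j v 4 = v 4 + (j) * v 5 := by
  rw [act, mat_eq]
  simp only [matP, mulVec, dotProduct, Fin.sum_univ_six, of_apply, cons_val', cons_val_zero, cons_val_one, cons_val,
    empty_val', cons_val_fin_one]
  ring

theorem act5 (i j : ZMod 5) (v : V6) : act i j v 5 = v 5 := by
  rw [act, mat_eq]
  simp only [matP, mulVec, dotProduct, Fin.sum_univ_six, of_apply, cons_val', cons_val_zero, cons_val_one, cons_val,
    empty_val', cons_val_fin_one]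
  ring

/-- coordinate 0 -/
def f0 (x : CG) : ZMod 5 :=
  -(2 * (x.al.im)) + 2 * (x.al.re) + 2 * (x.be.im) - 2 * (x.be.re) - 2 * (x.de.re) + x.ga.re + x.al.im * x.be.im -
    2 * (x.al.im ^ 2) + 2 * (x.al.re * x.be.re) - x.al.re ^ 2 + 2 * (x.be.im ^ 2) + x.be.re ^ 2 - 2 * (x.al.im *
    x.al.re * x.be.im) - 2 * (x.al.im * x.be.im * x.be.re) - x.al.im ^ 2 * x.al.re + x.al.im ^ 2 * x.be.re +
    x.al.re * x.be.im ^ 2 - 2 * (x.al.re * x.be.re ^ 2) - 2 * (x.al.re ^ 2 * x.be.re) - x.al.re ^ 3 + x.be.im ^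
    2 * x.be.re + x.be.re ^ 3

/-- coordinate 1 -/
def f1 (x : CG) : ZMod 5 :=
  -(2 * (x.al.re)) + 2 * (x.be.re) - 2 * (x.ga.re) - 2 * (x.al.im * x.be.im) - x.al.im ^ 2 + x.al.re * x.be.re + 2
    * (x.al.re ^ 2) + x.be.im ^ 2 - 2 * (x.be.re ^ 2)

/-- coordinate 2 -/
def f2 (x : CG) : ZMod 5 :=
  -(x.al.re) + x.be.re

/-- coordinate 3 -/
def f3 (x : CG) : ZMod 5 :=
  2 * (x.al.im) + 2 * (x.be.im) - 2 * (x.ga.im) + x.al.im * x.al.re - x.al.im * x.be.re + x.al.re * x.be.im +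
    x.be.im * x.be.re

/-- coordinate 4 -/
def f4 (x : CG) : ZMod 5 :=
  x.al.im + x.be.im

/-- coordinate `c` -/
def fc (x : CG) : ZMod 5 :=
  -(2 * (x.al.im)) + 2 * (x.be.im) - 2 * (x.de.im) + x.al.im * x.ga.re - x.al.re * x.ga.im + x.be.im * x.ga.re +
    x.be.re * x.ga.im - 2 * (x.al.im * x.al.re * x.be.re) + x.al.im * x.al.re ^ 2 - 2 * (x.al.im * x.be.im ^ 2)
    - x.al.im * x.be.re ^ 2 + 2 * (x.al.im ^ 2 * x.be.im) - x.al.im ^ 3 + 2 * (x.al.re * x.be.im * x.be.re) +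
    x.al.re ^ 2 * x.be.im - x.be.im * x.be.re ^ 2 + x.be.im ^ 3

/-- the map `CG → PG` -/
def phi (x : CG) : PG where
  v := ![f0 x, f1 x, f2 x, f3 x, f4 x, 0]
  c := fc x
  i := 2 * (x.al.im) - 2 * (x.be.im)
  j := x.al.re + x.be.re

theorem phi_v0 (x : CG) : (phi x).v 0 = f0 x := rfl
theorem phi_v1 (x : CG) : (phi x).v 1 = f1 x := rfl
theorem phi_v2 (x : CG) : (phi x).v 2 = f2 x := rfl
theorem phi_v3 (x : CG) : (phi x).v 3 = f3 x := rfl
theorem phi_v4 (x : CG) : (phi x).v 4 = f4 x := rfl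
theorem phi_v5 (x : CG) : (phi x).v 5 = 0 := rfl
theorem phi_c (x : CG) : (phi x).c = fc x := rfl
theorem phi_i (x : CG) : (phi x).i = 2 * (x.al.im) - 2 * (x.be.im) := rfl
theorem phi_j (x : CG) : (phi x).j = x.al.re + x.be.re := rfl

theorem three_re : (3 : K25).re = 3 := by decide
theorem three_im : (3 : K25).im = 0 := by decide

theorem phi_mul (x y : CG) : phi (x * y) = phi x * phi y := by
  apply PG.ext
  · funext k
    rw [PG.mul_v, Pi.add_apply]
    fin_cases k
    · show (phi (x * y)).v 0 = (phi x).v 0 + act (phi x).i (phi x).j (phi y).v 0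
      rw [act0]
      simp only [phi_v0, phi_v1, phi_v2, phi_v3, phi_v4, phi_v5, phi_i, phi_j, f0, f1, f2, f3, f4,
        CG.mul_al, CG.mul_ga, CG.mul_de, CG.mul_be, K25.add_re, K25.add_im, K25.mul_re, K25.mul_im, K25.cj_re, K25.cj_im, three_re, three_im, pow_two]
      linear_combination (-(y.al.im * x.be.im) + y.al.re * x.be.re + x.al.im * y.be.im + 4 * (y.al.im * y.al.re * x.be.im) + 4 * (y.al.im
        * x.be.im * x.be.re) - 2 * (y.al.im ^ 2 * x.be.re) + 2 * (y.al.re * x.al.im * x.be.im) - y.al.re *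
        x.al.im ^ 2 - y.al.re * x.al.re * y.be.re - 2 * (y.al.re * x.al.re * x.be.re) - y.al.re * x.al.re ^ 2 -
        y.al.re * y.be.re * x.be.re - 3 * (y.al.re * x.be.im ^ 2) - 2 * (y.al.re * x.be.re ^ 2) - y.al.re ^ 2 *
        x.al.re - 2 * (y.al.re ^ 2 * x.be.re) - 2 * (x.al.im * y.be.re * x.be.im) + x.al.im ^ 2 * y.be.re +
        y.be.re * x.be.im ^ 2 + y.be.re * x.be.re ^ 2 + y.be.re ^ 2 * x.be.re) * h5
    · show (phi (x * y)).v 1 = (phi x).v 1 + act (phi x).i (phi x).j (phi y).v 1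
      rw [act1]
      simp only [phi_v0, phi_v1, phi_v2, phi_v3, phi_v4, phi_v5, phi_i, phi_j, f0, f1, f2, f3, f4,
        CG.mul_al, CG.mul_ga, CG.mul_de, CG.mul_be, K25.add_re, K25.add_im, K25.mul_re, K25.mul_im, K25.cj_re, K25.cj_im, three_re, three_im, pow_two]
      linear_combination (y.al.re * x.al.re - y.be.re * x.be.re) * h5
    · show (phi (x * y)).v 2 = (phi x).v 2 + act (phi x).i (phi x).j (phi y).v 2
      rw [act2]
      simp only [phi_v0, phi_v1, phi_v2, phi_v3, phi_v4, phi_v5, phi_i, phi_j, f0, f1, f2, f3, f4,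
        CG.mul_al, CG.mul_ga, CG.mul_de, CG.mul_be, K25.add_re, K25.add_im, K25.mul_re, K25.mul_im, K25.cj_re, K25.cj_im, three_re, three_im, pow_two]
      linear_combination (0) * h5
    · show (phi (x * y)).v 3 = (phi x).v 3 + act (phi x).i (phi x).j (phi y).v 3
      rw [act3]
      simp only [phi_v0, phi_v1, phi_v2, phi_v3, phi_v4, phi_v5, phi_i, phi_j, f0, f1, f2, f3, f4,
        CG.mul_al, CG.mul_ga, CG.mul_de, CG.mul_be, K25.add_re, K25.add_im, K25.mul_re, K25.mul_im, K25.cj_re, K25.cj_im, three_re, three_im, pow_two]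
      linear_combination (y.al.re * x.al.im - y.al.re * x.be.im - x.al.im * y.be.re + y.be.re * x.be.im) * h5
    · show (phi (x * y)).v 4 = (phi x).v 4 + act (phi x).i (phi x).j (phi y).v 4
      rw [act4]
      simp only [phi_v0, phi_v1, phi_v2, phi_v3, phi_v4, phi_v5, phi_i, phi_j, f0, f1, f2, f3, f4,
        CG.mul_al, CG.mul_ga, CG.mul_de, CG.mul_be, K25.add_re, K25.add_im, K25.mul_re, K25.mul_im, K25.cj_re, K25.cj_im, three_re, three_im, pow_two]
      linear_combination (0) * h5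
    · show (phi (x * y)).v 5 = (phi x).v 5 + act (phi x).i (phi x).j (phi y).v 5
      rw [act5]
      simp only [phi_v0, phi_v1, phi_v2, phi_v3, phi_v4, phi_v5, phi_i, phi_j, f0, f1, f2, f3, f4,
        CG.mul_al, CG.mul_ga, CG.mul_de, CG.mul_be, K25.add_re, K25.add_im, K25.mul_re, K25.mul_im, K25.cj_re, K25.cj_im, three_re, three_im, pow_two]
      linear_combination (0) * h5
  · rw [PG.mul_c, om, act0, act1, act2, act3, act4, act5]
    simp only [phi_v0, phi_v1, phi_v2, phi_v3, phi_v4, phi_v5, phi_c, phi_i, phi_j, f0, f1, f2, f3, f4, fc,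
      CG.mul_al, CG.mul_ga, CG.mul_de, CG.mul_be, K25.add_re, K25.add_im, K25.mul_re, K25.mul_im, K25.cj_re, K25.cj_im, three_re, three_im, pow_two]
    linear_combination (-(y.al.im * x.ga.re) + y.al.re * x.ga.im + x.al.im * y.ga.re - x.al.re * y.ga.im - y.be.im * x.ga.re - y.be.re *
      x.ga.im + x.be.im * y.ga.re + x.be.re * y.ga.im + y.al.im * y.al.re * x.al.re - 3 * (y.al.im * y.al.re *
      x.be.re) + 2 * (y.al.im * x.al.im * y.be.im) - y.al.im * x.al.re * y.be.re + 2 * (y.al.im * x.al.re ^ 2) +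
      y.al.im * x.be.im ^ 2 - y.al.im * x.be.re ^ 2 + 3 * (y.al.im ^ 2 * x.be.im) - 2 * (y.al.re * x.al.im *
      x.al.re) - y.al.re * x.al.im * y.be.re + 3 * (y.al.re * x.al.im * x.be.re) + y.al.re * x.al.re * y.be.im +
      3 * (y.al.re * x.al.re * x.be.im) - 4 * (y.al.re * x.be.im * x.be.re) - y.al.re ^ 2 * x.al.im + 2 *
      (x.al.im * x.al.re * y.be.re) - 2 * (x.al.im * y.be.im * x.be.im) - x.al.im * y.be.im ^ 2 - 4 * (x.al.im *
      y.be.re * x.be.re) + x.al.im * y.be.re ^ 2 + x.al.im ^ 2 * y.be.im + x.al.re * y.be.im * y.be.re + x.al.re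
      * y.be.im * x.be.re - 2 * (x.al.re * y.be.re * x.be.im) + 2 * (x.al.re ^ 2 * y.be.im) - y.be.im * y.be.re
      * x.be.re - 2 * (y.be.im * x.be.re ^ 2) + 2 * (y.be.re * x.be.im * x.be.re) + y.be.re ^ 2 * x.be.im) * h5
  · rw [PG.mul_i]
    simp only [phi_i, CG.mul_al, CG.mul_ga, CG.mul_de, CG.mul_be, K25.add_re, K25.add_im, K25.mul_re, K25.mul_im, K25.cj_re, K25.cj_im, three_re, three_im, pow_two]
    ring
  · rw [PG.mul_j]
    simp only [phi_j, CG.mul_al, CG.mul_ga, CG.mul_de, CG.mul_be, K25.add_re, K25.add_im, K25.mul_re, K25.mul_im, K25.cj_re, K25.cj_im, three_re, three_im, pow_two]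
    ring


/-- the homomorphism `CG →* PG` -/
def phiHom : CG →* PG := MonoidHom.mk' phi phi_mul

@[simp] theorem phiHom_apply (x : CG) : phiHom x = phi x := rfl

theorem lin2 : ∀ a b : ZMod 5, -a + b = 0 → a + b = 0 → a = 0 ∧ b = 0 := by decide
theorem lin2' : ∀ a b : ZMod 5, a + b = 0 → 2 * a - 2 * b = 0 → a = 0 ∧ b = 0 := by decide

theorem phiHom_injective : Function.Injective phiHom := by
  rw [injective_iff_map_eq_one]
  intro x hx
  rw [phiHom_apply] at hx
  have e0 : f0 x = 0 := by rw [← phi_v0, hx]; rfl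
  have e1 : f1 x = 0 := by rw [← phi_v1, hx]; rfl
  have e2 : f2 x = 0 := by rw [← phi_v2, hx]; rfl
  have e3 : f3 x = 0 := by rw [← phi_v3, hx]; rfl
  have e4 : f4 x = 0 := by rw [← phi_v4, hx]; rfl
  have ec : fc x = 0 := by rw [← phi_c, hx]; rfl
  have ei : 2 * x.al.im - 2 * x.be.im = 0 := by rw [← phi_i, hx]; rfl
  have ej : x.al.re + x.be.re = 0 := by rw [← phi_j, hx]; rfl
  obtain ⟨a1, b1⟩ := lin2 _ _ e2 ej
  obtain ⟨a2, b2⟩ := lin2' _ _ e4 ei
  simp only [f1, f3, f0, fc, a1, b1, a2, b2] at e0 e1 e3 ec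
  have g1 : x.ga.re = 0 := by linear_combination 2 * e1 + x.ga.re * h5
  have g2 : x.ga.im = 0 := by linear_combination 2 * e3 + x.ga.im * h5
  rw [g1] at e0 ec
  rw [g2] at ec
  have d1 : x.de.re = 0 := by linear_combination 2 * e0 + x.de.re * h5
  have d2 : x.de.im = 0 := by linear_combination 2 * ec + x.de.im * h5
  exact CG.ext (K25.ext a1 a2) (K25.ext g1 g2) (K25.ext d1 d2) (K25.ext b1 b2)

/-- the coordinate `v 5` is a homomorphism -/
def lastHom : PG →* Multiplicative (ZMod 5) where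
  toFun g := Multiplicative.ofAdd (g.v 5)
  map_one' := rfl
  map_mul' g h := by
    rw [← ofAdd_add, PG.mul_v, Pi.add_apply, act5]

theorem mem_ker {g : PG} : g ∈ lastHom.ker ↔ g.v 5 = 0 := Iff.rfl

theorem card_CG : Nat.card CG = 5 ^ 8 := by
  have h : Nat.card K25 = 25 := by rw [Nat.card_eq_fintype_card, K25.card_K]
  rw [Nat.card_congr CG.equivProd, Nat.card_prod, Nat.card_prod, Nat.card_prod, h]
  norm_num

theorem lastHom_surjective : Function.Surjective lastHom := by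
  intro t
  refine ⟨⟨Pi.single 5 t.toAdd, 0, 0, 0⟩, ?_⟩
  show Multiplicative.ofAdd ((Pi.single 5 t.toAdd : V6) 5) = t
  rw [Pi.single_eq_same, ofAdd_toAdd]

theorem card_ker : Nat.card lastHom.ker = 5 ^ 8 := by
  have h1 := lastHom.ker.card_mul_index
  rw [Subgroup.index_ker, PG.card_PG, MonoidHom.range_eq_top.2 lastHom_surjective, Subgroup.card_top,
    Nat.card_congr Multiplicative.toAdd, Nat.card_zmod] at h1
  omega

theorem range_phiHom : phiHom.range = lastHom.ker := by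
  apply Subgroup.eq_of_le_of_card_ge
  · rintro _ ⟨x, rfl⟩
    exact phi_v5 x
  · rw [card_ker, ← card_CG]
    exact (Nat.card_congr (MonoidHom.ofInjective phiHom_injective).toEquiv).le

/-! ### the upper central series of `PG` -/

theorem om_single_zero (v : V6) (c : ZMod 5) : om v (Pi.single 0 c) = -(v 5 * c) := by
  simp [om]

theorem mem_center {g : PG} : g ∈ Subgroup.center PG ↔ g.v = 0 ∧ g.i = 0 ∧ g.j = 0 := by
  rw [Subgroup.mem_center_iff]
  constructor
  · intro h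
    have key : ∀ u : V6, act g.i g.j u = u ∧ om g.v u = 0 := by
      intro u
      have h1 := h ⟨u, 0, 0, 0⟩
      have h2 := congrArg PG.v h1
      have h3 := congrArg PG.c h1
      simp only [PG.mul_v, PG.mul_c, act_one] at h2 h3
      have h4 : act g.i g.j u = u := by
        have : g.v + u = g.v + act g.i g.j u := by rw [← h2, add_comm]
        exact (add_left_cancel this).symm
      refine ⟨h4, ?_⟩
      rw [h4, om_swap g.v u] at h3
      linear_combination -h3 - om g.v u * h5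
    obtain ⟨hi, hj⟩ := act_eq fun u => (key u).1
    exact ⟨om_nondeg fun u => (key u).2, hi, hj⟩
  · rintro ⟨hv, hi, hj⟩ h
    apply PG.ext
    · simp only [PG.mul_v, hv, hi, hj, act_one, act_zero, zero_add, add_zero]
    · simp only [PG.mul_c, hv, hi, hj, act_one, act_zero, om_zero_left, om_zero_right, mul_zero, add_zero, add_comm]
    · simp only [PG.mul_i, hi, zero_add, add_zero]
    · simp only [PG.mul_j, hj, zero_add, add_zero]

theorem comm_mem_center {g h : PG} : ⁅g, h⁆ ∈ Subgroup.center PG ↔ (g * h).v = (h * g).v := by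
  rw [mem_center]
  have e : ⁅g, h⁆ * (h * g) = g * h := by rw [commutatorElement_def]; group
  have ei : (⁅g, h⁆ : PG).i = 0 := by
    have := congrArg PG.i e
    simp only [PG.mul_i] at this
    linear_combination this
  have ej : (⁅g, h⁆ : PG).j = 0 := by
    have := congrArg PG.j e
    simp only [PG.mul_j] at this
    linear_combination this
  have ev : (⁅g, h⁆ : PG).v + (h * g).v = (g * h).v := by
    have := congrArg PG.v e
    rw [PG.mul_v, ei, ej, act_one] at this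
    exact this
  rw [← ev]
  constructor
  · rintro ⟨h1, -, -⟩
    rw [h1, zero_add]
  · intro h1
    exact ⟨by simpa using h1, ei, ej⟩

theorem act_single_zero (i j c : ZMod 5) : act i j (Pi.single 0 c) = Pi.single 0 c := by
  funext k
  fin_cases k
  · show act i j (Pi.single 0 c) 0 = _
    rw [act0]; simp
  · show act i j (Pi.single 0 c) 1 = _
    rw [act1]; simp
  · show act i j (Pi.single 0 c) 2 = _
    rw [act2]; simp
  · show act i j (Pi.single 0 c) 3 = _
    rw [act3]; simp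
  · show act i j (Pi.single 0 c) 4 = _
    rw [act4]; simp
  · show act i j (Pi.single 0 c) 5 = _
    rw [act5]; simp

theorem mem_Z2 {g : PG} : g ∈ Subgroup.upperCentralSeries PG 2 ↔
    (∃ c, g.v = Pi.single 0 c) ∧ g.i = 0 ∧ g.j = 0 := by
  rw [Subgroup.mem_upperCentralSeries_succ_iff, Subgroup.upperCentralSeries_one]
  simp only [comm_mem_center, PG.mul_v]
  constructor
  · intro h
    have hij : ∀ u, act g.i g.j u = u := by
      intro u
      have := h ⟨u, 0, 0, 0⟩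
      simp only [act_one] at this
      rw [add_comm u] at this
      exact add_left_cancel this
    obtain ⟨hi, hj⟩ := act_eq hij
    have ha : ∀ i j, act i j g.v = g.v := by
      intro i j
      have := h ⟨0, 0, i, j⟩
      simp only [act_zero, add_zero, zero_add] at this
      exact this.symm
    refine ⟨⟨g.v 0, ?_⟩, hi, hj⟩
    have b1 := congrFun (ha 0 1) 1
    have b0 := congrFun (ha 0 1) 0
    have b4 := congrFun (ha 0 1) 4
    have b3 := congrFun (ha 0 1) 3
    have a0 := congrFun (ha 1 0) 0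
    rw [act1] at b1
    rw [act0] at b0 a0
    rw [act4] at b4
    rw [act3] at b3
    have v5 : g.v 5 = 0 := by linear_combination b4
    have v2 : g.v 2 = 0 := by rw [v5] at b1; linear_combination b1
    have v1 : g.v 1 = 0 := by rw [v5, v2] at b0; linear_combination b0
    have v4 : g.v 4 = 0 := by rw [v5, v2] at b3; linear_combination b3
    have v3 : g.v 3 = 0 := by rw [v5, v2, v1, v4] at a0; linear_combination -a0
    funext k
    fin_cases k
    · simp
    · simpa using v1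
    · simpa using v2
    · simpa using v3
    · simpa using v4
    · simpa using v5
  · rintro ⟨⟨c, hc⟩, hi, hj⟩ h
    rw [hc, hi, hj, act_one, act_single_zero, add_comm]

theorem mem_centralizer_Z2 {h : PG} :
    h ∈ Subgroup.centralizer ((Subgroup.upperCentralSeries PG 2 : Subgroup PG) : Set PG) ↔ h.v 5 = 0 := by
  rw [Subgroup.mem_centralizer_iff]
  constructor
  · intro H
    have h1 := congrArg PG.c (H ⟨Pi.single 0 1, 0, 0, 0⟩ (mem_Z2.2 ⟨⟨1, rfl⟩, rfl, rfl⟩))
    simp only [PG.mul_c, act_one, act_single_zero, om_single_zero] at h1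
    rw [om_swap h.v, om_single_zero] at h1
    linear_combination h1 - h.v 5 * h5
  · rintro hv g hg
    obtain ⟨⟨c, hc⟩, hi, hj⟩ := mem_Z2.1 hg
    apply PG.ext
    · rw [PG.mul_v, PG.mul_v, hc, hi, hj, act_one, act_single_zero, add_comm]
    · rw [PG.mul_c, PG.mul_c, hc, hi, hj, act_one, act_single_zero, om_swap h.v, om_single_zero, hv]
      ring
    · rw [PG.mul_i, PG.mul_i, add_comm]
    · rw [PG.mul_j, PG.mul_j, add_comm]

theorem centralizer_Z2_eq :
    Subgroup.centralizer ((Subgroup.upperCentralSeries PG 2 : Subgroup PG) : Set PG) = phiHom.range := by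
  rw [range_phiHom]
  ext h
  rw [mem_centralizer_Z2, mem_ker]

/-- **M5-F** -/
noncomputable def equivCG :
    CG ≃* ↥(Subgroup.centralizer ((Subgroup.upperCentralSeries PG 2 : Subgroup PG) : Set PG)) :=
  (MonoidHom.ofInjective phiHom_injective).trans (MulEquiv.subgroupCongr centralizer_Z2_eq.symm)

theorem exists_equiv_CG :
    Nonempty (CG ≃* ↥(Subgroup.centralizer ((Subgroup.upperCentralSeries PG 2 : Subgroup PG) : Set PG))) :=
  ⟨equivCG⟩

end Cfsg.Agent.H411.M5
end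

private theorem dce_cc97e0dbe563 : _root_.True := by
  try have : _root_.True := by simp only [_root_.Cfsg.Agent.H411.M5.f1.eq_1]
  try have : _root_.True := by simp only [_root_.Cfsg.Agent.H411.M5.f3.eq_1]
  try have : _root_.True := by simp only [_root_.Cfsg.Agent.H411.M5.f2.eq_1]
  try have : _root_.True := by simp only [_root_.Cfsg.Agent.H411.M5.f0.eq_1]
  try have : _root_.True := by simp only [_root_.Cfsg.Agent.H411.M5.f4.eq_1]
  try have : _root_.True := by simp only [_root_.Cfsg.Agent.H411.M5.matP.eq_1]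
  try have : _root_.True := by simp only [_root_.Cfsg.Agent.H411.M5.fc.eq_1]
  exact _root_.True.intro
end

-- part: H411/M5/Abel
section
set_option linter.all false
open scoped Cfsg.Agent.FastGrp

/-!
# Abelian subgroups of `PG` have order at most `5 ^ 4` (helper411, for S5230)
-/

set_option autoImplicit false

namespace Cfsg.Agent.H411.M5

open Module
open Cfsg.Agent.H777.M5

instance fact5 : Fact (Nat.Prime 5) := ⟨Nat.prime_five⟩

/-- `om` as a bilinear form -/
def omB : LinearMap.BilinForm (ZMod 5) V6 :=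
  LinearMap.mk₂ (ZMod 5) om om_add_left om_smul_left om_add_right om_smul_right

theorem omB_apply (u v : V6) : omB u v = om u v := rfl

theorem omB_ker : LinearMap.ker omB = ⊥ := by
  rw [eq_bot_iff]
  intro u hu
  rw [LinearMap.mem_ker] at hu
  exact (Submodule.mem_bot _).2 (om_nondeg fun v => by rw [← omB_apply, hu]; rfl)

/-- isotropic subspaces -/
theorem card_isotropic (U : AddSubgroup V6) (h : ∀ u ∈ U, ∀ v ∈ U, om u v = 0) : Nat.card U ≤ 5 ^ 3 := by
  have e0 : ∀ u, u ∈ AddSubgroup.toZModSubmodule 5 U ↔ u ∈ U := fun u => Iff.rfl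
  generalize hW : AddSubgroup.toZModSubmodule 5 U = W at e0
  have h1 : finrank (ZMod 5) W + finrank (ZMod 5) (omB.orthogonal W) = 6 := by
    have h2 := LinearMap.BilinForm.finrank_add_finrank_orthogonal' (B := omB) W
    rw [omB_ker, inf_bot_eq, finrank_bot, add_zero, Module.finrank_fintype_fun_eq_card, Fintype.card_fin] at h2
    exact h2
  have h2 : W ≤ omB.orthogonal W := by
    intro u hu
    rw [LinearMap.BilinForm.mem_orthogonal_iff]
    intro v hv
    exact h v ((e0 v).1 hv) u ((e0 u).1 hu)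
  have h3 := Submodule.finrank_mono h2
  have h4 : Nat.card U = Nat.card W := Nat.card_congr (Equiv.subtypeEquivRight fun u => (e0 u).symm)
  rw [h4, Module.natCard_eq_pow_finrank (K := ZMod 5), Nat.card_zmod]
  exact Nat.pow_le_pow_right (by norm_num) (by omega)

/-- the homomorphism `g ↦ (i, j)` -/
def ijHom : PG →* Multiplicative (ZMod 5 × ZMod 5) where
  toFun g := Multiplicative.ofAdd (g.i, g.j)
  map_one' := rfl
  map_mul' g h := by rw [← ofAdd_add]; rfl

theorem ijHom_eq_one {g : PG} : ijHom g = 1 ↔ g.i = 0 ∧ g.j = 0 := by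
  constructor
  · intro h
    have h1 : ((g.i, g.j) : ZMod 5 × ZMod 5) = (0, 0) := h
    exact ⟨congrArg Prod.fst h1, congrArg Prod.snd h1⟩
  · rintro ⟨h1, h2⟩
    show Multiplicative.ofAdd (g.i, g.j) = 1
    rw [h1, h2]; rfl

/-- the fixed vectors of `a ^ i b ^ j` -/
theorem fix_eq {i j : ZMod 5} (hij : ¬ (i = 0 ∧ j = 0)) {v : V6} (h : act i j v = v) :
    v 5 = 0 ∧ v 2 = 0 ∧ v 4 = 0 ∧ j * v 1 = i * v 3 := by
  have e0 := congrFun h 0
  have e1 := congrFun h 1
  have e2 := congrFun h 2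
  have e3 := congrFun h 3
  have e4 := congrFun h 4
  rw [act0] at e0
  rw [act1] at e1
  rw [act2] at e2
  rw [act3] at e3
  rw [act4] at e4
  have v5 : v 5 = 0 := by
    by_cases hi : i = 0
    · have hj : j ≠ 0 := fun hj => hij ⟨hi, hj⟩
      have : j * v 5 = 0 := by linear_combination e4
      exact (mul_eq_zero.1 this).resolve_left hj
    · have : i * v 5 = 0 := by linear_combination -e2
      exact (mul_eq_zero.1 this).resolve_left hi
  rw [v5] at e0 e1 e3
  have hd : j * j + 2 * (i * i) ≠ 0 := by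
    revert hij
    generalize i = i', j = j'
    revert i' j'
    decide
  have f1 : j * v 2 = i * v 4 := by linear_combination e1
  have f3 : 2 * i * v 2 + j * v 4 = 0 := by linear_combination e3
  have v2 : v 2 = 0 := by
    have : (j * j + 2 * (i * i)) * v 2 = 0 := by linear_combination j * f1 + i * f3
    exact (mul_eq_zero.1 this).resolve_left hd
  have v4 : v 4 = 0 := by
    have : (j * j + 2 * (i * i)) * v 4 = 0 := by linear_combination -2 * i * f1 + j * f3
    exact (mul_eq_zero.1 this).resolve_left hd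
  rw [v2, v4] at e0
  exact ⟨v5, v2, v4, by linear_combination e0⟩

theorem comm_fix {g y : PG} (hi : g.i = 0) (hj : g.j = 0) (h : g * y = y * g) : act y.i y.j g.v = g.v := by
  have h1 := congrArg PG.v h
  rw [PG.mul_v, PG.mul_v, hi, hj, act_one, add_comm] at h1
  exact (add_left_cancel h1).symm

theorem comm_om {g h : PG} (hi : g.i = 0) (hj : g.j = 0) (hi' : h.i = 0) (hj' : h.j = 0) (H : g * h = h * g) :
    om g.v h.v = 0 := by
  have h1 := congrArg PG.c H
  rw [PG.mul_c, PG.mul_c, hi, hj, hi', hj', act_one, act_one, om_swap g.v h.v] at h1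
  linear_combination h1 - om g.v h.v * h5

/-- **Abelian subgroups of `PG`.** -/
theorem card_le_of_comm_PG (A : Subgroup PG) (hA : ∀ x ∈ A, ∀ y ∈ A, x * y = y * x) : Nat.card A ≤ 5 ^ 4 := by
  classical
  let f : ↥A →* Multiplicative (ZMod 5 × ZMod 5) := ijHom.comp A.subtype
  have hf : ∀ g : ↥A, g ∈ f.ker ↔ (g : PG).i = 0 ∧ (g : PG).j = 0 := fun g => ijHom_eq_one
  have hcard : Nat.card A = Nat.card f.range * Nat.card f.ker := by
    rw [← Subgroup.card_mul_index f.ker, Subgroup.index_ker, mul_comm]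
  rw [hcard]
  by_cases hne : ∃ y ∈ A, ¬ (y.i = 0 ∧ y.j = 0)
  · obtain ⟨y, hy, hyij⟩ := hne
    by_cases hr : Nat.card f.range ≤ 5
    · -- order 5
      have h1 : Nat.card f.ker ≤ 125 := by
        rcases eq_or_ne y.i 0 with hi | hi
        · have hj : y.j ≠ 0 := fun hj => hyij ⟨hi, hj⟩
          let φ : f.ker → ZMod 5 × ZMod 5 × ZMod 5 := fun g => (g.1.1.v 0, g.1.1.v 3, g.1.1.c)
          have hφ : Function.Injective φ := by
            intro g h hgh
            obtain ⟨gi, gj⟩ := (hf g.1).1 g.2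
            obtain ⟨hi', hj'⟩ := (hf h.1).1 h.2
            obtain ⟨g5, g2, g4, g1⟩ := fix_eq hyij (comm_fix gi gj (hA _ g.1.2 _ hy))
            obtain ⟨h5', h2, h4, h1⟩ := fix_eq hyij (comm_fix hi' hj' (hA _ h.1.2 _ hy))
            rw [hi, zero_mul] at g1 h1
            have g1' := (mul_eq_zero.1 g1).resolve_left hj
            have h1' := (mul_eq_zero.1 h1).resolve_left hj
            have k0 : g.1.1.v 0 = h.1.1.v 0 := congrArg Prod.fst hgh
            have k3 : g.1.1.v 3 = h.1.1.v 3 := congrArg (fun p => p.2.1) hgh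
            have kc : g.1.1.c = h.1.1.c := congrArg (fun p => p.2.2) hgh
            apply Subtype.ext
            apply Subtype.ext
            refine PG.ext ?_ kc (gi.trans hi'.symm) (gj.trans hj'.symm)
            funext k
            fin_cases k
            · exact k0
            · exact g1'.trans h1'.symm
            · exact g2.trans h2.symm
            · exact k3
            · exact g4.trans h4.symm
            · exact g5.trans h5'.symm
          have := Nat.card_le_card_of_injective φ hφ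
          simpa [Nat.card_prod] using this
        · let φ : f.ker → ZMod 5 × ZMod 5 × ZMod 5 := fun g => (g.1.1.v 0, g.1.1.v 1, g.1.1.c)
          have hφ : Function.Injective φ := by
            intro g h hgh
            obtain ⟨gi, gj⟩ := (hf g.1).1 g.2
            obtain ⟨hi', hj'⟩ := (hf h.1).1 h.2
            obtain ⟨g5, g2, g4, g1⟩ := fix_eq hyij (comm_fix gi gj (hA _ g.1.2 _ hy))
            obtain ⟨h5', h2, h4, h1⟩ := fix_eq hyij (comm_fix hi' hj' (hA _ h.1.2 _ hy))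
            have k0 : g.1.1.v 0 = h.1.1.v 0 := congrArg Prod.fst hgh
            have k1 : g.1.1.v 1 = h.1.1.v 1 := congrArg (fun p => p.2.1) hgh
            have kc : g.1.1.c = h.1.1.c := congrArg (fun p => p.2.2) hgh
            have k3 : g.1.1.v 3 = h.1.1.v 3 := mul_left_cancel₀ hi (by rw [← g1, ← h1, k1])
            apply Subtype.ext
            apply Subtype.ext
            refine PG.ext ?_ kc (gi.trans hi'.symm) (gj.trans hj'.symm)
            funext k
            fin_cases k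
            · exact k0
            · exact k1
            · exact g2.trans h2.symm
            · exact k3
            · exact g4.trans h4.symm
            · exact g5.trans h5'.symm
          have := Nat.card_le_card_of_injective φ hφ
          simpa [Nat.card_prod] using this
      calc Nat.card f.range * Nat.card f.ker ≤ 5 * 125 := Nat.mul_le_mul hr h1
        _ = 5 ^ 4 := by norm_num
    · -- order 25
      have hM : Nat.card (Multiplicative (ZMod 5 × ZMod 5)) = 25 := by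
        rw [Nat.card_congr Multiplicative.toAdd, Nat.card_prod, Nat.card_zmod]
      have hd : Nat.card f.range ∣ 25 := hM ▸ Subgroup.card_subgroup_dvd_card _
      have h25 : Nat.card f.range = 25 := by
        have hd' : Nat.card f.range ∣ 5 ^ 2 := hd
        obtain ⟨k, hk, hk'⟩ := (Nat.dvd_prime_pow Nat.prime_five).1 hd'
        interval_cases k
        · rw [pow_zero] at hk'; omega
        · rw [pow_one] at hk'; omega
        · simpa using hk'
      have htop : f.range = ⊤ := Subgroup.eq_top_of_card_eq _ (by rw [h25, hM])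
      have hsurj := MonoidHom.range_eq_top.1 htop
      obtain ⟨y1, hy1⟩ := hsurj (Multiplicative.ofAdd (1, 0))
      obtain ⟨y2, hy2⟩ := hsurj (Multiplicative.ofAdd (0, 1))
      have hy1' : ((y1.1.i, y1.1.j) : ZMod 5 × ZMod 5) = (1, 0) := hy1
      have hy2' : ((y2.1.i, y2.1.j) : ZMod 5 × ZMod 5) = (0, 1) := hy2
      have i1 : y1.1.i = 1 := congrArg Prod.fst hy1'
      have j1 : y1.1.j = 0 := congrArg Prod.snd hy1'
      have i2 : y2.1.i = 0 := congrArg Prod.fst hy2'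
      have j2 : y2.1.j = 1 := congrArg Prod.snd hy2'
      have h1 : Nat.card f.ker ≤ 25 := by
        let φ : f.ker → ZMod 5 × ZMod 5 := fun g => (g.1.1.v 0, g.1.1.c)
        have hφ : Function.Injective φ := by
          intro g h hgh
          obtain ⟨gi, gj⟩ := (hf g.1).1 g.2
          obtain ⟨hi', hj'⟩ := (hf h.1).1 h.2
          have c1 := comm_fix gi gj (hA _ g.1.2 _ y1.2)
          have c2 := comm_fix gi gj (hA _ g.1.2 _ y2.2)
          have d1 := comm_fix hi' hj' (hA _ h.1.2 _ y1.2)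
          have d2 := comm_fix hi' hj' (hA _ h.1.2 _ y2.2)
          rw [i1, j1] at c1 d1
          rw [i2, j2] at c2 d2
          obtain ⟨g5, g2, g4, g1⟩ := fix_eq (by decide) c1
          obtain ⟨-, -, -, g3⟩ := fix_eq (by decide) c2
          obtain ⟨h5', h2, h4, h1⟩ := fix_eq (by decide) d1
          obtain ⟨-, -, -, h3⟩ := fix_eq (by decide) d2
          rw [zero_mul, one_mul] at g1 h1
          rw [zero_mul, one_mul] at g3 h3
          have k0 : g.1.1.v 0 = h.1.1.v 0 := congrArg Prod.fst hgh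
          have kc : g.1.1.c = h.1.1.c := congrArg Prod.snd hgh
          apply Subtype.ext
          apply Subtype.ext
          refine PG.ext ?_ kc (gi.trans hi'.symm) (gj.trans hj'.symm)
          funext k
          fin_cases k
          · exact k0
          · exact g3.trans h3.symm
          · exact g2.trans h2.symm
          · exact g1.symm.trans h1
          · exact g4.trans h4.symm
          · exact g5.trans h5'.symm
        have := Nat.card_le_card_of_injective φ hφ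
        simpa [Nat.card_prod] using this
      rw [h25]
      calc 25 * Nat.card f.ker ≤ 25 * 25 := Nat.mul_le_mul_left _ h1
        _ = 5 ^ 4 := by norm_num
  · push Not at hne
    have hall : ∀ g ∈ A, g.i = 0 ∧ g.j = 0 := fun g hg => by
      by_contra hcon
      exact hcon (hne g hg)
    have hr : Nat.card f.range = 1 := by
      rw [Subgroup.card_eq_one, eq_bot_iff]
      rintro _ ⟨g, rfl⟩
      exact (Subgroup.mem_bot).2 ((hf g).2 (hall _ g.2))
    let U : AddSubgroup V6 :=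
      { carrier := {v | ∃ g ∈ A, g.v = v}
        zero_mem' := ⟨1, A.one_mem, rfl⟩
        add_mem' := by
          rintro _ _ ⟨g, hg, rfl⟩ ⟨h, hh, rfl⟩
          refine ⟨g * h, A.mul_mem hg hh, ?_⟩
          rw [PG.mul_v, (hall g hg).1, (hall g hg).2, act_one]
        neg_mem' := by
          rintro _ ⟨g, hg, rfl⟩
          refine ⟨g⁻¹, A.inv_mem hg, ?_⟩
          rw [PG.inv_v, (hall g hg).1, (hall g hg).2, neg_zero, act_one] }
    have hU : Nat.card U ≤ 5 ^ 3 := card_isotropic U (by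
      rintro _ ⟨g, hg, rfl⟩ _ ⟨h, hh, rfl⟩
      exact comm_om (hall g hg).1 (hall g hg).2 (hall h hh).1 (hall h hh).2 (hA g hg h hh))
    have h1 : Nat.card f.ker ≤ Nat.card (U × ZMod 5) := by
      let φ : f.ker → U × ZMod 5 := fun g => (⟨g.1.1.v, g.1.1, g.1.2, rfl⟩, g.1.1.c)
      have hφ : Function.Injective φ := by
        intro g h hgh
        obtain ⟨gi, gj⟩ := (hf g.1).1 g.2
        obtain ⟨hi', hj'⟩ := (hf h.1).1 h.2
        have kv : g.1.1.v = h.1.1.v := congrArg (fun p => p.1.1) hgh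
        have kc : g.1.1.c = h.1.1.c := congrArg Prod.snd hgh
        apply Subtype.ext
        apply Subtype.ext
        exact PG.ext kv kc (gi.trans hi'.symm) (gj.trans hj'.symm)
      exact Nat.card_le_card_of_injective φ hφ
    rw [Nat.card_prod, Nat.card_zmod] at h1
    rw [hr, one_mul]
    calc Nat.card f.ker ≤ Nat.card U * 5 := h1
      _ ≤ 5 ^ 3 * 5 := Nat.mul_le_mul_right _ hU
      _ = 5 ^ 4 := by norm_num

end Cfsg.Agent.H411.M5
end

-- part: H777/M5/PGSub
section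
set_option linter.all false
open scoped Cfsg.Agent.FastGrp

/-!
# Subgroups of `PG` (helper777)

* `SW` : `5^{1+6}` (`i = j = 0`); `SL` : the second centre (order `5^2`); `SC` its centralizer (`v 5 = 0`, order `5^8`);
* `SA` : the derived subgroup of `SC` (order `5^4`);
* `SV` : the abelian subgroup of order `5^4` which is pruned; `SN = SV * SA` its normalizer (order `5^6`).
-/

set_option autoImplicit false

namespace Cfsg.Agent.H777.M5

open Cfsg.Agent.H411.M5

namespace PG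

/-- `5^{1+6}` -/
def SW : Subgroup PG where
  carrier := {y | y.i = 0 ∧ y.j = 0}
  one_mem' := ⟨rfl, rfl⟩
  mul_mem' := by
    rintro x y ⟨h1, h2⟩ ⟨h3, h4⟩
    exact ⟨by rw [mul_i, h1, h3, add_zero], by rw [mul_j, h2, h4, add_zero]⟩
  inv_mem' := by
    rintro x ⟨h1, h2⟩
    exact ⟨by rw [inv_i, h1, neg_zero], by rw [inv_j, h2, neg_zero]⟩

theorem mem_SW {y : PG} : y ∈ SW ↔ y.i = 0 ∧ y.j = 0 := Iff.rfl

/-- the centralizer of the second centre -/
def SC : Subgroup PG where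
  carrier := {y | y.v 5 = 0}
  one_mem' := rfl
  mul_mem' := by
    rintro x y (h1 : x.v 5 = 0) (h2 : y.v 5 = 0)
    show (x * y).v 5 = 0
    rw [mul_v, Pi.add_apply, act5, h1, h2, add_zero]
  inv_mem' := by
    rintro x (h1 : x.v 5 = 0)
    show (x⁻¹).v 5 = 0
    rw [inv_v, Pi.neg_apply, act5, h1, neg_zero]

theorem mem_SC {y : PG} : y ∈ SC ↔ y.v 5 = 0 := Iff.rfl

/-- the second centre -/
def SL : Subgroup PG where
  carrier := {y | y.i = 0 ∧ y.j = 0 ∧ y.v 1 = 0 ∧ y.v 2 = 0 ∧ y.v 3 = 0 ∧ y.v 4 = 0 ∧ y.v 5 = 0}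
  one_mem' := ⟨rfl, rfl, rfl, rfl, rfl, rfl, rfl⟩
  mul_mem' := by
    rintro x y ⟨h1, h2, h3, h4, h5, h6, h7⟩ ⟨k1, k2, k3, k4, k5, k6, k7⟩
    refine ⟨?_, ?_, ?_, ?_, ?_, ?_, ?_⟩ <;>
      simp [act1, act2, act3, act4, act5, h1, h2, h3, h4, h5, h6, h7, k1, k2, k3, k4, k5, k6, k7]
  inv_mem' := by
    rintro x ⟨h1, h2, h3, h4, h5, h6, h7⟩
    refine ⟨?_, ?_, ?_, ?_, ?_, ?_, ?_⟩ <;>
      simp [act1, act2, act3, act4, act5, h1, h2, h3, h4, h5, h6, h7]

theorem mem_SL {y : PG} : y ∈ SL ↔ y.i = 0 ∧ y.j = 0 ∧ y.v 1 = 0 ∧ y.v 2 = 0 ∧ y.v 3 = 0 ∧ y.v 4 = 0 ∧ y.v 5 = 0 :=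
  Iff.rfl

/-- the derived subgroup of `SC` -/
def SA : Subgroup PG where
  carrier := {y | y.i = 0 ∧ y.j = 0 ∧ y.v 2 = 0 ∧ y.v 4 = 0 ∧ y.v 5 = 0}
  one_mem' := ⟨rfl, rfl, rfl, rfl, rfl⟩
  mul_mem' := by
    rintro x y ⟨h1, h2, h3, h4, h5⟩ ⟨k1, k2, k3, k4, k5⟩
    refine ⟨?_, ?_, ?_, ?_, ?_⟩ <;>
      simp [act2, act4, act5, h1, h2, h3, h4, h5, k1, k2, k3, k4, k5]
  inv_mem' := by
    rintro x ⟨h1, h2, h3, h4, h5⟩
    refine ⟨?_, ?_, ?_, ?_, ?_⟩ <;>
      simp [act2, act4, act5, h1, h2, h3, h4, h5]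

theorem mem_SA {y : PG} : y ∈ SA ↔ y.i = 0 ∧ y.j = 0 ∧ y.v 2 = 0 ∧ y.v 4 = 0 ∧ y.v 5 = 0 := Iff.rfl

/-- the normalizer of `SV` -/
def SN : Subgroup PG where
  carrier := {y | y.v 5 = 0 ∧ y.v 4 = 2 * y.i ∧ y.v 2 = y.j}
  one_mem' := ⟨rfl, by simp, rfl⟩
  mul_mem' := by
    rintro x y ⟨h1, h2, h3⟩ ⟨k1, k2, k3⟩
    refine ⟨?_, ?_, ?_⟩
    · simp [act5, h1, k1]
    · simp [act4, h2, k1, k2]; ring
    · simp [act2, h3, k1, k3]
  inv_mem' := by
    rintro x ⟨h1, h2, h3⟩
    refine ⟨?_, ?_, ?_⟩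
    · simp [act5, h1]
    · simp [act4, h1, h2]
    · simp [act2, h1, h3]

theorem mem_SN {y : PG} : y ∈ SN ↔ y.v 5 = 0 ∧ y.v 4 = 2 * y.i ∧ y.v 2 = y.j := Iff.rfl

/-- the pruned subgroup -/
def SV : Subgroup PG where
  carrier := {y | y.v 5 = 0 ∧ y.v 4 = 2 * y.i ∧ y.v 2 = y.j ∧ y.v 1 = 2 * y.j - 2 * y.j ^ 2 - y.i ^ 2 ∧
    y.v 3 = -y.i + 2 * (y.i * y.j)}
  one_mem' := ⟨rfl, by simp, rfl, by simp, by simp⟩
  mul_mem' := by
    rintro x y ⟨h1, h2, h3, h4, h5⟩ ⟨k1, k2, k3, k4, k5⟩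
    refine ⟨?_, ?_, ?_, ?_, ?_⟩
    · simp [act5, h1, k1]
    · simp [act4, h2, k1, k2]; ring
    · simp [act2, h3, k1, k3]
    · simp only [mul_v, Pi.add_apply, act1, mul_i, mul_j, h4, k1, k2, k3, k4]
      linear_combination (x.j * y.j) * Cfsg.Agent.H411.M5.h5
    · simp only [mul_v, Pi.add_apply, act3, mul_i, mul_j, h5, k1, k2, k3, k5]
      ring
  inv_mem' := by
    rintro x ⟨h1, h2, h3, h4, h5⟩
    refine ⟨?_, ?_, ?_, ?_, ?_⟩
    · simp [act5, h1]
    · simp [act4, h1, h2]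
    · simp [act2, h1, h3]
    · simp only [inv_v, Pi.neg_apply, act1, inv_i, inv_j, h1, h2, h3, h4]
      linear_combination (x.j ^ 2) * Cfsg.Agent.H411.M5.h5
    · simp only [inv_v, Pi.neg_apply, act3, inv_i, inv_j, h1, h2, h3, h5]
      ring

theorem mem_SV {y : PG} : y ∈ SV ↔ y.v 5 = 0 ∧ y.v 4 = 2 * y.i ∧ y.v 2 = y.j ∧
    y.v 1 = 2 * y.j - 2 * y.j ^ 2 - y.i ^ 2 ∧ y.v 3 = -y.i + 2 * (y.i * y.j) := Iff.rfl

end PG

end Cfsg.Agent.H777.M5
end
end
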